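import Mathlib
import Cfsg.Prelude.Def_Blocks
import Cfsg.Agent.Lib.Blocks.SecondMain
import Cfsg.Agent.Lib.Blocks.InducedChars
import Cfsg.Agent.Lib.Blocks.Inflation
import Cfsg.Agent.Lib.Blocks.RegularSum

/-!
# The principal block at a `p`-section

For `x` a `p`-element and `χ` in the principal block, `y ↦ χ (x y)` on the `p`-regular elements of
`C(x)` only involves the principal block of `C(x)`; for `χ` outside it, it only involves the others.
-/

set_option autoImplicit false
set_option linter.style.haveILetI false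
set_option linter.unusedSectionVars false

namespace Cfsg.Agent.ZStar.Principal

open Cfsg.Agent.Blocks Cfsg.Agent.Characters
open scoped ComplexConjugate

universe u

variable {G : Type u} [Group G] [Finite G] {p : ℕ} {M : Ideal Cfsg.AlgInt}

theorem mem_principal_iff {χ : Cfsg.IrrCharacter G} :
    χ ∈ Cfsg.principalBlock M G ↔ Cfsg.SameBlock M (fun _ : G => (1 : ℂ)) (χ : G → ℂ) :=
  Iff.rfl

open scoped Classical in
theorem finsum_mem_eq_sum_filter {ι α : Type*} [Fintype ι] [AddCommMonoid α] (s : Set ι)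
    (f : ι → α) : ∑ᶠ i ∈ s, f i = ∑ i ∈ Finset.univ.filter (fun i => i ∈ s), f i := by
  rw [finsum_mem_def, finsum_eq_sum_of_fintype, Finset.sum_filter]
  exact Finset.sum_congr rfl fun i _ => Set.indicator_apply _ _ _

theorem blockOf_eq_iff (hM : Cfsg.IsPModular p M) {b : Set (Cfsg.IrrCharacter G)}
    (hb : Cfsg.IsPBlock M b) (ξ : Cfsg.IrrCharacter G) :
    Cfsg.blockOf M (ξ : G → ℂ) = b ↔ ξ ∈ b :=
  ⟨fun h => h ▸ mem_blockOf_self hM ξ, fun h =>
    block_eq_of_mem hM (isPBlock_blockOf M ξ) hb (mem_blockOf_self hM ξ) h⟩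

/-- A sum over all irreducible characters whose part on every other block vanishes is the sum
over the principal block. -/
theorem sum_eq_finsum_principal (hM : Cfsg.IsPModular p M) [Fintype (Cfsg.IrrCharacter G)]
    (f : Cfsg.IrrCharacter G → ℂ)
    (h : ∀ b, Cfsg.IsPBlock M b → b ≠ Cfsg.principalBlock M G → ∑ᶠ ξ ∈ b, f ξ = 0) :
    ∑ ξ, f ξ = ∑ᶠ ξ ∈ Cfsg.principalBlock M G, f ξ := by
  classical
  haveI := Fintype.ofFinite (Set (Cfsg.IrrCharacter G))
  rw [← Finset.sum_fiberwise Finset.univ (fun ξ : Cfsg.IrrCharacter G => Cfsg.blockOf M (ξ : G → ℂ)),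
    Finset.sum_eq_single (Cfsg.principalBlock M G) ?_ (fun h => absurd (Finset.mem_univ _) h),
    finsum_mem_eq_sum_filter]
  · exact Finset.sum_congr (Finset.filter_congr fun ξ _ =>
      blockOf_eq_iff hM (isPBlock_principal M G) ξ) fun _ _ => rfl
  · intro b _ hb
    rcases Finset.eq_empty_or_nonempty
      (Finset.univ.filter fun ξ : Cfsg.IrrCharacter G => Cfsg.blockOf M (ξ : G → ℂ) = b) with he | ⟨ξ₀, h₀⟩
    · rw [he, Finset.sum_empty]
    · have hB : Cfsg.IsPBlock M b := (Finset.mem_filter.1 h₀).2 ▸ isPBlock_blockOf M ξ₀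
      rw [← h b hB hb, finsum_mem_eq_sum_filter]
      exact Finset.sum_congr (Finset.filter_congr fun ξ _ => blockOf_eq_iff hM hB ξ) fun _ _ => rfl

/-- The function `c ↦ χ (x c)` on the centralizer of `x`. -/
def shift (x : G) (χ : G → ℂ) : Subgroup.centralizer ({x} : Set G) → ℂ :=
  fun c => χ (x * (c : G))

theorem commute_coe (x : G) (c : Subgroup.centralizer ({x} : Set G)) : Commute x (c : G) :=
  Subgroup.mem_centralizer_iff.1 c.2 x rfl

theorem isClassFunction_shift (x : G) {χ : G → ℂ} (hχ : Cfsg.IsClassFunction G χ) :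
    Cfsg.IsClassFunction _ (shift x χ) := fun g k => by
  simp only [shift, Subgroup.coe_mul, Subgroup.coe_inv]
  rw [show x * ((k : G) * g * (k : G)⁻¹) = (k : G) * (x * g) * (k : G)⁻¹ by
    rw [← mul_assoc, ← mul_assoc, (commute_coe x k).eq]; group, hχ]

theorem blockPart_shift_eq_zero (hM : Cfsg.IsPModular p M) {x : G}
    (hx : ∃ k : ℕ, orderOf x = p ^ k) (χ : Cfsg.IrrCharacter G)
    {b : Set (Cfsg.IrrCharacter (Subgroup.centralizer ({x} : Set G)))} (hb : Cfsg.IsPBlock M b)
    (hne : (χ ∈ Cfsg.principalBlock M G ∧ b ≠ Cfsg.principalBlock M _) ∨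
      (χ ∉ Cfsg.principalBlock M G ∧ b = Cfsg.principalBlock M _))
    {y : Subgroup.centralizer ({x} : Set G)} (hy : ¬ p ∣ orderOf y) :
    Cfsg.blockPart b (shift x (χ : G → ℂ)) y = 0 := by
  haveI := Fintype.ofFinite G
  have hxC : x ∈ Subgroup.centralizer ({x} : Set G) :=
    Subgroup.mem_centralizer_singleton_iff.2 rfl
  have hdef := inducedBlockDefined_of_brauer hM (zpowers_isPGroup hx)
    (Subgroup.zpowers_le.2 hxC) (fun u hu => mem_centralizer_zpowers.1 hu)
    (fun u hu => Subgroup.centralizer_le_normalizer _ (mem_centralizer_zpowers.2 hu)) hb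
  have hiff := third_main hM hdef
  refine blockPart_eq_zero_of_not_induced hM hx (isPBlock_blockOf M χ) (mem_blockOf_self hM χ) hb
    (fun hind => ?_) hy
  rcases hne with ⟨hχ, hb'⟩ | ⟨hχ, hb'⟩
  · rw [(blockOf_eq_iff hM (isPBlock_principal M G) χ).2 hχ] at hind
    exact hb' (hiff.1 hind)
  · have := isInduced_unique hM hind (hiff.2 hb')
    exact hχ ((blockOf_eq_iff hM (isPBlock_principal M G) χ).1 this)

theorem blockPart_eq_sum_mul [Fintype G] (b : Set (Cfsg.IrrCharacter G)) (θ : G → ℂ) (y : G) :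
    Cfsg.blockPart b θ y = ∑ᶠ ξ ∈ b, Cfsg.classInner θ (ξ : G → ℂ) * (ξ : G → ℂ) y := by
  rw [Cfsg.blockPart]
  exact finsum_congr fun ξ => finsum_congr fun _ => by congr 2; exact Subsingleton.elim _ _

/-- At the `p`-section of `x` a character of the principal block only sees the principal block of
the centralizer. -/
theorem shift_eq_principal (hM : Cfsg.IsPModular p M) {x : G} (hx : ∃ k : ℕ, orderOf x = p ^ k)
    {χ : Cfsg.IrrCharacter G} (hχ : χ ∈ Cfsg.principalBlock M G)
    [Fintype (Subgroup.centralizer ({x} : Set G))]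
    {y : Subgroup.centralizer ({x} : Set G)} (hy : ¬ p ∣ orderOf y) :
    shift x (χ : G → ℂ) y = ∑ᶠ ξ ∈ Cfsg.principalBlock M (Subgroup.centralizer ({x} : Set G)),
      Cfsg.classInner (shift x (χ : G → ℂ)) (ξ : _ → ℂ) * (ξ : _ → ℂ) y := by
  haveI := Fintype.ofFinite (Cfsg.IrrCharacter (Subgroup.centralizer ({x} : Set G)))
  conv_lhs => rw [classFun_eq_sum (isClassFunction_shift x (irr_isClassFunction χ))]
  simp only [Finset.sum_apply, Pi.smul_apply, smul_eq_mul]
  refine sum_eq_finsum_principal hM _ fun b hb hne => ?_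
  rw [← blockPart_eq_sum_mul]
  exact blockPart_shift_eq_zero hM hx χ hb (Or.inl ⟨hχ, hne⟩) hy

/-- Characters of the principal block are constant on `x N` for a normal `p'`-subgroup `N` of
`C(x)`. -/
theorem value_mul_of_mem (hM : Cfsg.IsPModular p M) {x : G} (hx : ∃ k : ℕ, orderOf x = p ^ k)
    {χ : Cfsg.IrrCharacter G} (hχ : χ ∈ Cfsg.principalBlock M G)
    {N : Subgroup (Subgroup.centralizer ({x} : Set G))} [N.Normal] (hN : ¬ p ∣ Nat.card N)
    {v : Subgroup.centralizer ({x} : Set G)} (hv : v ∈ N) :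
    (χ : G → ℂ) (x * (v : G)) = (χ : G → ℂ) x := by
  haveI := Fintype.ofFinite (Subgroup.centralizer ({x} : Set G))
  have hvo : ¬ p ∣ orderOf v := fun h => hN (h.trans (N.orderOf_dvd_natCard hv))
  have h1 := shift_eq_principal hM hx hχ hvo
  have h2 := shift_eq_principal hM hx hχ (y := 1) (by simp [hM.1.ne_one])
  simp only [shift, OneMemClass.coe_one, mul_one] at h1 h2
  rw [h1, h2]
  refine finsum_congr fun ξ => finsum_congr fun hξ => ?_
  rw [trivial_on_transfer hM hN (χ := trivIrr _) hξ (fun _ _ => rfl) v hv]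

/-- Outside the principal block, the section of `x` is orthogonal to every function orthogonal
to the nonprincipal blocks of the centralizer. -/
theorem regSum_shift_eq_zero (hM : Cfsg.IsPModular p M) {x : G}
    (hx : ∃ k : ℕ, orderOf x = p ^ k) {χ : Cfsg.IrrCharacter G}
    (hχ : χ ∉ Cfsg.principalBlock M G) (g : Subgroup.centralizer ({x} : Set G) → ℂ)
    (hg : ∀ ξ : Cfsg.IrrCharacter (Subgroup.centralizer ({x} : Set G)),
      ξ ∉ Cfsg.principalBlock M _ → regSum p (ξ : _ → ℂ) g = 0) :
    regSum p (shift x (χ : G → ℂ)) g = 0 := by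
  classical
  haveI := Fintype.ofFinite (Subgroup.centralizer ({x} : Set G))
  haveI := Fintype.ofFinite (Cfsg.IrrCharacter (Subgroup.centralizer ({x} : Set G)))
  have h1 : regSum p (shift x (χ : G → ℂ)) g =
      ∑ ξ : Cfsg.IrrCharacter (Subgroup.centralizer ({x} : Set G)),
        Cfsg.classInner (shift x (χ : G → ℂ)) (ξ : _ → ℂ) * regSum p (ξ : _ → ℂ) g := by
    simp only [regSum_eq_sum, Finset.mul_sum]
    rw [Finset.sum_comm]
    refine Finset.sum_congr rfl fun y _ => ?_
    by_cases hy : p ∣ orderOf y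
    · simp [hy]
    · simp only [if_pos hy]
      conv_lhs => rw [classFun_eq_sum (isClassFunction_shift x (irr_isClassFunction χ))]
      simp only [Finset.sum_apply, Pi.smul_apply, smul_eq_mul, Finset.sum_mul]
      exact Finset.sum_congr rfl fun ξ _ => by ring
  rw [h1, sum_eq_finsum_principal hM _ fun b hb hne => ?_]
  · rw [finsum_mem_eq_sum_filter]
    simp only [regSum_eq_sum, Finset.mul_sum]
    rw [Finset.sum_comm]
    refine Finset.sum_eq_zero fun y _ => ?_
    by_cases hy : p ∣ orderOf y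
    · simp [hy]
    · simp only [if_pos hy, ← mul_assoc, ← Finset.sum_mul]
      have h2 := blockPart_shift_eq_zero hM hx χ (isPBlock_principal M _) (Or.inr ⟨hχ, rfl⟩) hy
      rw [blockPart_eq_sum_mul, finsum_mem_eq_sum_filter] at h2
      rw [h2, zero_mul]
  · refine finsum_mem_eq_zero_of_forall_eq_zero fun ξ hξ => ?_
    rw [hg ξ fun h => hne (block_eq_of_mem hM hb (isPBlock_principal M _) hξ h), mul_zero]

/-- Outside the principal block the values on a `p`-section sum to zero. -/
theorem regSum_shift_one (hM : Cfsg.IsPModular p M) {x : G}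
    (hx : ∃ k : ℕ, orderOf x = p ^ k) {χ : Cfsg.IrrCharacter G}
    (hχ : χ ∉ Cfsg.principalBlock M G) :
    regSum p (shift x (χ : G → ℂ)) (fun _ => 1) = 0 :=
  regSum_shift_eq_zero hM hx hχ _ fun ξ hξ =>
    regSum_eq_zero_of_not_sameBlock hM (ψ := trivIrr _) fun h => hξ (sameBlock_symm hM h)

theorem regSum_symm [Fintype G] (p : ℕ) (φ ψ : G → ℂ) : regSum p φ ψ = conj (regSum p ψ φ) := by
  classical
  simp only [regSum_eq_sum, map_sum, apply_ite conj, map_mul, Complex.conj_conj, map_zero]
  exact Finset.sum_congr rfl fun x _ => by rw [mul_comm]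

theorem regSum_sub_smul [Fintype G] (p : ℕ) (φ g h : G → ℂ) (a : ℤ) :
    regSum p φ (fun x => g x - (a : ℂ) * h x) = regSum p φ g - (a : ℂ) * regSum p φ h := by
  classical
  simp only [regSum_eq_sum, Finset.mul_sum, ← Finset.sum_sub_distrib, map_sub, map_mul,
    map_intCast]
  exact Finset.sum_congr rfl fun x _ => by split <;> ring

/-- In the principal block, the section of `x` is orthogonal to every function orthogonal to the
principal block of the centralizer. -/
theorem regSum_shift_principal_eq_zero (hM : Cfsg.IsPModular p M) {x : G}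
    (hx : ∃ k : ℕ, orderOf x = p ^ k) {χ : Cfsg.IrrCharacter G}
    (hχ : χ ∈ Cfsg.principalBlock M G) (g : Subgroup.centralizer ({x} : Set G) → ℂ)
    (hg : ∀ ξ : Cfsg.IrrCharacter (Subgroup.centralizer ({x} : Set G)),
      ξ ∈ Cfsg.principalBlock M _ → regSum p (ξ : _ → ℂ) g = 0) :
    regSum p (shift x (χ : G → ℂ)) g = 0 := by
  classical
  haveI := Fintype.ofFinite (Subgroup.centralizer ({x} : Set G))
  haveI := Fintype.ofFinite (Cfsg.IrrCharacter (Subgroup.centralizer ({x} : Set G)))
  rw [regSum_eq_sum, ← Finset.sum_filter,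
    Finset.sum_congr rfl fun y hy => by
      rw [shift_eq_principal hM hx hχ (Finset.mem_filter.1 hy).2, finsum_mem_eq_sum_filter,
        Finset.sum_mul],
    Finset.sum_comm]
  refine Finset.sum_eq_zero fun ξ hξ => ?_
  have h := hg ξ (Finset.mem_filter.1 hξ).2
  rw [regSum_eq_sum, ← Finset.sum_filter] at h
  simp only [mul_assoc, ← Finset.mul_sum, h, mul_zero]

end Cfsg.Agent.ZStar.Principal
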