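import Mathlib
import Cfsg.Prelude.Def_Blocks
import Cfsg.Agent.Lib.ZStar.Principal
import Cfsg.Agent.Lib.CharTheory.Sections
import Cfsg.Agent.Lib.CharTheory.BrauerInduction
import Cfsg.Agent.BlockCharsA.RegularPart

/-!
# Sums over sections, and generalized characters on the singular elements

For a central involution `z`, doubling on the singular elements a `z`-invariant generalized
character that vanishes outside the regular elements and their translates by `z` gives a
generalized character again.
-/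

set_option autoImplicit false
set_option linter.style.haveILetI false
set_option linter.unusedSectionVars false

namespace Cfsg.Agent.ZStar.Sections

open Cfsg.Agent.Blocks Cfsg.Agent.Characters Cfsg.Agent.ZStar.Principal
open Cfsg.Agent.CharTheory
open scoped ComplexConjugate Classical

universe u v

variable {G : Type u} [Group G] [Fintype G]

/-- A sum over the elements with `p`-part in `X`, fibred over the `p`-part. -/
theorem sum_section {α : Type*} [AddCommMonoid α] {p : ℕ} (hp : p.Prime) (X : Finset G)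
    (hX : ∀ x ∈ X, ∃ k : ℕ, orderOf x = p ^ k) (h : G → α) :
    ∑ g ∈ Finset.univ.filter (fun g => ∃ x ∈ X, Cfsg.IsPPart p g x), h g =
      ∑ x ∈ X, ∑ s ∈ Finset.univ.filter (fun s => Commute x s ∧ ¬ p ∣ orderOf s), h (x * s) := by
  rw [Finset.sum_sigma']
  refine (Finset.sum_bij (fun q _ => q.1 * q.2) ?_ ?_ ?_ fun _ _ => rfl).symm
  · rintro ⟨x, s⟩ hq
    simp only [Finset.mem_sigma, Finset.mem_filter, Finset.mem_univ, true_and] at hq ⊢
    exact ⟨x, hq.1, s, rfl, hq.2.1, hX x hq.1, hq.2.2⟩
  · rintro ⟨x, s⟩ hq ⟨x', s'⟩ hq' he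
    simp only [Finset.mem_sigma, Finset.mem_filter, Finset.mem_univ, true_and] at hq hq'
    obtain rfl : x = x' := ppart_unique hp ⟨s, rfl, hq.2.1, hX x hq.1, hq.2.2⟩
      (he ▸ ⟨s', rfl, hq'.2.1, hX x' hq'.1, hq'.2.2⟩)
    obtain rfl := mul_left_cancel he
    rfl
  · intro g hg
    obtain ⟨x, hxX, s, hxs, hc, -, hs⟩ := (Finset.mem_filter.1 hg).2
    exact ⟨⟨x, s⟩, by simp [hxX, hc, hs], hxs⟩

/-- The sum over the regular elements commuting with `x` is a sum on the centralizer. -/
theorem sum_commute_eq_regSum (p : ℕ) (x : G) (θ : G → ℂ) :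
    ∑ s ∈ Finset.univ.filter (fun s => Commute x s ∧ ¬ p ∣ orderOf s), θ (x * s) =
      regSum p (shift x θ) (fun _ => 1) := by
  rw [regSum_eq_sum, ← Finset.sum_filter]
  symm
  refine Finset.sum_bij (fun c _ => (c : G)) (fun c hc => ?_) (fun _ _ _ _ e => Subtype.ext e)
    (fun s hs => ?_) fun c _ => by simp [shift]
  · have := (Finset.mem_filter.1 hc).2
    simp only [Finset.mem_filter, Finset.mem_univ, true_and]
    exact ⟨commute_coe x c, by rwa [Subgroup.orderOf_coe]⟩
  · have hs' := (Finset.mem_filter.1 hs).2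
    refine ⟨⟨s, Subgroup.mem_centralizer_singleton_iff.2 hs'.1.eq.symm⟩, ?_, rfl⟩
    simp only [Finset.mem_filter, Finset.mem_univ, true_and]
    rw [← Subgroup.orderOf_coe]
    exact hs'.2

/-- Irreducible characters are multiplied by a sign under a central involution. -/
theorem exists_sign {χ : G → ℂ} (hχ : Cfsg.IsIrrCharacter G χ) {z : G}
    (hz : z ∈ Subgroup.center G) (hz2 : z * z = 1) :
    ∃ w : ℤ, (w = 1 ∨ w = -1) ∧ ∀ g, χ (z * g) = (w : ℂ) * χ g := by
  obtain ⟨n, ρ, hρ, rfl⟩ := hχ
  obtain ⟨c, hc⟩ := schur_scalar ρ (ρ z) fun g v => by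
    rw [← Module.End.mul_apply, ← Module.End.mul_apply, ← map_mul, ← map_mul,
      Subgroup.mem_center_iff.1 hz g]
  have hval : ∀ g, ρ.character (z * g) = c * ρ.character g := fun g => by
    simp [Representation.character, map_mul, hc, Module.End.mul_eq_comp]
  have h1 := hval z
  have h2 := hval 1
  rw [hz2] at h1
  rw [mul_one] at h2
  rw [h2, ← mul_assoc] at h1
  have hne : ρ.character 1 ≠ 0 := by
    rw [ρ.char_one]
    exact_mod_cast (finrank_pos_of_isIrreducible ρ).ne'
  have hcc : c * c = 1 := mul_right_cancel₀ hne (by rw [← h1, one_mul])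
  rcases mul_self_eq_one_iff.1 hcc with rfl | rfl
  · exact ⟨1, Or.inl rfl, fun g => by rw [hval]; simp⟩
  · exact ⟨-1, Or.inr rfl, fun g => by rw [hval]; simp⟩

theorem orderOf_mul_regular {z g : G} (hz : orderOf z = 2) (hc : Commute z g)
    (hg : ¬ 2 ∣ orderOf g) : orderOf (z * g) = 2 * orderOf g := by
  rw [hc.orderOf_mul_eq_mul_orderOf_of_coprime
    (by rw [hz]; exact Nat.prime_two.coprime_iff_not_dvd.2 hg), hz]

/-- `f` vanishes outside the regular elements and their translates by `z`. -/
def SupportedNear (z : G) (f : G → ℂ) : Prop :=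
  ∀ g, 2 ∣ orderOf g → 2 ∣ orderOf (z * g) → f g = 0

/-- A function supported near the regular elements is summed over them and their translates. -/
theorem sum_eq_regular_add {z : G} (hz : z ∈ Subgroup.center G) (hz2 : orderOf z = 2)
    (f : G → ℂ) (hf : SupportedNear z f) :
    ∑ g, f g = ∑ g ∈ Finset.univ.filter (fun g => ¬ 2 ∣ orderOf g), (f g + f (z * g)) := by
  have hzz : z * z = 1 := by rw [← pow_two, ← hz2, pow_orderOf_eq_one]
  rw [Finset.sum_add_distrib, ← Finset.sum_filter_add_sum_filter_not Finset.univ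
    (fun g => ¬ 2 ∣ orderOf g) f]
  congr 1
  have hsing : ∀ g : G, ¬ 2 ∣ orderOf g → 2 ∣ orderOf (z * g) := fun g hg => by
    rw [orderOf_mul_regular hz2 (Subgroup.mem_center_iff.1 hz g).symm hg]
    exact dvd_mul_right 2 _
  symm
  refine Finset.sum_bij_ne_zero (fun g _ _ => z * g) (fun g hg _ => ?_)
    (fun _ _ _ _ _ _ e => mul_left_cancel e) (fun g hg hne => ?_) fun _ _ _ => rfl
  · simp only [Finset.mem_filter, Finset.mem_univ, true_and, not_not]
    exact hsing g (Finset.mem_filter.1 hg).2
  · have hg' := (Finset.mem_filter.1 hg).2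
    rw [not_not] at hg'
    refine ⟨z * g, ?_, ?_, by rw [← mul_assoc, hzz, one_mul]⟩
    · simp only [Finset.mem_filter, Finset.mem_univ, true_and]
      exact fun h => hne (hf g hg' h)
    · rwa [← mul_assoc, hzz, one_mul]

/-- Twice `f` on the singular elements, zero on the regular ones. -/
noncomputable def dbl (f : G → ℂ) : G → ℂ := fun g => if 2 ∣ orderOf g then 2 * f g else 0

theorem dbl_regular (f : G → ℂ) {g : G} (hg : ¬ 2 ∣ orderOf g) : dbl f g = 0 := if_neg hg

theorem dbl_isClassFunction {f : G → ℂ} (hf : Cfsg.IsClassFunction G f) :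
    Cfsg.IsClassFunction G (dbl f) := fun g h => by
  simp only [dbl, BlockCharsA.RegularPart.orderOf_conj', hf g h]

/-- Inner products with a doubled function are sums over the regular elements. -/
theorem classInner_dbl {z : G} (hz : z ∈ Subgroup.center G) (hz2 : orderOf z = 2) {f : G → ℂ}
    (hf : SupportedNear z f) (hinv : ∀ g, f (z * g) = f g) (θ : G → ℂ) :
    Cfsg.classInner (dbl f) θ = 2 * (Nat.card G : ℂ)⁻¹ * regSum 2 f (fun g => θ (z * g)) := by
  rw [classInner_def, sum_eq_regular_add hz hz2 _ (fun g h1 h2 => by simp [dbl, h1, hf g h1 h2]),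
    regSum_eq_sum, ← Finset.sum_filter, mul_comm (2 : ℂ), mul_assoc, Finset.mul_sum _ _ (2 : ℂ)]
  congr 1
  refine Finset.sum_congr rfl fun g hg => ?_
  have hg' := (Finset.mem_filter.1 hg).2
  rw [dbl_regular f hg', zero_mul, zero_add, dbl, if_pos (by
    rw [orderOf_mul_regular hz2 (Subgroup.mem_center_iff.1 hz g).symm hg']
    exact dvd_mul_right 2 _), hinv, mul_assoc]

/-- Inner products of `z`-invariant functions supported near the regular elements. -/
theorem classInner_near {z : G} (hz : z ∈ Subgroup.center G) (hz2 : orderOf z = 2) {f : G → ℂ}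
    (hf : SupportedNear z f) (hinv : ∀ g, f (z * g) = f g) (θ : G → ℂ)
    (hθ : ∀ g, θ (z * g) = θ g) :
    Cfsg.classInner f θ = 2 * (Nat.card G : ℂ)⁻¹ * regSum 2 f θ := by
  rw [classInner_def, sum_eq_regular_add hz hz2 _ (fun g h1 h2 => by simp [hf g h1 h2]),
    regSum_eq_sum, ← Finset.sum_filter, mul_comm (2 : ℂ), mul_assoc, Finset.mul_sum _ _ (2 : ℂ)]
  congr 1
  exact Finset.sum_congr rfl fun g _ => by rw [hinv, hθ, two_mul]

theorem classInner_dbl_one {z : G} (hz : z ∈ Subgroup.center G) (hz2 : orderOf z = 2) {f : G → ℂ}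
    (hf : SupportedNear z f) (hinv : ∀ g, f (z * g) = f g) :
    Cfsg.classInner (dbl f) (fun _ => 1) = Cfsg.classInner f (fun _ => 1) := by
  rw [classInner_dbl hz hz2 hf hinv, classInner_near hz hz2 hf hinv _ fun _ => rfl]

theorem classInner_dbl_dbl {z : G} (hz : z ∈ Subgroup.center G) (hz2 : orderOf z = 2)
    {f f' : G → ℂ} (hf : SupportedNear z f) (hinv : ∀ g, f (z * g) = f g)
    (hinv' : ∀ g, f' (z * g) = f' g) :
    Cfsg.classInner (dbl f) (dbl f') = 2 * Cfsg.classInner f f' := by
  rw [classInner_dbl hz hz2 hf hinv, classInner_near hz hz2 hf hinv _ hinv', regSum_eq_sum,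
    regSum_eq_sum]
  simp only [Finset.mul_sum]
  refine Finset.sum_congr rfl fun g _ => ?_
  by_cases hg : 2 ∣ orderOf g
  · simp [hg]
  · have : dbl f' (z * g) = 2 * f' g := by
      rw [dbl, if_pos (by
        rw [orderOf_mul_regular hz2 (Subgroup.mem_center_iff.1 hz g).symm hg]
        exact dvd_mul_right 2 _), hinv']
    simp only [if_pos hg, this, map_mul, Complex.conj_ofNat]
    ring

/-- In an elementary group, taking the regular part is an endomorphism. -/
theorem exists_regular_hom {E : Type v} [Group E] [Finite E] {q : ℕ} (hq : q.Prime)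
    (hel : Cfsg.IsElementary q E) :
    ∃ ρ : E →* E, (∀ g, ¬ 2 ∣ orderOf g → ρ g = g) ∧ (∀ g : E, g * g = 1 → ρ g = 1) := by
  set m := 2 ^ (Nat.card E).factorization 2 with hm
  set n := Nat.card E / m with hn
  have h : Nat.Coprime m n :=
    Nat.Coprime.pow_left _ (Nat.coprime_ordCompl Nat.prime_two Nat.card_pos.ne')
  have hmn : Nat.card E = m * n := (Nat.ordProj_mul_ordCompl_eq_self _ _).symm
  have hE : ∀ x : E, x ^ (m * n) = 1 := CharTheory.Sections.pow_mul_eq_one hmn
  have hE' : ∀ x : E, x ^ (n * m) = 1 := fun x => by rw [mul_comm]; exact hE x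
  set U := CharTheory.Sections.torsionPart h hE hq hel
  set V := CharTheory.Sections.torsionPart h.symm hE' hq hel
  haveI hUn : U.Normal := ⟨fun x hx y => by
    show (y * x * y⁻¹) ^ m = 1
    rw [conj_pow, show x ^ m = 1 from hx, mul_one, mul_inv_cancel]⟩
  haveI hVn : V.Normal := ⟨fun x hx y => by
    show (y * x * y⁻¹) ^ n = 1
    rw [conj_pow, show x ^ n = 1 from hx, mul_one, mul_inv_cancel]⟩
  have hdisj : Disjoint U V := by
    rw [disjoint_iff, eq_bot_iff]
    intro x hx
    rw [Subgroup.mem_bot, ← orderOf_eq_one_iff]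
    exact Nat.eq_one_of_dvd_coprimes h (orderOf_dvd_of_pow_eq_one hx.1)
      (orderOf_dvd_of_pow_eq_one hx.2)
  set ν := fun x : E => CharTheory.Sections.nPart h x
  set μ := fun x : E => CharTheory.Sections.nPart h.symm x
  have hν : ∀ x : E, ν x ^ n = 1 := CharTheory.Sections.nPart_pow h hmn
  have hμ : ∀ x : E, μ x ^ m = 1 :=
    CharTheory.Sections.nPart_pow h.symm (by rw [hmn, mul_comm])
  have hcomm : ∀ u v : E, u ^ m = 1 → v ^ n = 1 → Commute u v := fun u v hu hv =>
    Subgroup.commute_of_normal_of_disjoint U V hUn hVn hdisj u v hu hv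
  have hmul : ∀ x y : E, ν (x * y) = ν x * ν y := by
    intro x y
    have hu : (μ x * μ y) ^ m = 1 := U.mul_mem (hμ x) (hμ y)
    have hv : (ν x * ν y) ^ n = 1 := V.mul_mem (hν x) (hν y)
    have hxy : x * y = μ x * μ y * (ν x * ν y) := by
      conv_lhs => rw [← CharTheory.Sections.mPart_mul_nPart h hmn x,
        ← CharTheory.Sections.mPart_mul_nPart h hmn y]
      show μ x * ν x * (μ y * ν y) = _
      exact ((hcomm _ _ (hμ y) (hν x)).symm).mul_mul_mul_comm _ _
    rw [hxy]
    exact CharTheory.Sections.nPart_mul h (hcomm _ _ hu hv) hu hv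
  refine ⟨MonoidHom.mk' ν hmul, fun g hg => ?_, fun g hg => ?_⟩
  · refine CharTheory.Sections.pow_idem_self h (orderOf_dvd_iff_pow_eq_one.1 ?_)
    refine (Nat.Coprime.pow_right _ (Nat.prime_two.coprime_iff_not_dvd.2 hg).symm).dvd_of_dvd_mul_left
      (m := m) ?_
    rw [← hmn]
    exact orderOf_dvd_natCard g
  · rcases eq_or_ne g 1 with rfl | hg1
    · exact one_pow _
    · refine CharTheory.Sections.pow_idem_one h ?_
      have hog : orderOf g = 2 := orderOf_eq_prime (by rw [pow_two, hg]) hg1
      have h2 : 1 ≤ (Nat.card E).factorization 2 :=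
        (Nat.prime_two.pow_dvd_iff_le_factorization Nat.card_pos.ne').1
          (by rw [pow_one, ← hog]; exact orderOf_dvd_natCard g)
      rw [hm, ← Nat.sub_add_cancel h2, pow_succ, mul_comm, pow_mul, pow_two, hg, one_pow]

/-- Doubling on the singular elements preserves generalized characters. -/
theorem isGen_dbl {z : G} (hz : z ∈ Subgroup.center G) (hz2 : orderOf z = 2) {f : G → ℂ}
    (hgen : Cfsg.IsGeneralizedCharacter G f) (hf : SupportedNear z f)
    (hinv : ∀ g, f (z * g) = f g) : Cfsg.IsGeneralizedCharacter G (dbl f) := by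
  have hcl := isGen_isClassFunction hgen
  refine BrauerInduction.isGen_of_elementary (dbl_isClassFunction hcl) fun E q hq hel => ?_
  have hzz : z * z = 1 := by rw [← pow_two, ← hz2, pow_orderOf_eq_one]
  have hclE : Cfsg.IsClassFunction E (fun e : E => dbl f e) := fun a b => by
    simp only [Subgroup.coe_mul, Subgroup.coe_inv]
    exact dbl_isClassFunction hcl _ _
  by_cases hzE : z ∈ E
  swap
  · convert isGen_zero (G := E) using 1
    funext e
    simp only [Pi.zero_apply, dbl]
    split_ifs with he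
    · rw [mul_eq_zero]
      right
      by_contra hne
      have hreg : ¬ 2 ∣ orderOf (z * (e : G)) := fun h => hne (hf _ he h)
      have hord := Nat.Coprime.symm (Nat.prime_two.coprime_iff_not_dvd.2 hreg)
      -- the odd power `orderOf (z * e)` sends `e` to `z`
      obtain ⟨j, hj⟩ : Odd (orderOf (z * (e : G))) := Nat.coprime_two_right.1 hord
      have hc : Commute z (e : G) := (Subgroup.mem_center_iff.1 hz _).symm
      have h1 : z * (e : G) ^ orderOf (z * (e : G)) = 1 := by
        have h := pow_orderOf_eq_one (z * (e : G))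
        rw [hc.mul_pow] at h
        conv_lhs at h => arg 1; rw [hj, pow_succ, pow_mul, pow_two, hzz, one_pow, one_mul]
        exact h
      exact hzE (by
        rw [eq_inv_of_mul_eq_one_left h1]
        exact inv_mem (pow_mem e.2 _))
    · rfl
  haveI : Fintype E := Fintype.ofFinite E
  refine isGen_of_classInner_int hclE fun ξ hξ => ?_
  obtain ⟨ν, hν, hν1⟩ := exists_regular_hom hq hel
  set zE : E := ⟨z, hzE⟩
  have hzEc : zE ∈ Subgroup.center E :=
    Subgroup.mem_center_iff.2 fun e => Subtype.ext (Subgroup.mem_center_iff.1 hz e)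
  have hzE2 : orderOf zE = 2 := by rw [← Subgroup.orderOf_coe, hz2]
  have hfE : SupportedNear zE (fun e : E => f e) := fun e h1 h2 => hf e
    (by rwa [Subgroup.orderOf_coe]) (by rw [← Subgroup.orderOf_coe] at h2; exact h2)
  have hinvE : ∀ e : E, f ((zE * e : E) : G) = f e := fun e => hinv e
  obtain ⟨w, -, hw⟩ := exists_sign hξ hzEc (Subtype.ext hzz)
  have hΞ : Cfsg.IsGeneralizedCharacter E (ξ ∘ ν) :=
    isGen_of_isCharacter (isCharacter_comp ν (isCharacter_of_isIrr hξ))
  obtain ⟨c, hc⟩ := classInner_gen_int (isGen_restrict E hgen) hΞ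
  refine ⟨w * c, ?_⟩
  have hd : (fun e : E => dbl f (e : G)) = dbl (fun e : E => f e) :=
    funext fun e => by simp only [dbl, Subgroup.orderOf_coe]
  rw [hd, classInner_dbl hzEc hzE2 hfE hinvE]
  rw [classInner_near hzEc hzE2 hfE hinvE (ξ ∘ ν) fun e => by
    simp only [Function.comp_apply, map_mul,
      hν1 zE (Subtype.ext hzz), one_mul]] at hc
  rw [Int.cast_mul, ← hc, mul_left_comm (w : ℂ)]
  congr 1
  rw [regSum_eq_sum, regSum_eq_sum, Finset.mul_sum]
  refine Finset.sum_congr rfl fun e _ => ?_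
  by_cases he : 2 ∣ orderOf e
  · simp [he]
  · simp only [if_pos he, hw, map_mul, map_intCast, Function.comp_apply, hν e he]
    ring

/-- The regular elements map bijectively modulo a central involution. -/
theorem sum_regular_quotient {L : Type v} [Group L] [Fintype L] {z : G}
    (hz : z ∈ Subgroup.center G) (hz2 : orderOf z = 2) (π : G →* L)
    (hπ : Function.Surjective π) (hker : ∀ g, π g = 1 ↔ g = 1 ∨ g = z)
    {α : Type*} [AddCommMonoid α] (h : L → α) :
    ∑ g ∈ Finset.univ.filter (fun g : G => ¬ 2 ∣ orderOf g), h (π g) =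
      ∑ l ∈ Finset.univ.filter (fun l : L => ¬ 2 ∣ orderOf l), h l := by
  refine Finset.sum_bij (fun g _ => π g) (fun g hg => ?_) (fun g hg g' hg' e => ?_)
    (fun l hl => ?_) fun _ _ => rfl
  · simp only [Finset.mem_filter, Finset.mem_univ, true_and] at hg ⊢
    exact fun h => hg (h.trans (orderOf_map_dvd π g))
  · simp only [Finset.mem_filter, Finset.mem_univ, true_and] at hg hg'
    rcases (hker (g' * g⁻¹)).1 (by rw [map_mul, map_inv, e, mul_inv_cancel]) with h1 | h1
    · exact (mul_inv_eq_one.1 h1).symm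
    · rw [mul_inv_eq_iff_eq_mul] at h1
      subst h1
      rw [orderOf_mul_regular hz2 (Subgroup.mem_center_iff.1 hz g).symm hg] at hg'
      exact absurd (dvd_mul_right 2 _) hg'
  · simp only [Finset.mem_filter, Finset.mem_univ, true_and] at hl
    obtain ⟨g, rfl⟩ := hπ l
    obtain ⟨j, hj⟩ : Odd (orderOf (π g)) := Nat.odd_iff.2 (Nat.two_dvd_ne_zero.1 hl)
    have hreg : ∀ y : G, y ^ orderOf (π g) = 1 → ¬ 2 ∣ orderOf y := fun y hy h =>
      hl (h.trans (orderOf_dvd_of_pow_eq_one hy))
    rcases (hker (g ^ orderOf (π g))).1 (by rw [map_pow, pow_orderOf_eq_one]) with h1 | h1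
    · exact ⟨g, Finset.mem_filter.2 ⟨Finset.mem_univ _, hreg g h1⟩, rfl⟩
    · refine ⟨z * g, by
        simp only [Finset.mem_filter, Finset.mem_univ, true_and]
        refine hreg _ ?_
        rw [(show Commute z g from (Subgroup.mem_center_iff.1 hz g).symm).mul_pow, h1, hj, pow_succ,
          pow_mul, show z ^ 2 = 1 by rw [← hz2, pow_orderOf_eq_one], one_pow, one_mul, ← pow_two,
          ← hz2, pow_orderOf_eq_one], ?_⟩
      rw [map_mul, (hker z).2 (Or.inr rfl), one_mul]

end Cfsg.Agent.ZStar.Sections
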