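import Mathlib
import Cfsg.Agent.Lib.ZStar.Principal
import Cfsg.Agent.Lib.ZStar.Sections
import Cfsg.Agent.Lib.Transfer.SmallSylow

/-!
# The principal 2-block for a Klein four Sylow subgroup and one class of involutions
-/

set_option autoImplicit false
set_option linter.style.haveILetI false
set_option linter.unusedSectionVars false

namespace Cfsg.Agent.ZStar.KleinFour

open Cfsg.Agent.Blocks Cfsg.Agent.Characters Cfsg.Agent.ZStar.Principal Cfsg.Agent.ZStar.Sections
open scoped ComplexConjugate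

universe u

variable {L : Type u} [Group L] [Fintype L]

/-- Values of characters at elements of order dividing two are integers. -/
theorem exists_int_value {χ : L → ℂ} (hχ : Cfsg.IsCharacter L χ) {g : L} (hg : g * g = 1) :
    ∃ a : ℤ, χ g = (a : ℂ) := by
  obtain ⟨n, ρ, rfl⟩ := hχ
  obtain ⟨w, hw, hsum⟩ := exists_rootsOfUnity_sum ρ g
  have h1 := hsum 1
  simp only [pow_one] at h1
  have hsq : ∀ i, w i * w i = 1 := fun i => by
    rw [← pow_two]
    obtain ⟨j, hj⟩ : orderOf g ∣ 2 := orderOf_dvd_of_pow_eq_one (by rw [pow_two, hg])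
    rw [hj, pow_mul, hw i, one_pow]
  have : ∀ i, ∃ a : ℤ, w i = (a : ℂ) := fun i => by
    rcases mul_self_eq_one_iff.1 (hsq i) with h | h
    · exact ⟨1, by simp [h]⟩
    · exact ⟨-1, by simp [h]⟩
  choose a ha using this
  exact ⟨∑ i, a i, by rw [h1]; simp [ha]⟩

theorem isKleinFour_mul_self {G : Type*} [Group G] (h : IsKleinFour G) (x : G) : x * x = 1 := by
  rw [← pow_two, ← h.exponent_two, Monoid.pow_exponent_eq_one]

variable (P : Sylow 2 L) (hP : IsKleinFour (P : Subgroup L))

include hP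

theorem sylow_comm {x y : L} (hx : x ∈ (P : Subgroup L)) (hy : y ∈ (P : Subgroup L)) :
    Commute x y :=
  congrArg Subtype.val ((mul_comm_of_exponent_two hP.exponent_two
    (⟨x, hx⟩ : (P : Subgroup L)) ⟨y, hy⟩))

theorem sylow_eq {u v w : L} (hu : u ∈ (P : Subgroup L)) (hu1 : u ≠ 1)
    (hv : v ∈ (P : Subgroup L)) (hv1 : v ≠ 1) (hvu : v ≠ u) (hw : w ∈ (P : Subgroup L))
    (hw1 : w ≠ 1) (hwu : w ≠ u) : w = v ∨ w = u * v := by
  classical
  by_contra h
  rw [not_or] at h
  haveI := Fintype.ofFinite (P : Subgroup L)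
  have hcard : Fintype.card (P : Subgroup L) = 4 := by
    rw [← Nat.card_eq_fintype_card]; exact hP.card_four
  have huv1 : u * v ≠ 1 := fun e => hvu (by
    have hsq := congrArg Subtype.val (isKleinFour_mul_self hP ⟨u, hu⟩)
    exact mul_left_cancel (e.trans hsq.symm))
  have : ({⟨1, one_mem _⟩, ⟨u, hu⟩, ⟨v, hv⟩, ⟨u * v, mul_mem hu hv⟩, ⟨w, hw⟩} :
      Finset (P : Subgroup L)).card = 5 := by
    have huv_u : u * v ≠ u := fun e => hv1 (mul_eq_left.1 e)
    have huv_v : u * v ≠ v := fun e => hu1 (mul_eq_right.1 e)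
    simp [Finset.card_insert_of_notMem, hu1.symm, hv1.symm, hw1.symm, huv1.symm, hvu.symm,
      hwu.symm, huv_u.symm, huv_v.symm, Ne.symm h.1, Ne.symm h.2]
  exact absurd (this ▸ Finset.card_le_univ (α := (P : Subgroup L)) _) (by omega)

theorem sq_eq_one_of_two_element {x : L} (hx : ∃ k : ℕ, orderOf x = 2 ^ k) : x * x = 1 := by
  obtain ⟨Q, hQ⟩ := (zpowers_isPGroup hx).exists_le_sylow
  obtain ⟨c, hc⟩ := MulAction.exists_smul_eq L Q P
  have hm : c * x * c⁻¹ ∈ P := by
    rw [← hc, ← SetLike.mem_coe, Sylow.coe_smul]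
    exact ⟨x, hQ (Subgroup.mem_zpowers x), rfl⟩
  have h : c * x * c⁻¹ * (c * x * c⁻¹) = 1 := congrArg Subtype.val (isKleinFour_mul_self hP ⟨_, hm⟩)
  calc x * x = c⁻¹ * (c * x * c⁻¹ * (c * x * c⁻¹)) * c := by group
    _ = 1 := by rw [h]; group

theorem not_eight_dvd : ¬ 8 ∣ Nat.card L := by
  have h := P.card_eq_multiplicity
  rw [hP.card_four] at h
  intro h8
  have := (Nat.prime_two.pow_dvd_iff_le_factorization (k := 3) Nat.card_pos.ne').1 h8
  have h2 : (2 : ℕ) ^ 2 = 2 ^ (Nat.card L).factorization 2 := h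
  have := Nat.pow_right_injective le_rfl h2
  omega

/-- The centralizer of an involution of the Sylow subgroup has a normal `2`-complement containing
all its elements of odd order; these are a quarter of it. -/
theorem exists_complement {u : L} (hu : orderOf u = 2) (huP : u ∈ (P : Subgroup L)) :
    ∃ N : Subgroup (Subgroup.centralizer ({u} : Set L)), N.Normal ∧ ¬ 2 ∣ Nat.card N ∧
      (∀ s, s ∈ N ↔ ¬ 2 ∣ orderOf s) ∧
      4 * Nat.card N = Nat.card (Subgroup.centralizer ({u} : Set L)) := by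
  have : Fact (Nat.Prime 2) := ⟨Nat.prime_two⟩
  have hle : (P : Subgroup L) ≤ Subgroup.centralizer ({u} : Set L) := fun x hx =>
    Subgroup.mem_centralizer_singleton_iff.2 (sylow_comm P hP hx huP).eq
  set C := Subgroup.centralizer ({u} : Set L)
  set Q : Sylow 2 C := P.subtype hle
  have hQ : ∀ {x : C}, x ∈ Q ↔ (x : L) ∈ P := Iff.rfl
  haveI : IsMulCommutative ↥(Q : Subgroup C) :=
    ⟨⟨fun a b => Subtype.ext (Subtype.ext (sylow_comm P hP a.2 b.2).eq)⟩⟩
  have hN := Transfer.SmallSylow.normalizer_le_centralizer_of_forall Q fun g hg ho => ?_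
  · obtain ⟨Q', N, hNn, hNc⟩ :=
      Transfer.NormalPComplement.hasNormalPComplement_of_normalizer_le_centralizer Q hN
    haveI := hNn
    have hmem : ∀ s, s ∈ N ↔ ¬ 2 ∣ orderOf s := fun s => by
      rw [Transfer.NormalPComplement.mem_iff_coprime_of_isComplement' hNc, Nat.coprime_comm]
      exact Nat.prime_two.coprime_iff_not_dvd
    refine ⟨N, hNn, fun h => ?_, hmem, ?_⟩
    · obtain ⟨x, hx⟩ := exists_prime_orderOf_dvd_card' 2 h
      exact (hmem x).1 x.2 (by rw [Subgroup.orderOf_coe, hx])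
    · rw [← hNc.card_mul_card, Q'.card_eq_multiplicity, ← Q.card_eq_multiplicity]
      rw [show Nat.card (Q : Subgroup C) = 4 by
        rw [← hP.card_four]; exact Nat.card_congr (Subgroup.subgroupOfEquivOfLe hle).toEquiv,
        mul_comm]
  rw [Subgroup.mem_centralizer_iff]
  intro x hx
  have hx' : (x : L) ∈ (P : Subgroup L) := hx
  have hgu : (g : L) * u * (g : L)⁻¹ = u :=
    mul_inv_eq_iff_eq_mul.2 (Subgroup.mem_centralizer_singleton_iff.1 g.2)
  have hconj : ∀ y : L, y ∈ (P : Subgroup L) → (g : L) * y * (g : L)⁻¹ ∈ (P : Subgroup L) := by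
    intro y hy
    exact ((Subgroup.mem_normalizer_iff.1 hg ⟨y, hle hy⟩).1 hy)
  have hg2 : Commute ((g : L) ^ 2) (x : L) := by
    by_cases hx1 : (x : L) = 1
    · rw [hx1]; exact Commute.one_right _
    by_cases hxu : (x : L) = u
    · rw [hxu]
      exact (Commute.pow_left (mul_inv_eq_iff_eq_mul.1 hgu) 2)
    have h1 := hconj x hx'
    have hne1 : (g : L) * x * (g : L)⁻¹ ≠ 1 := fun e => hx1 (by
      calc (x : L) = (g : L)⁻¹ * ((g : L) * x * (g : L)⁻¹) * g := by group
        _ = 1 := by rw [e]; group)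
    have hneu : (g : L) * x * (g : L)⁻¹ ≠ u := fun e => hxu (by
      have := congrArg (fun t => (g : L)⁻¹ * t * g) (e.trans hgu.symm)
      simpa [mul_assoc] using this)
    refine mul_inv_eq_iff_eq_mul.1 ?_
    rw [pow_two, mul_inv_rev, show (g : L) * g * x * ((g : L)⁻¹ * (g : L)⁻¹) =
      g * (g * x * (g : L)⁻¹) * (g : L)⁻¹ by group]
    rcases sylow_eq P hP huP (fun e => by simp [e] at hu) hx' hx1 hxu h1 hne1 hneu with e | e
    · rw [e, e]
    · rw [e, show (g : L) * (u * x) * (g : L)⁻¹ = g * u * (g : L)⁻¹ * (g * x * (g : L)⁻¹) by group,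
        hgu, e, ← mul_assoc,
        show u * u = 1 by rw [← pow_two, ← hu, pow_orderOf_eq_one], one_mul]
  obtain ⟨j, hj⟩ : Odd (orderOf (g : L)) := by
    rw [Subgroup.orderOf_coe]; exact Nat.coprime_two_right.1 ho
  have hpow : (g : L) = ((g : L) ^ 2) ^ (j + 1) := by
    rw [← pow_mul, show 2 * (j + 1) = orderOf (g : L) + 1 by omega, pow_succ, pow_orderOf_eq_one,
      one_mul]
  have hc := hg2.pow_left (j + 1)
  rw [← hpow] at hc
  exact Subtype.ext hc.eq.symm

variable (hone : ∀ s t : L, orderOf s = 2 → orderOf t = 2 → IsConj s t)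

include hone

theorem exists_involution : ∃ u : L, orderOf u = 2 ∧ u ∈ (P : Subgroup L) := by
  have : Fact (Nat.Prime 2) := ⟨Nat.prime_two⟩
  obtain ⟨x, hx⟩ := exists_prime_orderOf_dvd_card' 2
    (show 2 ∣ Nat.card (P : Subgroup L) by rw [hP.card_four]; norm_num)
  exact ⟨x, by rw [Subgroup.orderOf_coe, hx], x.2⟩

theorem singular_ppart {g : L} (hg : 2 ∣ orderOf g) :
    ∃ x, orderOf x = 2 ∧ Cfsg.IsPPart 2 g x := by
  obtain ⟨x, hx⟩ := exists_ppart Nat.prime_two g
  obtain ⟨s, hxs, hc, hxo, hso⟩ := id hx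
  refine ⟨x, orderOf_eq_prime (by rw [pow_two]; exact sq_eq_one_of_two_element P hP hxo) ?_, hx⟩
  rintro rfl
  rw [one_mul] at hxs
  exact hso (hxs ▸ hg)

/-- In the principal block the value is constant on the singular elements. -/
theorem value_singular {M : Ideal Cfsg.AlgInt} (hM : Cfsg.IsPModular 2 M)
    {χ : Cfsg.IrrCharacter L} (hχ : χ ∈ Cfsg.principalBlock M L) {u g : L} (hu : orderOf u = 2)
    (hg : 2 ∣ orderOf g) : (χ : L → ℂ) g = (χ : L → ℂ) u := by
  obtain ⟨u₀, hu₀, hu₀P⟩ := exists_involution P hP hone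
  suffices h : ∀ g, 2 ∣ orderOf g → (χ : L → ℂ) g = (χ : L → ℂ) u₀ by
    rw [h g hg, h u (by rw [hu])]
  intro g hg
  obtain ⟨x, hx, s, rfl, hxs, -, hso⟩ := singular_ppart P hP hone hg
  obtain ⟨c, hc⟩ := isConj_iff.1 (hone x u₀ hx hu₀)
  obtain ⟨N, hN, hNo, hmem, -⟩ := exists_complement P hP hu₀ hu₀P
  have hsC : c * s * c⁻¹ ∈ Subgroup.centralizer ({u₀} : Set L) := by
    rw [Subgroup.mem_centralizer_singleton_iff, ← hc]
    calc c * s * c⁻¹ * (c * x * c⁻¹) = c * (s * x) * c⁻¹ := by group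
      _ = c * (x * s) * c⁻¹ := by rw [hxs.eq]
      _ = _ := by group
  have h1 : (χ : L → ℂ) (x * s) = (χ : L → ℂ) (u₀ * (c * s * c⁻¹)) := by
    rw [← irr_isClassFunction χ (x * s) c, ← hc]
    congr 1
    group
  rw [h1]
  exact value_mul_of_mem hM ⟨1, by rw [hu₀, pow_one]⟩ hχ hNo
    (v := ⟨_, hsC⟩) ((hmem _).2 (by
      rw [← Subgroup.orderOf_coe]
      show ¬ 2 ∣ orderOf (c * s * c⁻¹)
      rwa [BlockCharsA.RegularPart.orderOf_conj']))

open scoped Classical in
theorem sum_singular {α : Type*} [AddCommMonoid α] (f : L → α) :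
    ∑ g ∈ Finset.univ.filter (fun g : L => 2 ∣ orderOf g), f g =
      ∑ x ∈ Finset.univ.filter (fun x : L => orderOf x = 2),
        ∑ s ∈ Finset.univ.filter (fun s : L => Commute x s ∧ ¬ 2 ∣ orderOf s), f (x * s) := by
  refine Eq.trans (Finset.sum_congr ?_ fun _ _ => rfl) (sum_section Nat.prime_two
    (Finset.univ.filter fun x : L => orderOf x = 2)
    (fun x hx => ⟨1, by rw [(Finset.mem_filter.1 hx).2, pow_one]⟩) f)
  ext g
  simp only [Finset.mem_filter, Finset.mem_univ, true_and]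
  refine ⟨fun h => singular_ppart P hP hone h, ?_⟩
  rintro ⟨x, hx, s, rfl, hc, -, hso⟩
  rw [hc.orderOf_mul_eq_mul_orderOf_of_coprime
    (by rw [hx]; exact Nat.prime_two.coprime_iff_not_dvd.2 hso), hx]
  exact dvd_mul_right 2 _

open scoped Classical in
/-- Outside the principal block the values on the singular elements sum to zero. -/
theorem sum_singular_eq_zero {M : Ideal Cfsg.AlgInt} (hM : Cfsg.IsPModular 2 M)
    {χ : Cfsg.IrrCharacter L} (hχ : χ ∉ Cfsg.principalBlock M L) :
    ∑ g ∈ Finset.univ.filter (fun g : L => 2 ∣ orderOf g), (χ : L → ℂ) g = 0 := by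
  rw [sum_singular P hP hone]
  refine Finset.sum_eq_zero fun x hx => ?_
  rw [sum_commute_eq_regSum]
  exact regSum_shift_one hM ⟨1, by rw [(Finset.mem_filter.1 hx).2, pow_one]⟩ hχ

open scoped Classical in
theorem four_mul_card_singular :
    4 * (Finset.univ.filter (fun g : L => 2 ∣ orderOf g)).card = Nat.card L := by
  obtain ⟨u, hu, huP⟩ := exists_involution P hP hone
  set X := Finset.univ.filter (fun x : L => orderOf x = 2) with hX
  have hXcard : X.card * Nat.card (Subgroup.centralizer ({u} : Set L)) = Nat.card L := by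
    rw [← card_carrier_mul_card_centralizer u]
    congr 1
    rw [Nat.card_eq_fintype_card, ← Set.toFinset_card]
    congr 1
    ext x
    simp only [hX, Finset.mem_filter, Finset.mem_univ, true_and, Set.mem_toFinset,
      ConjClasses.mem_carrier_iff_mk_eq, ConjClasses.mk_eq_mk_iff_isConj]
    exact ⟨fun h => hone x u h hu, fun h => by
      obtain ⟨c, hc⟩ := isConj_iff.1 h
      rw [← BlockCharsA.RegularPart.orderOf_conj' x c, hc, hu]⟩
  rw [Finset.card_eq_sum_ones, sum_singular P hP hone, ← hXcard, Finset.mul_sum]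
  rw [Finset.sum_const_nat (m := Nat.card (Subgroup.centralizer ({u} : Set L))) fun x hx => ?_]
  obtain ⟨c, hc⟩ := isConj_iff.1 (hone u x hu (Finset.mem_filter.1 hx).2)
  obtain ⟨N, -, -, hmem, hcard⟩ := exists_complement P hP hu huP
  rw [← hcard, ← Finset.card_eq_sum_ones]
  congr 1
  rw [Nat.card_eq_fintype_card, ← Finset.card_univ]
  symm
  refine Finset.card_bij (fun n _ => c * ((n : _) : L) * c⁻¹) (fun n _ => ?_)
    (fun a _ b _ e => Subtype.ext (Subtype.ext (mul_left_cancel (mul_right_cancel e)))) fun s hs => ?_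
  · simp only [Finset.mem_filter, Finset.mem_univ, true_and,
      BlockCharsA.RegularPart.orderOf_conj', Subgroup.orderOf_coe]
    refine ⟨?_, ?_⟩
    · rw [← hc]
      exact (commute_coe u n.1).map (MulAut.conj c).toMonoidHom
    · rw [← Subgroup.orderOf_coe]; exact (hmem _).1 n.2
  · obtain ⟨hs1, hs2⟩ := (Finset.mem_filter.1 hs).2
    have hm : c⁻¹ * s * c ∈ Subgroup.centralizer ({u} : Set L) := by
      have h := (hs1.map (MulAut.conj c⁻¹).toMonoidHom)
      rw [← hc] at h
      simp only [MulEquiv.toMonoidHom_eq_coe, MonoidHom.coe_coe, MulAut.conj_apply, inv_inv] at h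
      rw [show c⁻¹ * (c * u * c⁻¹) * c = u by group] at h
      exact Subgroup.mem_centralizer_singleton_iff.2 h.eq.symm
    refine ⟨⟨⟨_, hm⟩, (hmem _).2 ?_⟩, Finset.mem_univ _, by group⟩
    rw [← Subgroup.orderOf_coe]
    show ¬ 2 ∣ orderOf (c⁻¹ * s * c)
    have := BlockCharsA.RegularPart.orderOf_conj' s c⁻¹
    rw [inv_inv] at this
    rwa [this]

theorem value_ne_zero {M : Ideal Cfsg.AlgInt} (hM : Cfsg.IsPModular 2 M)
    {χ : Cfsg.IrrCharacter L} (hχ : χ ∈ Cfsg.principalBlock M L) {u : L} (hu : orderOf u = 2) :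
    (χ : L → ℂ) u ≠ 0 := by
  classical
  intro h0
  haveI := Fintype.ofFinite (P : Subgroup L)
  have hne : χ ≠ trivIrr L := fun e => by rw [e] at h0; simp [trivIrr] at h0
  obtain ⟨d, hd, hdpos, hdvd⟩ := irr_degree_dvd_card χ.2
  -- four divides the degree
  obtain ⟨m, hm⟩ := classInner_char_nat (isCharacter_restrict (P : Subgroup L) (irr_isCharacter χ))
    (isCharacter_one (G := (P : Subgroup L)))
  rw [classInner_def, Finset.sum_eq_single (1 : (P : Subgroup L))
    (fun x _ hx => by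
      rw [value_singular P hP hone hM hχ hu (g := (x : L)) ?_, h0, zero_mul]
      rw [Subgroup.orderOf_coe, orderOf_eq_prime (by rw [pow_two]; exact isKleinFour_mul_self hP x)
        hx])
    (fun h => absurd (Finset.mem_univ _) h)] at hm
  have hd4 : d = 4 * m := by
    have : (d : ℂ) = 4 * (m : ℂ) := by
      rw [← hm, hP.card_four]
      simp [hd]
    exact_mod_cast this
  have hk' : Nat.card L = d * (Nat.card L / d) := (Nat.mul_div_cancel' hdvd).symm
  set n := Nat.card L / d
  -- the central element attached to `conj χ`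
  set w := ofFun (fun g : L => conj ((χ : L → ℂ) g))
  have hwc : IsCentralEl w := central_ofFun fun g a => by rw [irr_isClassFunction χ]
  have hwi : IntEl M w := fun g => by
    simp only [w, coeff_ofFun]
    exact ring_of_isIntegral hM (isIntegral_conj (char_value_isIntegral (irr_isCharacter χ) g))
  have h1 := (sameBlock_iff_omega hM (trivIrr L) χ).1 hχ w hwc hwi
  have hdC : (d : ℂ) ≠ 0 := Nat.cast_ne_zero.2 hdpos.ne'
  have e1 : omega (χ : L → ℂ) w = (n : ℂ) := by
    rw [omega, evalChar_eq_sum, hd, div_eq_iff hdC, ← Nat.cast_mul, mul_comm n d, ← hk']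
    have h := classInner_isIrr_self χ.2
    rw [classInner_def, inv_mul_eq_one₀ natCard_ne_zero] at h
    rw [h]
    exact Finset.sum_congr rfl fun g _ => by simp [w, mul_comm]
  have e0 : omega (trivIrr L : L → ℂ) w = 0 := by
    rw [omega, evalChar_eq_sum]
    have h := classInner_isIrr_ne (χ := (trivIrr L : L → ℂ)) (trivIrr L).2 χ.2
      (fun e => hne (Subtype.ext e.symm))
    rw [classInner_def, mul_eq_zero, or_iff_right (inv_ne_zero natCard_ne_zero)] at h
    rw [show ∑ g, w.coeff g * (trivIrr L : L → ℂ) g =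
      ∑ g, (trivIrr L : L → ℂ) g * conj ((χ : L → ℂ) g) from
        Finset.sum_congr rfl fun g _ => by simp [w, trivIrr], h, zero_div]
  rw [e0, e1] at h1
  obtain ⟨i, hi⟩ := (ideal_natCast_iff hM n).1 (by
    have := ideal_neg hM h1
    simpa using this)
  exact not_eight_dvd P hP ⟨m * i, by rw [hk', hd4, hi]; ring⟩

open scoped Classical in
/-- The principal block: four characters, constant `±1` on the singular elements, with signed sum
vanishing on the regular ones. -/
theorem principal {M : Ideal Cfsg.AlgInt} (hM : Cfsg.IsPModular 2 M)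
    [Fintype (Cfsg.IrrCharacter L)] :
    ∃ (B : Finset (Cfsg.IrrCharacter L)) (a : Cfsg.IrrCharacter L → ℤ),
      (∀ χ, χ ∈ B ↔ χ ∈ Cfsg.principalBlock M L) ∧ B.card = 4 ∧
      (∀ χ ∈ B, a χ = 1 ∨ a χ = -1) ∧
      (∀ χ ∈ B, ∀ g : L, 2 ∣ orderOf g → (χ : L → ℂ) g = (a χ : ℂ)) ∧
      a (trivIrr L) = 1 ∧
      (∀ g : L, ∑ χ ∈ B, (a χ : ℂ) * (χ : L → ℂ) g = if 2 ∣ orderOf g then 4 else 0) ∧
      (∀ χ ∈ B, ∃ k : ℤ, (χ : L → ℂ) 1 = (a χ : ℂ) + 4 * (k : ℂ)) := by
  haveI := Fintype.ofFinite (P : Subgroup L)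
  obtain ⟨u, hu, huP⟩ := exists_involution P hP hone
  choose a ha using fun χ : Cfsg.IrrCharacter L =>
    exists_int_value (irr_isCharacter χ) (g := u) (by rw [← pow_two, ← hu, pow_orderOf_eq_one])
  set B := Finset.univ.filter fun χ : Cfsg.IrrCharacter L => χ ∈ Cfsg.principalBlock M L with hB
  have hmem : ∀ χ, χ ∈ B ↔ χ ∈ Cfsg.principalBlock M L := fun χ => by simp [hB]
  have hval : ∀ χ ∈ B, ∀ g : L, 2 ∣ orderOf g → (χ : L → ℂ) g = (a χ : ℂ) := fun χ hχ g hg => by
    rw [value_singular P hP hone hM ((hmem χ).1 hχ) hu hg, ha]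
  set F : L → ℂ := fun g => if 2 ∣ orderOf g then 1 else 0 with hF
  have hFc : Cfsg.IsClassFunction L F := fun g h => by
    simp only [hF, BlockCharsA.RegularPart.orderOf_conj']
  have hcard := four_mul_card_singular P hP hone
  have hL : (Nat.card L : ℂ) ≠ 0 := natCard_ne_zero
  have hFin : ∀ χ : Cfsg.IrrCharacter L,
      Cfsg.classInner F (χ : L → ℂ) = if χ ∈ B then (a χ : ℂ) / 4 else 0 := by
    intro χ
    have h1 : Cfsg.classInner F (χ : L → ℂ) = (Nat.card L : ℂ)⁻¹ *
        conj (∑ g ∈ Finset.univ.filter (fun g : L => 2 ∣ orderOf g), (χ : L → ℂ) g) := by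
      rw [classInner_def, map_sum, Finset.sum_filter]
      congr 1
      exact Finset.sum_congr rfl fun g _ => by by_cases h : 2 ∣ orderOf g <;> simp [hF, h]
    split_ifs with hχ
    · rw [h1, Finset.sum_congr rfl fun g hg => hval χ hχ g (Finset.mem_filter.1 hg).2,
        Finset.sum_const, nsmul_eq_mul, map_mul, map_natCast, map_intCast, ← hcard]
      have : ((Finset.univ.filter fun g : L => 2 ∣ orderOf g).card : ℂ) ≠ 0 := by
        intro h
        apply hL
        rw [← hcard]; simp [Nat.cast_eq_zero.1 h]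
      push_cast
      field_simp
    · rw [h1, sum_singular_eq_zero P hP hone hM (fun h => hχ ((hmem χ).2 h)), map_zero, mul_zero]
  have hFsum : ∀ g : L, ∑ χ ∈ B, (a χ : ℂ) * (χ : L → ℂ) g = if 2 ∣ orderOf g then 4 else 0 := by
    intro g
    have h := congrFun (classFun_eq_sum hFc) g
    simp only [Finset.sum_apply, Pi.smul_apply, smul_eq_mul, hFin, ite_mul, zero_mul] at h
    rw [← Finset.sum_filter, Finset.filter_univ_mem] at h
    have h4 : ∑ χ ∈ B, (a χ : ℂ) * (χ : L → ℂ) g = 4 * F g := by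
      rw [h, Finset.mul_sum]
      exact Finset.sum_congr rfl fun χ _ => by ring
    rw [h4, hF]
    dsimp only
    split <;> simp
  have htriv : trivIrr L ∈ B := (hmem _).2 (trivIrr_mem_principal hM)
  have ha1 : a (trivIrr L) = 1 := by
    have h := ha (trivIrr L)
    simp only [trivIrr] at h
    exact_mod_cast h.symm
  have hne : ∀ χ ∈ B, a χ ≠ 0 := fun χ hχ h =>
    value_ne_zero P hP hone hM ((hmem χ).1 hχ) hu (by rw [ha, h, Int.cast_zero])
  have hsq : ∑ χ ∈ B, a χ * a χ = 4 := by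
    have h := hFsum u
    rw [if_pos (by rw [hu]), Finset.sum_congr rfl fun χ _ => by rw [ha χ]] at h
    exact_mod_cast h
  have hone' : ∀ χ ∈ B, a χ = 1 ∨ a χ = -1 := by
    intro χ hχ
    refine mul_self_eq_one_iff.1 ?_
    rcases eq_or_ne χ (trivIrr L) with rfl | hne'
    · rw [ha1, mul_one]
    have hle := Finset.add_le_sum (f := fun χ => a χ * a χ) (fun _ _ => mul_self_nonneg _)
      hχ htriv hne'
    simp only [hsq, ha1, mul_one] at hle
    have := hne χ hχ
    have h1 : -2 < a χ := by nlinarith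
    have h2 : a χ < 2 := by nlinarith
    rcases (show a χ = -1 ∨ a χ = 1 by omega) with h | h <;> simp [h]
  refine ⟨B, a, hmem, ?_, hone', hval, ha1, hFsum, fun χ hχ => ?_⟩
  · rw [Finset.sum_congr rfl fun χ hχ => show a χ * a χ = 1 by
      rcases hone' χ hχ with h | h <;> simp [h]] at hsq
    simp only [Finset.sum_const, nsmul_eq_mul, mul_one] at hsq
    exact_mod_cast hsq
  · obtain ⟨m, hm⟩ := classInner_char_nat
      (isCharacter_restrict (P : Subgroup L) (irr_isCharacter χ))
      (isCharacter_one (G := (P : Subgroup L)))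
    rw [classInner_def, ← Finset.add_sum_erase _ _ (Finset.mem_univ (1 : (P : Subgroup L))),
      Finset.sum_congr rfl (g := fun _ => (a χ : ℂ)) fun x hx => ?_] at hm
    · refine ⟨(m : ℤ) - a χ, ?_⟩
      rw [Finset.sum_const, Finset.card_erase_of_mem (Finset.mem_univ _), Finset.card_univ,
        ← Nat.card_eq_fintype_card, hP.card_four, nsmul_eq_mul] at hm
      push_cast
      rw [← hm]
      simp
      ring
    · rw [hval χ hχ (x : L) ?_]
      · simp
      · rw [Subgroup.orderOf_coe, orderOf_eq_prime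
          (by rw [pow_two]; exact isKleinFour_mul_self hP x) (Finset.ne_of_mem_erase hx)]

end Cfsg.Agent.ZStar.KleinFour
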