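import Mathlib
import Cfsg.Prelude.Def_TwoFusion
import Cfsg.Agent.Lib.Involutions.Isolated
import Cfsg.Agent.Lib.Characters.Kernel

/-!
# Groups in which commuting involutions are equal
-/

set_option autoImplicit false
set_option linter.style.haveILetI false
set_option linter.unusedSectionVars false

namespace Cfsg.Agent.ZStar.UniqueInvolution

open Cfsg.Agent.Involutions.Basic

universe u

variable {G : Type u} [Group G] [Finite G]

/-- Commuting involutions are equal. -/
def CommInvEq (G : Type u) [Group G] : Prop :=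
  ∀ a b : G, orderOf a = 2 → orderOf b = 2 → Commute a b → a = b

theorem isolated (hU : CommInvEq G) {z : G} (hz : orderOf z = 2) :
    Cfsg.IsIsolatedInvolution z :=
  ⟨hz, fun _ hg => (hU _ _ hz (by rw [orderOf_conj, hz]) hg).symm⟩

/-- The product of an involution with a conjugate has odd order. -/
theorem regular_pair (hU : CommInvEq G) {z : G} (hz : orderOf z = 2) (x : G) :
    ¬ 2 ∣ orderOf (z * (x * z * x⁻¹)) := by
  rw [← even_iff_two_dvd, Nat.not_even_iff_odd]
  exact Involutions.Isolated.odd_orderOf_mul (isolated hU hz) (IsConj.refl z)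
    (isConj_iff.2 ⟨x, rfl⟩)

/-- A singular element commuting with the involution `z` has it as a power. -/
theorem mem_zpowers_of_singular (hU : CommInvEq G) {z g : G} (hz : orderOf z = 2)
    (hc : Commute z g) (hg : 2 ∣ orderOf g) : z ∈ Subgroup.zpowers g := by
  obtain ⟨m, hm⟩ := hg
  have hm0 : m ≠ 0 := by
    rintro rfl
    exact (orderOf_pos g).ne' hm
  have h : orderOf (g ^ m) = 2 := by
    rw [orderOf_pow_of_dvd hm0 (Dvd.intro_left 2 hm.symm), hm, Nat.mul_div_cancel _ (Nat.pos_of_ne_zero hm0)]
  exact (hU z _ hz h (hc.pow_right m)).symm ▸ Subgroup.pow_mem _ (Subgroup.mem_zpowers g) m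

open scoped Classical in
/-- An integer vector of small norm is supported on as many entries, all `±1`. -/
theorem signs_of_norm_le {ι : Type*} (s : Finset ι) (c : ι → ℤ) (h : ∑ i ∈ s, c i * c i ≤ 3) :
    (∀ i ∈ s, c i = 0 ∨ c i = 1 ∨ c i = -1) ∧
      (((s.filter fun i => c i ≠ 0).card : ℤ) = ∑ i ∈ s, c i * c i) := by
  have hb : ∀ i ∈ s, c i = 0 ∨ c i = 1 ∨ c i = -1 := by
    intro i hi
    have h1 := Finset.single_le_sum (f := fun i => c i * c i) (fun _ _ => mul_self_nonneg _) hi

    have h2 : c i < 2 := by nlinarith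
    have h3 : -2 < c i := by nlinarith
    omega
  refine ⟨hb, ?_⟩
  rw [Finset.card_filter, Nat.cast_sum]
  refine Finset.sum_congr rfl fun i hi => ?_
  rcases hb i hi with e | e | e <;> simp [e]

end Cfsg.Agent.ZStar.UniqueInvolution
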