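import Mathlib
import Cfsg.Agent.Lib.ZStar.UniqueInvolution

/-!
# The lattice step for a quaternion Sylow subgroup of order eight

Four integral vectors (`v` and `c k`) with the inner products of the lifted generalized characters,
orthogonal to degrees and to `χ(z)²/χ(1)`: the configuration is the one of `SL(2,3)`, apart from
configurations containing a character of degree one.
-/

set_option autoImplicit false

namespace Cfsg.Agent.ZStar.Lattice

open Cfsg.Agent.ZStar.UniqueInvolution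

/-- A local check on three entries in `{0, 1, -1}` of even sum. -/
theorem even_triple {a b c : ℤ} (ha : a = 0 ∨ a = 1 ∨ a = -1) (hb : b = 0 ∨ b = 1 ∨ b = -1)
    (hc : c = 0 ∨ c = 1 ∨ c = -1) (h : 2 ∣ a + b + c) :
    a * a = a * a * (b * b) + a * a * (c * c) ∧
      (a * a + b * b + c * c = if a = 0 ∧ b = 0 ∧ c = 0 then 0 else 2) ∧
      (a = 0 ∨ b = 0 ∨ c = 0) := by
  rcases ha with rfl | rfl | rfl <;> rcases hb with rfl | rfl | rfl <;>
    rcases hc with rfl | rfl | rfl <;> first | omega | decide | simp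

theorem fin_three : ∀ k l m : Fin 3, k ≠ l → k ≠ m → l ≠ m → ∀ i : Fin 3, i = k ∨ i = l ∨ i = m := by
  decide

variable {ι : Type*} [Fintype ι] [DecidableEq ι] (o : ι) (v : ι → ℤ) (c : Fin 3 → ι → ℤ)

/-- Support of the four vectors. -/
def Supp (χ : ι) : Prop := v χ ≠ 0 ∨ ∃ k, c k χ ≠ 0

instance : DecidablePred (Supp v c) := fun χ => inferInstanceAs (Decidable (_ ∨ _))

theorem lattice (e : Fin 3 → ℤ) (y d : ι → ℤ) (hd : ∀ χ, 0 < d χ) (hd0 : d o = 1)
    (hy0 : y o = 1) (hv0 : v o = 1) (hc0 : ∀ k, c k o = 1) (he : ∑ k, e k = -1)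
    (hvv : ∑ χ, v χ * v χ = 4) (hvc : ∀ k, ∑ χ, v χ * c k χ = 0)
    (hcc : ∀ k l, ∑ χ, c k χ * c l χ = if k = l then 4 else 2)
    (hy : ∀ χ, Supp v c χ → y χ = -∑ k, c k χ * e k)
    (hpar : ∀ χ, 2 ∣ v χ + ∑ k, c k χ)
    (hvd : ∑ χ, v χ * d χ = 0) (hcd : ∀ k, ∑ χ, c k χ * d χ = 0)
    (hvw : ∑ χ, (v χ : ℚ) * ((y χ : ℚ) ^ 2 / (d χ : ℚ)) = 0)
    (hcw : ∀ k, ∑ χ, (c k χ : ℚ) * ((y χ : ℚ) ^ 2 / (d χ : ℚ)) = 0) :
    (∃ χ, χ ≠ o ∧ v χ = -1 ∧ d χ = 1) ∨
      ((∃ χ, χ ≠ o ∧ v χ ≠ 0 ∧ y χ = d χ) ∧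
        (Finset.univ.filter (Supp v c)).card = 7) := by
  classical
  set R := (Finset.univ : Finset ι).erase o with hR
  have hsplit : ∀ f : ι → ℤ, ∑ χ, f χ = f o + ∑ χ ∈ R, f χ := fun f =>
    (Finset.add_sum_erase _ _ (Finset.mem_univ o)).symm
  have hvR : ∑ χ ∈ R, v χ * v χ = 3 := by rw [hsplit, hv0] at hvv; linarith
  have hcR : ∀ k l, ∑ χ ∈ R, c k χ * c l χ = (if k = l then 4 else 2) - 1 := fun k l => by
    have h := hcc k l
    rw [hsplit, hc0, hc0] at h
    linarith
  have hvcR : ∀ k, ∑ χ ∈ R, v χ * c k χ = -1 := fun k => by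
    have h := hvc k
    rw [hsplit, hv0, hc0] at h
    linarith
  obtain ⟨hvs, hvn⟩ := signs_of_norm_le R v (le_of_eq hvR)
  have hcs : ∀ k, ∀ χ ∈ R, c k χ = 0 ∨ c k χ = 1 ∨ c k χ = -1 := fun k =>
    (signs_of_norm_le R (c k) (by rw [hcR]; simp)).1
  set A := R.filter fun χ => v χ ≠ 0 with hA
  have hA3 : A.card = 3 := by rw [hvR] at hvn; exact_mod_cast hvn
  set O := R.filter fun χ => ¬ v χ ≠ 0 with hO
  have hAO : ∀ f : ι → ℤ, ∑ χ ∈ R, f χ = ∑ χ ∈ A, f χ + ∑ χ ∈ O, f χ := fun f =>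
    (Finset.sum_filter_add_sum_filter_not R _ f).symm
  have hvA : ∀ χ ∈ A, v χ = 1 ∨ v χ = -1 := fun χ h => by
    rcases hvs χ (Finset.mem_filter.1 h).1 with h' | h' | h'
    · exact absurd h' (Finset.mem_filter.1 h).2
    · exact Or.inl h'
    · exact Or.inr h'
  have hvO : ∀ χ ∈ O, v χ = 0 := fun χ h => not_not.1 (Finset.mem_filter.1 h).2
  have hvcA : ∀ k, ∑ χ ∈ A, v χ * c k χ = -1 := fun k => by
    have h := hvcR k
    rw [hAO, Finset.sum_eq_zero (s := O) fun χ hχ => by rw [hvO χ hχ, zero_mul]] at h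
    simpa using h
  -- a row meeting all three characters of `A` gives a linear character
  by_cases hfull : ∃ k, ∀ χ ∈ A, c k χ ≠ 0
  · obtain ⟨k, hk⟩ := hfull
    left
    have hcA : ∑ χ ∈ A, c k χ * c k χ = 3 := by
      rw [Finset.sum_congr rfl fun χ hχ => show c k χ * c k χ = 1 by
        rcases (hcs k χ (Finset.mem_filter.1 hχ).1).resolve_left (hk χ hχ) with h | h <;> simp [h]]
      simp [hA3]
    have hcO : ∀ χ ∈ O, c k χ = 0 := by
      have h := hcR k k
      rw [hAO, hcA, if_pos rfl] at h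
      have h0 : ∑ χ ∈ O, c k χ * c k χ = 0 := by linarith
      intro χ hχ
      exact mul_self_eq_zero.1 ((Finset.sum_eq_zero_iff_of_nonneg fun _ _ => mul_self_nonneg _).1 h0 χ hχ)
    have hnum : ∑ χ ∈ A, (v χ + c k χ) * d χ = -2 := by
      have h1 := hvd
      have h2 := hcd k
      rw [hsplit, hAO, hv0, hd0, Finset.sum_eq_zero (s := O) fun χ hχ => by
        rw [hvO χ hχ, zero_mul]] at h1
      rw [hsplit, hAO, hc0, hd0, Finset.sum_eq_zero (s := O) fun χ hχ => by
        rw [hcO χ hχ, zero_mul]] at h2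
      simp only [add_mul, Finset.sum_add_distrib]
      linarith
    have hcount : ∑ χ ∈ A, (v χ * c k χ + 1) = 2 := by
      rw [Finset.sum_add_distrib, hvcA, Finset.sum_const, hA3]; norm_num
    have ht : ∀ χ ∈ A, (v χ * c k χ + 1 = 0 ∧ v χ + c k χ = 0) ∨
        (v χ * c k χ + 1 = 2 ∧ v χ + c k χ = 2 * v χ) := fun χ hχ => by
      rcases hvA χ hχ with h1 | h1 <;>
        rcases (hcs k χ (Finset.mem_filter.1 hχ).1).resolve_left (hk χ hχ) with h2 | h2 <;>
        simp [h1, h2]
    obtain ⟨a, ha, hane⟩ := Finset.exists_ne_zero_of_sum_ne_zero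
      (show ∑ χ ∈ A, (v χ * c k χ + 1) ≠ 0 by rw [hcount]; norm_num)
    have hone : ∀ χ ∈ A, χ ≠ a → v χ + c k χ = 0 := by
      intro χ hχ hne
      rcases ht χ hχ with h | h
      · exact h.2
      · exfalso
        have h2 := Finset.add_le_sum (f := fun χ => v χ * c k χ + 1) (fun i hi => by
          rcases ht i hi with h | h <;> omega) hχ ha hne
        simp only [hcount] at h2
        have := ((ht a ha).resolve_left fun h => hane h.1).1
        omega
    rw [Finset.sum_eq_single a (fun χ hχ hne => by rw [hone χ hχ hne, zero_mul])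
      (fun h => absurd ha h), ((ht a ha).resolve_left fun h => hane h.1).2] at hnum
    refine ⟨a, Finset.ne_of_mem_erase (Finset.mem_filter.1 ha).1, ?_⟩
    have := hd a
    rcases hvA a ha with h | h <;> rw [h] at hnum ⊢ <;> omega
  push Not at hfull
  right
  -- every row meets `A` exactly once
  have hone : ∀ k, ∃ a ∈ A, c k a = -v a ∧ ∀ χ ∈ A, χ ≠ a → c k χ = 0 := by
    intro k
    obtain ⟨χ₀, hχ₀, hz⟩ := hfull k
    obtain ⟨p, q, hpq, hA'⟩ := Finset.card_eq_two.1 (show (A.erase χ₀).card = 2 by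
      rw [Finset.card_erase_of_mem hχ₀, hA3])
    have hp : p ∈ A := Finset.mem_of_mem_erase (hA' ▸ Finset.mem_insert_self _ _)
    have hq : q ∈ A := Finset.mem_of_mem_erase (by rw [hA']; simp)
    have h := hvcA k
    rw [← Finset.add_sum_erase _ _ hχ₀, hA', Finset.sum_pair hpq, hz, mul_zero, zero_add] at h
    have hmem : ∀ χ ∈ A, χ = χ₀ ∨ χ = p ∨ χ = q := fun χ hχ => by
      by_cases h0 : χ = χ₀
      · exact Or.inl h0
      · right; simpa [hA'] using Finset.mem_erase.2 ⟨h0, hχ⟩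
    have hp0 := hcs k p (Finset.mem_filter.1 hp).1
    have hq0 := hcs k q (Finset.mem_filter.1 hq).1
    rcases hp0 with hp0 | hp0
    · refine ⟨q, hq, ?_, fun χ hχ hne => ?_⟩
      · rw [hp0, mul_zero, zero_add] at h
        rcases hvA q hq with e | e <;> rw [e] at h ⊢ <;> omega
      · rcases hmem χ hχ with rfl | rfl | rfl
        · exact hz
        · exact hp0
        · exact absurd rfl hne
    · rcases hq0 with hq0 | hq0
      · refine ⟨p, hp, ?_, fun χ hχ hne => ?_⟩
        · rw [hq0, mul_zero, add_zero] at h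
          rcases hvA p hp with e | e <;> rw [e] at h ⊢ <;> omega
        · rcases hmem χ hχ with rfl | rfl | rfl
          · exact hz
          · exact absurd rfl hne
          · exact hq0
      · exfalso
        rcases hvA p hp with e | e <;> rcases hvA q hq with f | f <;> rcases hp0 with g | g <;>
          rcases hq0 with i | i <;> rw [e, f, g, i] at h <;> norm_num at h
  choose a haA ha haz using hone
  have hsurj : ∀ χ ∈ A, ∃ k, a k = χ := by
    intro χ hχ
    by_contra hne
    push Not at hne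
    have h0 : ∑ k, c k χ = 0 := Finset.sum_eq_zero fun k _ => haz k χ hχ (Ne.symm (hne k))
    have := hpar χ
    rw [h0] at this
    rcases hvA χ hχ with e | e <;> rw [e] at this <;> norm_num at this
  have hinj : Function.Injective a := by
    have hb : Function.Bijective (fun k : Fin 3 => (⟨a k, haA k⟩ : {χ // χ ∈ A})) := by
      refine (Fintype.bijective_iff_surjective_and_card _).2 ⟨fun ⟨χ, hχ⟩ => ?_, by simp [hA3]⟩
      obtain ⟨k, hk⟩ := hsurj χ hχ
      exact ⟨k, Subtype.ext hk⟩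
    exact fun k l h => hb.1 (Subtype.ext h)
  have hother : ∀ k l, k ≠ l → c l (a k) = 0 := fun k l h =>
    haz l _ (haA k) fun e => h (hinj e)
  have hAsum : ∀ k, ∑ χ ∈ A, c k χ * c k χ = 1 := fun k => by
    rw [Finset.sum_eq_single (a k) (fun χ hχ hne => by rw [haz k χ hχ hne, zero_mul])
      (fun h => absurd (haA k) h), ha]
    rcases hvA _ (haA k) with e | e <;> simp [e]
  have hO2 : ∀ k, ∑ χ ∈ O, c k χ * c k χ = 2 := fun k => by
    have h := hcR k k
    rw [hAO, hAsum, if_pos rfl] at h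
    linarith
  have hO1 : ∀ k l, k ≠ l → ∑ χ ∈ O, c k χ * c l χ = 1 := fun k l hkl => by
    have h := hcR k l
    rw [hAO, if_neg hkl, Finset.sum_eq_zero (s := A) fun χ hχ => ?_] at h
    · linarith
    · by_cases e : χ = a k
      · rw [e, hother k l hkl, mul_zero]
      · rw [haz k χ hχ e, zero_mul]
  have htri : ∀ χ ∈ O, ∀ k l m : Fin 3, k ≠ l → k ≠ m → l ≠ m →
      2 ∣ c k χ + c l χ + c m χ := by
    intro χ hχ k l m h1 h2 h3
    have h := hpar χ
    rw [hvO χ hχ, zero_add, Fin.sum_univ_three] at h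
    fin_cases k <;> fin_cases l <;> fin_cases m <;> simp at h1 h2 h3 ⊢ <;> omega
  have hpair : ∀ k l m : Fin 3, k ≠ l → k ≠ m → l ≠ m →
      ∑ χ ∈ O, c k χ * c k χ * (c l χ * c l χ) = 1 := by
    have key : ∀ k l m : Fin 3, k ≠ l → k ≠ m → l ≠ m →
        ∑ χ ∈ O, c k χ * c k χ * (c l χ * c l χ) + ∑ χ ∈ O, c k χ * c k χ * (c m χ * c m χ) = 2 := by
      intro k l m h1 h2 h3
      rw [← hO2 k, ← Finset.sum_add_distrib]
      refine Finset.sum_congr rfl fun χ hχ => ((even_triple (hcs k χ ?_) (hcs l χ ?_) (hcs m χ ?_)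
        (htri χ hχ k l m h1 h2 h3)).1).symm
      all_goals exact (Finset.mem_filter.1 hχ).1
    intro k l m h1 h2 h3
    have e1 := key k l m h1 h2 h3
    have e2 := key l k m h1.symm h3 h2
    have e3 := key m k l h2.symm h3.symm h1
    have s1 : ∀ i j : Fin 3, ∑ χ ∈ O, c i χ * c i χ * (c j χ * c j χ) =
        ∑ χ ∈ O, c j χ * c j χ * (c i χ * c i χ) := fun i j =>
      Finset.sum_congr rfl fun _ _ => mul_comm _ _
    rw [s1 l k] at e2
    rw [s1 m k, s1 m l] at e3
    linarith
  have huniq : ∀ k l m : Fin 3, k ≠ l → k ≠ m → l ≠ m → ∃ p ∈ O, c l p = c k p ∧ c k p ≠ 0 ∧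
      ∀ χ ∈ O, χ ≠ p → c k χ = 0 ∨ c l χ = 0 := by
    intro k l m h1 h2 h3
    have h := hpair k l m h1 h2 h3
    obtain ⟨p, hp, hne⟩ := Finset.exists_ne_zero_of_sum_ne_zero (h.symm ▸ one_ne_zero :
      ∑ χ ∈ O, c k χ * c k χ * (c l χ * c l χ) ≠ 0)
    have hzero : ∀ χ ∈ O, χ ≠ p → c k χ = 0 ∨ c l χ = 0 := by
      intro χ hχ hχp
      by_contra hcon
      rw [not_or] at hcon
      have hle := Finset.add_le_sum (f := fun χ => c k χ * c k χ * (c l χ * c l χ))
        (fun _ _ => mul_nonneg (mul_self_nonneg _) (mul_self_nonneg _)) hχ hp hχp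
      simp only [h] at hle
      have e1 : 0 < c k χ * c k χ * (c l χ * c l χ) :=
        mul_pos (mul_self_pos.2 hcon.1) (mul_self_pos.2 hcon.2)
      have e2 : 0 < c k p * c k p * (c l p * c l p) :=
        lt_of_le_of_ne (mul_nonneg (mul_self_nonneg _) (mul_self_nonneg _)) (Ne.symm hne)
      omega
    have hk0 : c k p ≠ 0 := fun e => hne (by simp [e])
    refine ⟨p, hp, ?_, hk0, hzero⟩
    have h' := hO1 k l h1
    rw [Finset.sum_eq_single p (fun χ hχ hne => by rcases hzero χ hχ hne with e | e <;> simp [e])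
      (fun h => absurd hp h)] at h'
    rcases (hcs k p (Finset.mem_filter.1 hp).1).resolve_left hk0 with e | e <;> rw [e] at h' ⊢ <;>
      linarith
  obtain ⟨k, l, m, h1, h2, h3⟩ : ∃ k l m : Fin 3, k ≠ l ∧ k ≠ m ∧ l ≠ m :=
    ⟨0, 1, 2, by decide, by decide, by decide⟩
  obtain ⟨p, hp, hpl, hpl0, hpu⟩ := huniq l m k h3 h1.symm h2.symm
  have hpk : c k p = 0 := by
    have hpm : c m p ≠ 0 := by rwa [hpl]
    rcases (even_triple (hcs k p (Finset.mem_filter.1 hp).1) (hcs l p (Finset.mem_filter.1 hp).1)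
      (hcs m p (Finset.mem_filter.1 hp).1) (htri p hp k l m h1 h2 h3)).2.2 with e | e | e
    · exact e
    · exact absurd e hpl0
    · exact absurd e hpm
  -- the combination supported at `o`, `a k`, `p`
  set w : ι → ℤ := fun χ => v χ + c l χ + c m χ - c k χ with hw
  have hwo : w o = 2 := by simp [hw, hv0, hc0]
  have hwa : w (a k) = 2 * v (a k) := by
    simp only [hw, hother k l h1, hother k m h2, ha]; ring
  have hwp : w p = 2 * c l p := by simp only [hw, hvO p hp, hpk, hpl]; ring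
  have hwz : ∀ χ, χ ≠ o → χ ≠ a k → χ ≠ p → w χ = 0 := by
    intro χ hχo hχa hχp
    have hχR : χ ∈ R := Finset.mem_erase.2 ⟨hχo, Finset.mem_univ _⟩
    simp only [hw]
    by_cases hv : v χ = 0
    · have hχO : χ ∈ O := Finset.mem_filter.2 ⟨hχR, not_not.2 hv⟩
      rw [hv, zero_add]
      by_cases hk : c k χ = 0
      · rw [hk, sub_zero]
        rcases hpu χ hχO hχp with e | e
        · have := htri χ hχO k l m h1 h2 h3
          rw [hk, e, zero_add, zero_add] at this
          rcases hcs m χ hχR with f | f | f <;> rw [f] at this ⊢ <;> omega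
        · have := htri χ hχO k l m h1 h2 h3
          rw [hk, e, zero_add, add_zero] at this
          rcases hcs l χ hχR with f | f | f <;> rw [f] at this ⊢ <;> omega
      · obtain ⟨q, hq, hql, -, hqu⟩ := huniq k l m h1 h2 h3
        obtain ⟨r, hr, hrm, -, hru⟩ := huniq k m l h2 h1 h3.symm
        rcases (even_triple (hcs k χ hχR) (hcs l χ hχR) (hcs m χ hχR)
          (htri χ hχO k l m h1 h2 h3)).2.2 with e | e | e
        · exact absurd e hk
        · have hm' : c m χ ≠ 0 := fun f => by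
            have := htri χ hχO k l m h1 h2 h3
            rcases (hcs k χ hχR).resolve_left hk with g | g <;> rw [e, f, g] at this <;> omega
          have : χ = r := by_contra fun hne => (hru χ hχO hne).elim hk hm'
          rw [e, this, hrm]; ring
        · have hl' : c l χ ≠ 0 := fun f => by
            have := htri χ hχO k l m h1 h2 h3
            rcases (hcs k χ hχR).resolve_left hk with g | g <;> rw [e, f, g] at this <;> omega
          have : χ = q := by_contra fun hne => (hqu χ hχO hne).elim hk hl'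
          rw [e, this, hql]; ring
    · have hχA : χ ∈ A := Finset.mem_filter.2 ⟨hχR, hv⟩
      obtain ⟨i, hi⟩ := hsurj χ hχA
      subst hi
      have hik : i ≠ k := fun e => hχa (by rw [e])
      rw [hother i k hik]
      rcases eq_or_ne i l with rfl | hil
      · rw [ha, hother i m h3]; ring
      · have him : i = m :=
          ((fin_three k l m h1 h2 h3 i).resolve_left hik).resolve_left hil
        subst him
        rw [ha, hother i l hil]; ring
  have hao : a k ≠ o := Finset.ne_of_mem_erase (Finset.mem_filter.1 (haA k)).1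
  have hpo : p ≠ o := Finset.ne_of_mem_erase (Finset.mem_filter.1 hp).1
  have hpa : p ≠ a k := fun e => (Finset.mem_filter.1 (haA k)).2 (e ▸ hvO p hp)
  have hcomb : ∀ Z : ι → ℚ, (∑ χ, (v χ : ℚ) * Z χ = 0) → (∀ i, ∑ χ, (c i χ : ℚ) * Z χ = 0) →
      Z o + (v (a k) : ℚ) * Z (a k) + (c l p : ℚ) * Z p = 0 := by
    intro Z hvZ hcZ
    have h0 : ∑ χ, (w χ : ℚ) * Z χ = 0 := by
      simp only [hw, Int.cast_add, Int.cast_sub, add_mul, sub_mul, Finset.sum_add_distrib,
        Finset.sum_sub_distrib, hvZ, hcZ]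
      ring
    rw [← Finset.add_sum_erase _ _ (Finset.mem_univ o),
      ← Finset.add_sum_erase _ _ (Finset.mem_erase.2 ⟨hao, Finset.mem_univ _⟩),
      ← Finset.add_sum_erase _ _ (Finset.mem_erase.2 ⟨hpa, Finset.mem_erase.2 ⟨hpo, Finset.mem_univ _⟩⟩),
      Finset.sum_eq_zero fun χ hχ => ?_] at h0
    · rw [hwo, hwa, hwp] at h0
      push_cast at h0
      linarith
    · simp only [Finset.mem_erase] at hχ
      rw [hwz χ hχ.2.2.1 hχ.2.1 hχ.1, Int.cast_zero, zero_mul]
  have hya : y (a k) = v (a k) * e k := by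
    rw [hy _ (Or.inl (Finset.mem_filter.1 (haA k)).2),
      Finset.sum_eq_single k (fun i _ hi => by rw [hother k i hi.symm, zero_mul]) (by simp), ha]
    ring
  have hyp : y p = -(c l p * (e l + e m)) := by
    have hsum : ∑ i, c i p * e i = c k p * e k + c l p * e l + c m p * e m := by
      rw [Fin.sum_univ_three]
      fin_cases k <;> fin_cases l <;> fin_cases m <;> simp at h1 h2 h3 ⊢ <;> ring
    rw [hy p (Or.inr ⟨l, hpl0⟩), hsum, hpk, hpl]
    ring
  have hesum : e l + e m = -1 - e k := by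
    have h : e k + e l + e m = -1 := by
      rw [← he, Fin.sum_univ_three]
      fin_cases k <;> fin_cases l <;> fin_cases m <;> simp at h1 h2 h3 ⊢ <;> ring
    linarith
  have hD := hcomb (fun χ => (d χ : ℚ)) (by exact_mod_cast hvd) (fun i => by exact_mod_cast hcd i)
  have hW := hcomb (fun χ => (y χ : ℚ) ^ 2 / (d χ : ℚ)) hvw hcw
  simp only [hd0, hy0, hya, hyp, hesum] at hD hW
  push_cast at hD hW
  refine ⟨⟨a k, hao, (Finset.mem_filter.1 (haA k)).2, ?_⟩, ?_⟩
  · have hda : (d (a k) : ℚ) ≠ 0 := by exact_mod_cast (hd _).ne'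
    have hdp : (d p : ℚ) ≠ 0 := by exact_mod_cast (hd _).ne'
    have hv2 : (v (a k) : ℚ) * v (a k) = 1 := by
      rcases hvA _ (haA k) with e | e <;> simp [e]
    have hl2 : (c l p : ℚ) * c l p = 1 := by
      rcases (hcs l p (Finset.mem_filter.1 hp).1).resolve_left hpl0 with e | e <;> simp [e]
    set X := (v (a k) : ℚ) * d (a k) with hX
    set P := (c l p : ℚ) * d p with hP
    have hP' : P = -1 - X := by linarith
    have u1 : (v (a k) : ℚ) * (((v (a k) : ℚ) * e k) ^ 2 / d (a k)) = (e k : ℚ) ^ 2 / X := by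
      rw [eq_div_iff (mul_ne_zero (left_ne_zero_of_mul_eq_one hv2) hda), mul_pow,
        sq (v (a k) : ℚ), hv2, one_mul, mul_mul_mul_comm, hv2, one_mul, div_mul_cancel₀ _ hda]
    have u2 : (c l p : ℚ) * ((-((c l p : ℚ) * (-1 - (e k : ℚ)))) ^ 2 / d p) =
        (-1 - (e k : ℚ)) ^ 2 / P := by
      rw [eq_div_iff (mul_ne_zero (left_ne_zero_of_mul_eq_one hl2) hdp), neg_sq, mul_pow,
        sq (c l p : ℚ), hl2, one_mul, mul_mul_mul_comm, hl2, one_mul, div_mul_cancel₀ _ hdp]
    rw [u1, u2, hP'] at hW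
    have hX0 : X ≠ 0 := mul_ne_zero (left_ne_zero_of_mul_eq_one hv2) hda
    have hP0 : -1 - X ≠ 0 := hP' ▸ mul_ne_zero (left_ne_zero_of_mul_eq_one hl2) hdp
    field_simp at hW
    have hXe : (X - (e k : ℚ)) * (X - (e k : ℚ)) = 0 := by
      linear_combination -hW
    have hfin : X = e k := sub_eq_zero.1 (mul_self_eq_zero.1 hXe)
    have : ((y (a k) : ℤ) : ℚ) = (d (a k) : ℚ) := by
      rw [hya]; push_cast
      rw [← hfin, hX, ← mul_assoc, hv2, one_mul]
    exact_mod_cast this
  · -- the size of the support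
    have hsupp : ((Finset.univ.filter (Supp v c)).card : ℤ) = 7 := by
      have hS : ∀ χ ∈ O, (if Supp v c χ then (2 : ℤ) else 0) =
          c k χ * c k χ + c l χ * c l χ + c m χ * c m χ := by
        intro χ hχ
        rw [(even_triple (hcs k χ (Finset.mem_filter.1 hχ).1) (hcs l χ (Finset.mem_filter.1 hχ).1)
          (hcs m χ (Finset.mem_filter.1 hχ).1) (htri χ hχ k l m h1 h2 h3)).2.1]
        have hiff : Supp v c χ ↔ ¬ (c k χ = 0 ∧ c l χ = 0 ∧ c m χ = 0) := by
          simp only [Supp, hvO χ hχ, ne_eq, not_true_eq_false, false_or]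
          constructor
          · rintro ⟨i, hi⟩ ⟨e1, e2, e3⟩
            rcases fin_three k l m h1 h2 h3 i with rfl | rfl | rfl
            exacts [hi e1, hi e2, hi e3]
          · intro h
            by_contra hcon
            push Not at hcon
            exact h ⟨hcon k, hcon l, hcon m⟩
        by_cases hs : Supp v c χ
        · rw [if_pos hs, if_neg (hiff.1 hs)]
        · rw [if_neg hs, if_pos (not_not.1 fun h => hs (hiff.2 h))]
      have hOs : ∑ χ ∈ O, (if Supp v c χ then (1 : ℤ) else 0) = 3 := by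
        have h6 : ∑ χ ∈ O, (if Supp v c χ then (2 : ℤ) else 0) = 6 := by
          rw [Finset.sum_congr rfl hS]
          simp [Finset.sum_add_distrib, hO2]
        have : ∑ χ ∈ O, (if Supp v c χ then (2 : ℤ) else 0) =
            2 * ∑ χ ∈ O, (if Supp v c χ then (1 : ℤ) else 0) := by
          rw [Finset.mul_sum]; exact Finset.sum_congr rfl fun χ _ => by split <;> simp
        linarith
      rw [Finset.card_filter, Nat.cast_sum]
      simp only [Nat.cast_ite, Nat.cast_one, Nat.cast_zero]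
      rw [hsplit, hAO, hOs, if_pos (show Supp v c o from Or.inl (by rw [hv0]; norm_num)),
        Finset.sum_congr rfl fun χ hχ =>
          if_pos (show Supp v c χ from Or.inl (Finset.mem_filter.1 hχ).2),
        Finset.sum_const, hA3]
      norm_num
    exact_mod_cast hsupp

end Cfsg.Agent.ZStar.Lattice
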