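import Mathlib
import Cfsg.Agent.Lib.Characters.Counting
import Cfsg.Agent.Lib.Characters.Induction
import Cfsg.Agent.Lib.CharTheory.IndBasic

/-!
# Induction from functions supported on a trivial intersection set
-/

set_option autoImplicit false
set_option linter.style.haveILetI false
set_option linter.unusedSectionVars false

namespace Cfsg.Agent.ZStar.Induce

open Cfsg.Agent.Characters Cfsg.Agent.CharTheory.IndBasic
open scoped ComplexConjugate

universe u

variable {G : Type u} [Group G] [Fintype G]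

/-- Two elements of `D` are only conjugate by elements of `K`. -/
def IsTI (K : Subgroup G) (D : Set G) : Prop := ∀ x ∈ D, ∀ g : G, g * x * g⁻¹ ∈ D → g ∈ K

/-- `f` vanishes outside `D`. -/
def VanishOff {K : Subgroup G} (D : Set G) (f : K → ℂ) : Prop := ∀ k : K, (k : G) ∉ D → f k = 0

theorem indFun_coe {K : Subgroup G} {D : Set G} (hD : IsTI K D) {f : K → ℂ}
    (hfc : Cfsg.IsClassFunction K f) (hf : VanishOff D f) (k : K) (hk : (k : G) ∈ D) :
    Cfsg.indFun K f k = f k := by
  classical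
  haveI := Fintype.ofFinite K
  have hterm : ∀ x : G, Cfsg.extendByZero K f (x⁻¹ * k * x) = if x ∈ K then f k else 0 := by
    intro x
    by_cases hx : x ∈ K
    · have hm : x⁻¹ * k * x ∈ K := K.mul_mem (K.mul_mem (K.inv_mem hx) k.2) hx
      rw [if_pos hx, extendByZero_of_mem K f hm, ← hfc k (⟨x, hx⟩ : K)⁻¹]
      congr 1
      exact Subtype.ext (by simp)
    · rw [if_neg hx]
      by_cases hm : x⁻¹ * k * x ∈ K
      · rw [extendByZero_of_mem K f hm]
        refine hf _ fun hd => hx ?_
        have := hD _ hd x (by simpa [mul_assoc] using hk)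
        exact this
      · exact extendByZero_of_notMem K f hm
  rw [Cfsg.indFun, Finset.sum_congr rfl fun x _ => hterm x, ← Finset.sum_filter, Finset.sum_const,
    nsmul_eq_mul, show (Finset.univ.filter fun x : G => x ∈ K).card = Nat.card K by
      rw [Nat.card_eq_fintype_card, Fintype.card_subtype], inv_mul_cancel_left₀ natCard_ne_zero]

theorem indFun_eq_zero {K : Subgroup G} {D : Set G} {f : K → ℂ} (hf : VanishOff D f) (g : G)
    (hg : ∀ x : G, x⁻¹ * g * x ∉ D) : Cfsg.indFun K f g = 0 := by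
  rw [Cfsg.indFun, Finset.sum_eq_zero fun x _ => ?_, mul_zero]
  by_cases hm : x⁻¹ * g * x ∈ K
  · rw [extendByZero_of_mem K f hm]
    exact hf _ (hg x)
  · exact extendByZero_of_notMem K f hm

theorem classInner_indFun {K : Subgroup G} [Fintype K] {D : Set G} (hD : IsTI K D) {f f' : K → ℂ}
    (hfc : Cfsg.IsClassFunction K f) (hf : VanishOff D f) (hf' : VanishOff D f') :
    Cfsg.classInner (Cfsg.indFun K f) (Cfsg.indFun K f') = Cfsg.classInner f f' := by
  rw [frobenius_reciprocity' K f' (indFun_isClassFunction K f), classInner_def, classInner_def]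
  congr 1
  refine Finset.sum_congr rfl fun k _ => ?_
  by_cases hk : (k : G) ∈ D
  · rw [indFun_coe hD hfc hf k hk]
  · rw [hf' k hk, map_zero, mul_zero, mul_zero]

variable [Fintype (Cfsg.IrrCharacter G)]

/-- Integral coefficients of a generalized character. -/
theorem exists_coeffs {F : G → ℂ} (hF : Cfsg.IsGeneralizedCharacter G F) :
    ∃ c : Cfsg.IrrCharacter G → ℤ, ∀ χ : Cfsg.IrrCharacter G,
      Cfsg.classInner F (χ : G → ℂ) = (c χ : ℂ) := by
  choose c hc using fun χ : Cfsg.IrrCharacter G =>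
    classInner_gen_int hF (isGen_of_isCharacter (irr_isCharacter χ))
  exact ⟨c, hc⟩

theorem value_eq_sum {F : G → ℂ} (hF : Cfsg.IsClassFunction G F)
    {c : Cfsg.IrrCharacter G → ℤ} (hc : ∀ χ : Cfsg.IrrCharacter G,
      Cfsg.classInner F (χ : G → ℂ) = (c χ : ℂ)) (g : G) :
    F g = ∑ χ, (c χ : ℂ) * (χ : G → ℂ) g := by
  conv_lhs => rw [classFun_eq_sum hF]
  simp [hc]

theorem sum_mul_coeffs {F F' : G → ℂ} (hF : Cfsg.IsClassFunction G F)
    {c c' : Cfsg.IrrCharacter G → ℤ} (hc : ∀ χ : Cfsg.IrrCharacter G,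
      Cfsg.classInner F (χ : G → ℂ) = (c χ : ℂ))
    (hc' : ∀ χ : Cfsg.IrrCharacter G, Cfsg.classInner F' (χ : G → ℂ) = (c' χ : ℂ)) {z : ℤ}
    (hz : Cfsg.classInner F F' = (z : ℂ)) : ∑ χ, c χ * c' χ = z := by
  have h := classInner_eq_sum (f := F) F' hF
  rw [hz] at h
  have : ((∑ χ, c χ * c' χ : ℤ) : ℂ) = (z : ℂ) := by
    rw [h]
    push_cast
    refine Finset.sum_congr rfl fun χ _ => ?_
    rw [hc, classInner_conj_symm F' (χ : G → ℂ), hc', map_intCast]
  exact_mod_cast this

/-- If `F` vanishes on all products of two conjugates of `z`, its coefficients annihilate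
`χ(z)² / χ(1)`. -/
theorem sum_counting_eq_zero {F : G → ℂ} (hF : Cfsg.IsClassFunction G F)
    {c : Cfsg.IrrCharacter G → ℤ} (hc : ∀ χ : Cfsg.IrrCharacter G,
      Cfsg.classInner F (χ : G → ℂ) = (c χ : ℂ)) (z : G)
    (h0 : ∀ x : G, F (z * (x * z * x⁻¹)) = 0) :
    ∑ χ : Cfsg.IrrCharacter G, (c χ : ℂ) * ((χ : G → ℂ) z) ^ 2 / (χ : G → ℂ) 1 = 0 := by
  have h := Finset.sum_eq_zero (s := Finset.univ) fun x _ => h0 x
  rw [Finset.sum_congr rfl fun x _ => value_eq_sum hF hc _, Finset.sum_comm] at h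
  simp only [← Finset.mul_sum, sum_mul_conjugates (Subtype.prop (_ : Cfsg.IrrCharacter G))] at h
  rw [← mul_eq_zero_iff_left (natCard_ne_zero (G := G)), Finset.mul_sum, ← h]
  exact Finset.sum_congr rfl fun χ _ => by ring

end Cfsg.Agent.ZStar.Induce
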