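import Mathlib
import Cfsg.Agent.Lib.ZStar.Induce
import Cfsg.Agent.Lib.ZStar.UniqueInvolution
import Cfsg.Agent.Lib.ZStar.KleinFour
import Cfsg.Agent.Lib.Transfer.NormalPComplement
import Cfsg.Agent.OddChar.Induce

/-!
# Generalized quaternion Sylow subgroups of order at least sixteen

With `w` of order four in the cyclic maximal subgroup, `N = N(⟨w⟩)` carries a generalized character
`1 + α - ψ` of norm three supported on a trivial intersection set; its induced character yields a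
nonprincipal irreducible character taking the value `± χ(1)` at the involution.
-/

set_option autoImplicit false
set_option linter.style.haveILetI false
set_option linter.unusedSectionVars false

namespace Cfsg.Agent.ZStar.QuaternionLarge

open Cfsg.Agent.Characters Cfsg.Agent.ZStar.Induce Cfsg.Agent.ZStar.UniqueInvolution
open scoped ComplexConjugate

universe u

variable {G : Type u} [Group G] [Finite G]

theorem quaternion_conj {n : ℕ} (x : QuaternionGroup n) :
    x ∈ Subgroup.zpowers (QuaternionGroup.a 1 : QuaternionGroup n) ∨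
      (x ^ 4 = 1 ∧ x * QuaternionGroup.a 1 * x⁻¹ = (QuaternionGroup.a 1)⁻¹) := by
  cases x with
  | a i =>
    left
    refine Subgroup.mem_zpowers_iff.2 ⟨(i.cast : ℤ), ?_⟩
    have h : ∀ k : ℤ, (QuaternionGroup.a 1 : QuaternionGroup n) ^ k = QuaternionGroup.a (k : ZMod (2 * n)) := by
      intro k
      rcases Int.eq_nat_or_neg k with ⟨j, rfl | rfl⟩
      · simp
      · simp only [zpow_neg, zpow_natCast, QuaternionGroup.a_one_pow, Int.cast_neg, Int.cast_natCast]
        refine inv_eq_of_mul_eq_one_right ?_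
        rw [QuaternionGroup.a_mul_a, add_neg_cancel, QuaternionGroup.one_def]
    rw [h, ZMod.intCast_zmod_cast]
  | xa i =>
    right
    refine ⟨QuaternionGroup.xa_pow_four i, ?_⟩
    rw [mul_inv_eq_iff_eq_mul, eq_inv_mul_iff_mul_eq, QuaternionGroup.xa_mul_a,
      QuaternionGroup.a_mul_xa]
    congr 1
    abel

/-- The coordinates of a generalized quaternion Sylow subgroup. -/
theorem exists_gens {j : ℕ} {S : Subgroup G} (e : S ≃* QuaternionGroup (2 ^ (j + 2))) :
    ∃ a b : G, a ∈ S ∧ b ∈ S ∧ orderOf a = 2 ^ (j + 3) ∧ b * a * b⁻¹ = a⁻¹ ∧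
      ∀ x ∈ S, x ∈ Subgroup.zpowers a ∨ (x ^ 4 = 1 ∧ x * a * x⁻¹ = a⁻¹) := by
  set α := e.symm (QuaternionGroup.a 1)
  set β := e.symm (QuaternionGroup.xa 0)
  refine ⟨α, β, α.2, β.2, ?_, ?_, fun x hx => ?_⟩
  · rw [Subgroup.orderOf_coe, MulEquiv.orderOf_eq, QuaternionGroup.orderOf_a_one]
    ring
  · have h : β * α * β⁻¹ = α⁻¹ := by
      simp only [α, β, ← map_inv, ← map_mul]
      congr 1
      rcases quaternion_conj (QuaternionGroup.xa (0 : ZMod (2 * 2 ^ (j + 2)))) with h | h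
      · obtain ⟨k, hk⟩ := Subgroup.mem_zpowers_iff.1 h
        haveI : NeZero (2 ^ (j + 2)) := ⟨by positivity⟩
        obtain ⟨m, hm⟩ : ∃ m : ℕ, (QuaternionGroup.a 1 : QuaternionGroup (2 ^ (j + 2))) ^ k =
            QuaternionGroup.a 1 ^ m := by
          refine ⟨(k % orderOf (QuaternionGroup.a 1 : QuaternionGroup (2 ^ (j + 2)))).toNat, ?_⟩
          rw [← zpow_natCast, Int.toNat_of_nonneg (Int.emod_nonneg _ (by
            exact_mod_cast (orderOf_pos _).ne')), zpow_mod_orderOf]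
        rw [hm, QuaternionGroup.a_one_pow] at hk
        exact nomatch hk
      · exact h.2
    exact congrArg Subtype.val h
  · rcases quaternion_conj (e ⟨x, hx⟩) with h | ⟨h1, h2⟩
    · left
      obtain ⟨k, hk⟩ := Subgroup.mem_zpowers_iff.1 h
      refine Subgroup.mem_zpowers_iff.2 ⟨k, ?_⟩
      have := congrArg e.symm hk
      rw [map_zpow, e.symm_apply_apply] at this
      simpa using congrArg Subtype.val this
    · right
      constructor
      · have h : (⟨x, hx⟩ : S) ^ 4 = 1 := e.injective (by rw [map_pow, h1, map_one])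
        simpa using congrArg Subtype.val h
      · have h : (⟨x, hx⟩ : S) * α * (⟨x, hx⟩ : S)⁻¹ = α⁻¹ := e.injective (by
          simp only [α, map_mul, map_inv, e.apply_symm_apply]; exact h2)
        simpa using congrArg Subtype.val h

/-- The linear character of a group with cyclic Sylow `2`-subgroup that is faithful on it. -/
theorem exists_linear {C : Type u} [Group C] [Finite C] (Q : Sylow 2 C) (a : C)
    (hQ : (Q : Subgroup C) = Subgroup.zpowers a) (ha : a ≠ 1) :
    ∃ lam : C →* ℂˣ, IsPrimitiveRoot (lam a : ℂ) (orderOf a) ∧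
      (∀ c, ∃ i : ℕ, lam (a ^ i) = lam c) ∧ (∀ c, lam c = 1 ↔ ¬ 2 ∣ orderOf c) := by
  classical
  have : Fact (Nat.Prime 2) := ⟨Nat.prime_two⟩
  have hne : Nat.card C ≠ 1 := fun h => by
    have := (Nat.card_eq_one_iff_unique.1 h).1
    exact ha (Subsingleton.elim _ _)
  have h2 : (Nat.card C).minFac = 2 := by
    rw [Nat.minFac_eq_two_iff]
    obtain ⟨k, hk⟩ := Q.2.exists_card_eq
    rw [hQ, Nat.card_zpowers] at hk
    have hk0 : k ≠ 0 := fun h => ha (by rw [h, pow_zero, orderOf_eq_one_iff] at hk; exact hk)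
    exact (dvd_pow_self 2 hk0).trans (hk ▸ orderOf_dvd_natCard a)
  haveI hcyc : IsCyclic (Q : Subgroup C) := by rw [hQ]; infer_instance
  have hc := IsCyclic.isComplement' h2 (P := Q) hcyc
  set O := (MonoidHom.transferSylow Q (hcyc.normalizer_le_centralizer h2)).ker
  set f := (QuotientGroup.mk' O).comp (Q : Subgroup C).subtype with hf
  have hfinj : Function.Injective f := by
    rw [← MonoidHom.ker_eq_bot_iff, eq_bot_iff]
    intro q hq
    rw [MonoidHom.mem_ker] at hq
    have h1 : (q : C) ∈ O := (QuotientGroup.eq_one_iff _).1 hq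
    rw [Subgroup.mem_bot]
    exact Subtype.ext (Subgroup.mem_bot.1 (hc.disjoint.le_bot ⟨h1, q.2⟩))
  have hfbij : Function.Bijective f :=
    (Nat.bijective_iff_injective_and_card f).2 ⟨hfinj, hc.symm.index_eq_card.symm⟩
  set E := MulEquiv.ofBijective f hfbij
  set N := orderOf a
  have hN0 : N ≠ 0 := (orderOf_pos a).ne'
  obtain ⟨ζ, hζ⟩ : ∃ ζ : ℂˣ, IsPrimitiveRoot ζ N :=
    ⟨Units.mk0 _ ((Complex.isPrimitiveRoot_exp N hN0).ne_zero hN0),
      IsPrimitiveRoot.coe_units_iff.1 (Complex.isPrimitiveRoot_exp N hN0)⟩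
  have haQ : a ∈ (Q : Subgroup C) := hQ ▸ Subgroup.mem_zpowers a
  have hgen : ∀ q : (Q : Subgroup C), q ∈ Subgroup.zpowers (⟨a, haQ⟩ : (Q : Subgroup C)) := by
    intro q
    obtain ⟨k, hk⟩ := Subgroup.mem_zpowers_iff.1 (show (q : C) ∈ Subgroup.zpowers a from hQ ▸ q.2)
    exact Subgroup.mem_zpowers_iff.2 ⟨k, Subtype.ext (by simpa using hk)⟩
  set μ := monoidHomOfForallMemZpowers hgen (g' := ζ)
    (by rw [← hζ.eq_orderOf, ← Subgroup.orderOf_coe])
  have hμ : μ ⟨a, haQ⟩ = ζ := monoidHomOfForallMemZpowers_apply_gen _ _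
  have hμinj : Function.Injective μ := by
    rw [← MonoidHom.ker_eq_bot_iff, eq_bot_iff]
    intro q hq
    rw [MonoidHom.mem_ker] at hq
    obtain ⟨k, rfl⟩ := Subgroup.mem_zpowers_iff.1 (hgen q)
    rw [map_zpow, hμ, ← orderOf_dvd_iff_zpow_eq_one, ← hζ.eq_orderOf] at hq
    rw [Subgroup.mem_bot, ← orderOf_dvd_iff_zpow_eq_one, ← Subgroup.orderOf_coe]
    exact hq
  set lam : C →* ℂˣ := μ.comp (E.symm.toMonoidHom.comp (QuotientGroup.mk' O))
  have hla : ∀ q : (Q : Subgroup C), lam q = μ q := fun q => by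
    show μ (E.symm (QuotientGroup.mk' O q)) = μ q
    rw [show QuotientGroup.mk' O (q : C) = E q from rfl, E.symm_apply_apply]
  refine ⟨lam, ?_, fun c => ?_, fun c => ?_⟩
  · rw [hla ⟨a, haQ⟩, hμ]
    exact IsPrimitiveRoot.coe_units_iff.2 hζ
  · obtain ⟨q, hq⟩ := hfbij.2 (QuotientGroup.mk' O c)
    obtain ⟨i, hi⟩ := (mem_zpowers_iff_mem_range_orderOf.1
      (show (q : C) ∈ Subgroup.zpowers a from hQ ▸ q.2) : _) |> Finset.mem_image.1
    refine ⟨i, ?_⟩
    rw [hi.2, hla]
    show μ q = μ (E.symm (QuotientGroup.mk' O c))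
    rw [← hq, show f q = E q from rfl, E.symm_apply_apply]
  · have hker : lam c = 1 ↔ c ∈ O := by
      show μ (E.symm (QuotientGroup.mk' O c)) = 1 ↔ _
      rw [map_eq_one_iff μ hμinj, map_eq_one_iff E.symm E.symm.injective,
        QuotientGroup.mk'_apply, QuotientGroup.eq_one_iff]
    rw [hker, Transfer.NormalPComplement.mem_iff_coprime_of_isComplement' hc, Nat.coprime_comm]
    exact Nat.prime_two.coprime_iff_not_dvd

/-- The elements fixing or inverting `w`. -/
def signStab (w : G) : Subgroup G where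
  carrier := {g | g * w * g⁻¹ = w ∨ g * w * g⁻¹ = w⁻¹}
  one_mem' := Or.inl (by group)
  mul_mem' := by
    intro g h hg hh
    have e : g * h * w * (g * h)⁻¹ = g * (h * w * h⁻¹) * g⁻¹ := by group
    rcases hh with hh | hh <;> rcases hg with hg | hg
    · exact Or.inl (by rw [e, hh, hg])
    · exact Or.inr (by rw [e, hh, hg])
    · exact Or.inr (by rw [e, hh, show g * w⁻¹ * g⁻¹ = (g * w * g⁻¹)⁻¹ by group, hg])
    · exact Or.inl (by rw [e, hh, show g * w⁻¹ * g⁻¹ = (g * w * g⁻¹)⁻¹ by group, hg, inv_inv])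
  inv_mem' := by
    intro g hg
    rcases hg with hg | hg
    · left
      calc g⁻¹ * w * g⁻¹⁻¹ = g⁻¹ * (g * w * g⁻¹) * g := by rw [hg]; group
        _ = w := by group
    · right
      calc g⁻¹ * w * g⁻¹⁻¹ = (g⁻¹ * (g * w * g⁻¹) * g)⁻¹ := by rw [hg]; group
        _ = w⁻¹ := by group

/-- A nonprincipal irreducible character with `χ(z) = ± χ(1)`. -/
theorem exists_scalar [Fintype G] [Fintype (Cfsg.IrrCharacter G)] (S : Sylow 2 G) {j : ℕ}
    (e : (S : Subgroup G) ≃* QuaternionGroup (2 ^ (j + 2))) (hU : CommInvEq G) {z : G}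
    (hz : orderOf z = 2) :
    ∃ χ : Cfsg.IrrCharacter G, χ ≠ trivIrr G ∧
      (χ : G → ℂ) z * (χ : G → ℂ) z = (χ : G → ℂ) 1 * (χ : G → ℂ) 1 := by
  classical
  have : Fact (Nat.Prime 2) := ⟨Nat.prime_two⟩
  obtain ⟨a, b, haS, hbS, hao, hba, hS⟩ := exists_gens e
  set w := a ^ 2 ^ (j + 1) with hw
  have hwo : orderOf w = 4 := by
    rw [hw, orderOf_pow_of_dvd (by positivity) (by rw [hao]; exact pow_dvd_pow 2 (by omega)), hao,
      Nat.pow_div (by omega) (by norm_num)]
    norm_num [show j + 3 - (j + 1) = 2 by omega]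
  have hwne : w⁻¹ ≠ w := fun h => by
    have : orderOf w ∣ 2 := orderOf_dvd_of_pow_eq_one (by
      rw [pow_two]; nth_rw 1 [← h]; rw [inv_mul_cancel])
    rw [hwo] at this
    norm_num at this
  set C := Subgroup.centralizer ({w} : Set G) with hC
  have haC : a ∈ C := Subgroup.mem_centralizer_singleton_iff.2 (Commute.self_pow a _).eq
  have hbw : b * w * b⁻¹ = w⁻¹ := by
    rw [hw, ← inv_pow, ← hba, conj_pow]
  -- the Sylow subgroup of the centralizer
  haveI := Fintype.ofFinite C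
  set a' : C := ⟨a, haC⟩
  obtain ⟨Q, hQ⟩ := (IsPGroup.of_card (n := j + 3) (by
    rw [Nat.card_zpowers, ← Subgroup.orderOf_coe, hao]) :
      IsPGroup 2 (Subgroup.zpowers a')).exists_le_sylow
  have hQa : (Q : Subgroup C) = Subgroup.zpowers a' := by
    refine le_antisymm (fun q hq => ?_) hQ
    obtain ⟨T, hT⟩ := (Q.2.map C.subtype).exists_le_sylow
    obtain ⟨c, hc⟩ := MulAction.exists_smul_eq G T S
    have hmem : ∀ y : C, y ∈ (Q : Subgroup C) → c * (y : G) * c⁻¹ ∈ S := fun y hy => by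
      rw [← hc, ← SetLike.mem_coe, Sylow.coe_smul]
      exact ⟨y, hT ⟨y, hy, rfl⟩, rfl⟩
    have hcac : c * a * c⁻¹ ∈ Subgroup.zpowers a := by
      refine (hS _ (hmem a' (hQ (Subgroup.mem_zpowers a')))).resolve_right fun h => ?_
      have h4 : orderOf (c * a * c⁻¹) ∣ 4 := orderOf_dvd_of_pow_eq_one h.1
      rw [Involutions.Basic.orderOf_conj, hao] at h4
      have := Nat.le_of_dvd (by norm_num) h4
      have : 2 ^ 3 ≤ 2 ^ (j + 3) := Nat.pow_le_pow_right (by norm_num) (by omega)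
      omega
    have heq : Subgroup.zpowers (c * a * c⁻¹) = Subgroup.zpowers a :=
      Subgroup.eq_of_le_of_card_ge (Subgroup.zpowers_le.2 hcac)
        (by rw [Nat.card_zpowers, Nat.card_zpowers, Involutions.Basic.orderOf_conj])
    have hin : c * (q : G) * c⁻¹ ∈ Subgroup.zpowers (c * a * c⁻¹) := by
      rw [heq]
      refine (hS _ (hmem q hq)).resolve_right fun h => hwne ?_
      obtain ⟨k, hk⟩ := Subgroup.mem_zpowers_iff.1 hcac
      have hwq : Commute (q : G) w := Subgroup.mem_centralizer_singleton_iff.1 q.2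
      have hcw : c * w * c⁻¹ = (c * a * c⁻¹) ^ 2 ^ (j + 1) := by rw [hw, conj_pow]
      have h1 : c * (q : G) * c⁻¹ * (c * w * c⁻¹) * (c * (q : G) * c⁻¹)⁻¹ = (c * w * c⁻¹)⁻¹ := by
        rw [hcw, ← conj_pow, ← hk, ← conj_zpow, h.2, inv_zpow, inv_pow]
      have h2 : c * (q : G) * c⁻¹ * (c * w * c⁻¹) * (c * (q : G) * c⁻¹)⁻¹ = c * w * c⁻¹ := by
        rw [show c * (q : G) * c⁻¹ * (c * w * c⁻¹) * (c * (q : G) * c⁻¹)⁻¹ =
          c * ((q : G) * w * (q : G)⁻¹) * c⁻¹ by group, hwq.eq, mul_inv_cancel_right]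
      have h3 := h1.symm.trans h2
      calc w⁻¹ = c⁻¹ * (c * w * c⁻¹)⁻¹ * c := by group
        _ = w := by rw [h3]; group
    obtain ⟨k, hk⟩ := Subgroup.mem_zpowers_iff.1 hin
    refine Subgroup.mem_zpowers_iff.2 ⟨k, Subtype.ext ?_⟩
    rw [conj_zpow] at hk
    simpa using mul_left_cancel (mul_right_cancel hk)
  obtain ⟨lam, hlam, hlam2, hlam1⟩ := exists_linear Q a' hQa (fun h => by
    have : a = 1 := congrArg Subtype.val h
    rw [this, orderOf_one] at hao
    have : 2 ^ 3 ≤ 2 ^ (j + 3) := Nat.pow_le_pow_right (by norm_num) (by omega)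
    omega)
  rw [← Subgroup.orderOf_coe, hao] at hlam
  -- the group inverting `w`
  set N := signStab w with hN
  haveI := Fintype.ofFinite N
  have hCN : C ≤ N := fun c hc => Or.inl
    (mul_inv_eq_iff_eq_mul.2 (Subgroup.mem_centralizer_singleton_iff.1 hc))
  have hbN : b ∈ N := Or.inr hbw
  have hbC : b ∉ C := fun h => hwne (by
    rw [← hbw, mul_inv_eq_iff_eq_mul]; exact Subgroup.mem_centralizer_singleton_iff.1 h)
  set C' := C.subgroupOf N with hC'
  haveI := Fintype.ofFinite C'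
  have hmemC : ∀ n : N, n ∈ C' ↔ (n : G) * w * (n : G)⁻¹ = w := fun n => by
    rw [hC', Subgroup.mem_subgroupOf, hC, Subgroup.mem_centralizer_singleton_iff,
      mul_inv_eq_iff_eq_mul]
  haveI hC'n : C'.Normal := ⟨fun c hc n => by
    rw [hmemC] at hc ⊢
    simp only [Subgroup.coe_mul, Subgroup.coe_inv]
    rcases n.2 with hn | hn
    · have hn' : (n : G)⁻¹ * w * (n : G) = w := by
        calc (n : G)⁻¹ * w * n = (n : G)⁻¹ * ((n : G) * w * (n : G)⁻¹) * n := by rw [hn]
          _ = w := by group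
      rw [show (n : G) * c * (n : G)⁻¹ * w * ((n : G) * c * (n : G)⁻¹)⁻¹ =
        n * (c * ((n : G)⁻¹ * w * n) * (c : G)⁻¹) * (n : G)⁻¹ by group, hn', hc, hn]
    · have hn' : (n : G)⁻¹ * w * (n : G) = w⁻¹ := by
        calc (n : G)⁻¹ * w * n = ((n : G)⁻¹ * ((n : G) * w * (n : G)⁻¹) * n)⁻¹ := by rw [hn]; group
          _ = w⁻¹ := by group
      rw [show (n : G) * c * (n : G)⁻¹ * w * ((n : G) * c * (n : G)⁻¹)⁻¹ =
        n * (c * ((n : G)⁻¹ * w * n) * (c : G)⁻¹) * (n : G)⁻¹ by group, hn',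
        show (c : G) * w⁻¹ * (c : G)⁻¹ = ((c : G) * w * (c : G)⁻¹)⁻¹ by group, hc,
        show (n : G) * w⁻¹ * (n : G)⁻¹ = ((n : G) * w * (n : G)⁻¹)⁻¹ by group, hn, inv_inv]⟩
  set B : N := ⟨b, hbN⟩
  have hout : ∀ n : N, n ∉ C' → B⁻¹ * n ∈ C' := fun n hn => by
    rw [hmemC] at hn ⊢
    simp only [B, Subgroup.coe_mul, InvMemClass.coe_inv]
    rw [show b⁻¹ * (n : G) * w * (b⁻¹ * (n : G))⁻¹ = b⁻¹ * ((n : G) * w * (n : G)⁻¹) * b by group,
      n.2.resolve_left hn, ← hbw]
    group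
  -- `μ = λ²` on the centralizer inside `N`
  set toC : C' →* C := (Subgroup.subgroupOfEquivOfLe hCN).toMonoidHom with htoC
  set μ : C' →* ℂˣ := ((powMonoidHom 2).comp lam).comp toC with hμ
  have hμval : ∀ c : C', (μ c : ℂ) = (lam (toC c) : ℂ) ^ 2 := fun c => by simp [hμ]
  have hodd1 : ∀ c : C, ¬ 2 ∣ orderOf c → lam c = 1 := fun c => (hlam1 c).2
  have hinv : ∀ c c' : C, b * (c : G) * b⁻¹ = c' → lam c' = (lam c)⁻¹ := by
    intro c c' hcc
    obtain ⟨i, hi⟩ := hlam2 c
    have hai : lam (a' ^ i)⁻¹ * lam c = 1 := by rw [map_inv, hi, inv_mul_cancel]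
    have hodd : ¬ 2 ∣ orderOf ((a' ^ i)⁻¹ * c) := (hlam1 _).1 (by rw [map_mul, hai])
    have h1 : lam (a' ^ i * c') = 1 := hodd1 _ (by
      rw [← Subgroup.orderOf_coe, show ((a' ^ i * c' : C) : G) = b * (((a' ^ i)⁻¹ * c : C) : G) * b⁻¹ by
        simp only [Subgroup.coe_mul, Subgroup.coe_inv, SubmonoidClass.coe_pow, ← hcc, a']
        rw [show b * ((a ^ i)⁻¹ * (c : G)) * b⁻¹ = (b * (a ^ i)⁻¹ * b⁻¹) * (b * c * b⁻¹) by group,
          ← inv_pow, ← conj_pow, show b * a⁻¹ * b⁻¹ = (b * a * b⁻¹)⁻¹ by group, hba, inv_inv],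
        Involutions.Basic.orderOf_conj, Subgroup.orderOf_coe]
      exact hodd)
    rw [map_mul, hi] at h1
    exact eq_inv_of_mul_eq_one_right h1
  -- the sign character and the induced one
  have hidx : C'.index = 2 := Subgroup.index_eq_two_iff.2 ⟨B⁻¹, fun n => by
    by_cases hn : n ∈ C'
    · right
      refine ⟨hn, fun h => hbC ?_⟩
      have : B⁻¹ ∈ C' := (C'.mul_mem_cancel_left hn).1 h
      simpa [hC', B, Subgroup.mem_subgroupOf] using C'.inv_mem this
    · left
      exact ⟨(Subgroup.Normal.mem_comm_iff hC'n).1 (hout n hn), hn⟩⟩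
  have hcardN : Nat.card N = 2 * Nat.card C' := by rw [← C'.card_mul_index, hidx, mul_comm]
  have hC'0 : (Nat.card C' : ℂ) ≠ 0 := natCard_ne_zero
  set μc : C' → ℂ := fun c => (μ c : ℂ) with hμc
  set ψ := Cfsg.indFun C' μc with hψ
  have hψ_mem : ∀ c : C', ψ c = μc c + (μc c)⁻¹ := by
    intro c
    rw [hψ, Cfsg.indFun, ← Finset.sum_filter_add_sum_filter_not Finset.univ (fun x : N => x ∈ C')]
    have hin : ∀ x ∈ Finset.univ.filter (fun x : N => x ∈ C'),
        Cfsg.extendByZero C' μc (x⁻¹ * (c : N) * x) = μc c := fun x hx => by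
      have hx' := (Finset.mem_filter.1 hx).2
      rw [CharTheory.IndBasic.extendByZero_of_mem C' μc
        (C'.mul_mem (C'.mul_mem (C'.inv_mem hx') c.2) hx')]
      show (μ _ : ℂ) = (μ c : ℂ)
      congr 1
      rw [show (⟨x⁻¹ * (c : N) * x, C'.mul_mem (C'.mul_mem (C'.inv_mem hx') c.2) hx'⟩ : C') =
        ⟨x, hx'⟩⁻¹ * c * ⟨x, hx'⟩ from rfl, map_mul, map_mul, map_inv, mul_comm (_)⁻¹ _,
        mul_assoc, inv_mul_cancel, mul_one]
    have hnin : ∀ x ∈ Finset.univ.filter (fun x : N => ¬ x ∈ C'),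
        Cfsg.extendByZero C' μc (x⁻¹ * (c : N) * x) = (μc c)⁻¹ := fun x hx => by
      have hx' := hout x (Finset.mem_filter.1 hx).2
      set r : C' := ⟨B⁻¹ * x, hx'⟩
      have hm : B⁻¹ * (c : N) * B ∈ C' := by
        simpa using hC'n.conj_mem (c : N) c.2 B⁻¹
      set m : C' := ⟨B⁻¹ * (c : N) * B, hm⟩
      have he : x⁻¹ * (c : N) * x = ((r⁻¹ * m * r : C') : N) := by
        simp only [r, m, Subgroup.coe_mul, Subgroup.coe_inv]
        group
      rw [he, CharTheory.IndBasic.extendByZero_coe]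
      show (μ _ : ℂ) = (μ c : ℂ)⁻¹
      rw [map_mul, map_mul, map_inv, mul_comm (_)⁻¹ _, mul_assoc, inv_mul_cancel, mul_one,
        hμval, hμval, hinv (toC m) (toC c) (by
          show b * ((m : N) : G) * b⁻¹ = ((c : N) : G)
          simp only [m, B, Subgroup.coe_mul, InvMemClass.coe_inv]
          group), Units.val_inv_eq_inv_val, inv_pow, inv_inv]
    have hcin : (Finset.univ.filter fun x : N => x ∈ C').card = Nat.card C' := by
      rw [Nat.card_eq_fintype_card, Fintype.card_subtype]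
    have hcout : (Finset.univ.filter fun x : N => ¬ x ∈ C').card = Nat.card C' := by
      have h := Finset.card_filter_add_card_filter_not (s := (Finset.univ : Finset N))
        (fun x : N => x ∈ C')
      rw [hcin, Finset.card_univ, ← Nat.card_eq_fintype_card, hcardN] at h
      omega
    rw [Finset.sum_congr rfl hin, Finset.sum_congr rfl hnin, Finset.sum_const, Finset.sum_const,
      hcin, hcout, nsmul_eq_mul, nsmul_eq_mul, ← mul_add, ← mul_assoc,
      inv_mul_cancel₀ hC'0, one_mul]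
  have hψ_out : ∀ n : N, n ∉ C' → ψ n = 0 := fun n hn =>
    OddChar.Induce.indFun_apply_normal_notMem C' μc hn
  set αh : N →* ℂˣ :=
    { toFun := fun n => if n ∈ C' then 1 else -1
      map_one' := if_pos C'.one_mem
      map_mul' := fun x y => by
        simp only [Subgroup.mul_mem_iff_of_index_two hidx]
        by_cases hx : x ∈ C' <;> by_cases hy : y ∈ C' <;> simp [hx, hy] } with hαh
  set θ : N → ℂ := ((fun _ => 1) + fun n => (αh n : ℂ)) - ψ with hθ
  have hθgen : Cfsg.IsGeneralizedCharacter N θ :=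
    isGen_sub (isGen_add (isGen_of_isCharacter isCharacter_one)
      (isGen_of_isCharacter (isCharacter_linear αh)))
      (isGen_of_isCharacter (isCharacter_indFun C' (isCharacter_linear μ)))
  have hθin : ∀ c : C', θ c = 2 - μc c - (μc c)⁻¹ := fun c => by
    simp [hθ, hαh, hψ_mem]; ring
  have hθout : ∀ n : N, n ∉ C' → θ n = 0 := fun n hn => by
    simp [hθ, hαh, hn, hψ_out n hn]
  -- sums over the centralizer
  have hsum : ∀ f : N → ℂ, (∀ n, n ∉ C' → f n = 0) → ∑ n : N, f n = ∑ c : C', f c := fun f hf => by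
    rw [← Finset.sum_subtype (Finset.univ.filter fun n => n ∈ C') (fun n => by simp) f]
    refine (Finset.sum_filter_of_ne fun n _ hne => ?_).symm
    by_contra h
    exact hne (hf n h)
  set a₁ : C' := ⟨⟨a, hCN haC⟩, haC⟩
  have hμ_pow : ∀ k : ℕ, 0 < k → k ≤ 2 → ∑ c : C', μc c ^ k = 0 := by
    intro k hk hk'
    have h := sum_hom_units_eq_zero (((powMonoidHom k).comp ((Units.coeHom ℂ).comp μ))) ?_
    · simpa [μc] using h
    intro h
    have h1 := DFunLike.congr_fun h a₁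
    simp only [MonoidHom.coe_comp, Function.comp_apply, powMonoidHom_apply, Units.coeHom_apply,
      MonoidHom.one_apply, hμval] at h1
    rw [show toC a₁ = a' from Subtype.ext rfl, ← pow_mul] at h1
    have := Nat.le_of_dvd (by omega) (hlam.dvd_of_pow_eq_one _ h1)
    have : 2 ^ 3 ≤ 2 ^ (j + 3) := Nat.pow_le_pow_right (by norm_num) (by omega)
    omega
  have hμne : ∀ c, μc c ≠ 0 := fun c => (μ c).ne_zero
  have hμinv : ∀ k : ℕ, 0 < k → k ≤ 2 → ∑ c : C', (μc c)⁻¹ ^ k = 0 := by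
    intro k hk hk'
    rw [← hμ_pow k hk hk']
    refine Fintype.sum_equiv (Equiv.inv C') _ _ fun c => ?_
    simp [μc]
  have hnormμ : ∀ c, conj (μc c) = (μc c)⁻¹ := fun c => by
    have h := Complex.norm_eq_one_of_pow_eq_one (n := Nat.card C') (ζ := μc c) (by
      simp only [μc, ← Units.val_pow_eq_pow_val, ← map_pow, pow_card_eq_one', map_one,
        Units.val_one]) Nat.card_pos.ne'
    rw [Complex.inv_def, Complex.normSq_eq_norm_sq, h]
    simp
  have hθ1 : Cfsg.classInner θ (fun _ => 1) = 1 := by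
    rw [classInner_def, hsum _ (fun n hn => by simp [hθout n hn]), hcardN]
    simp only [hθin, map_one, mul_one, Finset.sum_sub_distrib, Finset.sum_const, Finset.card_univ,
      nsmul_eq_mul, ← Nat.card_eq_fintype_card]
    have e1 := hμ_pow 1 one_pos (by norm_num)
    have e2 := hμinv 1 one_pos (by norm_num)
    simp only [pow_one] at e1 e2
    rw [e1, e2]
    push_cast
    field_simp
    ring
  have hθθ : Cfsg.classInner θ θ = 3 := by
    rw [classInner_def, hsum _ (fun n hn => by simp [hθout n hn]), hcardN]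
    have hterm : ∀ c : C', θ c * conj (θ c) =
        6 - 4 * μc c - 4 * (μc c)⁻¹ + μc c ^ 2 + (μc c)⁻¹ ^ 2 := fun c => by
      rw [hθin, map_sub, map_sub, map_inv₀, hnormμ, inv_inv, Complex.conj_ofNat]
      field_simp [hμne c]
      ring
    simp only [hterm, Finset.sum_add_distrib, Finset.sum_sub_distrib, Finset.sum_const,
      Finset.card_univ, nsmul_eq_mul, ← Nat.card_eq_fintype_card, ← Finset.mul_sum]
    have e1 := hμ_pow 1 one_pos (by norm_num)
    have e2 := hμinv 1 one_pos (by norm_num)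
    simp only [pow_one] at e1 e2
    rw [e1, e2, hμ_pow 2 (by norm_num) le_rfl, hμinv 2 (by norm_num) le_rfl]
    push_cast
    field_simp
    ring
  -- the trivial intersection set
  set D : Set G := {g | ∃ h : g ∈ C, lam ⟨g, h⟩ ^ 2 ≠ 1} with hD
  have hvan : VanishOff D θ := by
    intro n hn
    by_cases hc : n ∈ C'
    · have h1 : μc ⟨n, hc⟩ = 1 := by
        by_contra hne
        refine hn ⟨hc, fun h => hne ?_⟩
        show (μ _ : ℂ) = 1
        rw [hμval, show toC ⟨n, hc⟩ = ⟨(n : G), hc⟩ from Subtype.ext rfl, ← Units.val_pow_eq_pow_val,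
          h, Units.val_one]
      have := hθin ⟨n, hc⟩
      rw [h1] at this
      rw [this]; norm_num
    · exact hθout n hc
  have hroot : ∀ c : C, lam c ^ (2 ^ (j + 3)) = 1 := fun c => by
    obtain ⟨i, hi⟩ := hlam2 c
    rw [← hi, ← map_pow, ← pow_mul, mul_comm, pow_mul,
      show a' ^ 2 ^ (j + 3) = 1 from Subtype.ext (by simp [a', ← hao, pow_orderOf_eq_one]),
      one_pow, map_one]
  have hw' : w ∈ C := Subgroup.mem_centralizer_singleton_iff.2 rfl
  have hlw : IsPrimitiveRoot (lam ⟨w, hw'⟩ : ℂ) 4 := by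
    rw [show (⟨w, hw'⟩ : C) = a' ^ 2 ^ (j + 1) from Subtype.ext (by simp [a', hw]), map_pow,
      Units.val_pow_eq_pow_val]
    exact hlam.pow (by positivity) (by rw [show j + 3 = j + 1 + 2 by omega, pow_add]; norm_num)
  have hodd_of : ∀ y : C, lam y = 1 → y ^ 4 = 1 → y = 1 := fun y h1 h4 => by
    have h2 := (hlam1 y).1 h1
    have : orderOf y ∣ 2 ^ 2 := orderOf_dvd_of_pow_eq_one h4
    obtain ⟨k, -, hk⟩ := (Nat.dvd_prime_pow Nat.prime_two).1 this
    rcases k.eq_zero_or_pos with hk0 | hk0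
    · rw [hk0, pow_zero, orderOf_eq_one_iff] at hk; exact hk
    · exact absurd (hk ▸ dvd_pow_self 2 hk0.ne') h2
  have hwmem : ∀ x ∈ D, w ∈ Subgroup.zpowers x := by
    rintro x ⟨hxC, hx2⟩
    set y : C := ⟨x, hxC⟩
    have hdvd : orderOf (lam y : ℂ) ∣ 2 ^ (j + 3) := orderOf_dvd_of_pow_eq_one (by
      rw [← Units.val_pow_eq_pow_val, hroot, Units.val_one])
    obtain ⟨r, -, hr⟩ := (Nat.dvd_prime_pow Nat.prime_two).1 hdvd
    have hr2 : 2 ≤ r := by
      by_contra hlt
      apply hx2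
      rw [← Units.val_inj, Units.val_pow_eq_pow_val, Units.val_one]
      refine orderOf_dvd_iff_pow_eq_one.1 ?_
      rcases (show r = 0 ∨ r = 1 by omega) with h | h <;> simp [hr, h]
    have hprim : IsPrimitiveRoot ((lam y : ℂ) ^ 2 ^ (r - 2)) 4 := by
      refine (IsPrimitiveRoot.orderOf (lam y : ℂ)).pow (orderOf_pos_iff.2 ?_) ?_
      · exact isOfFinOrder_iff_pow_eq_one.2 ⟨2 ^ (j + 3), by positivity,
          by rw [← Units.val_pow_eq_pow_val, hroot, Units.val_one]⟩
      · rw [hr, show (4 : ℕ) = 2 ^ 2 from rfl, ← pow_add, Nat.sub_add_cancel hr2]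
    obtain ⟨i, -, hi⟩ := hprim.eq_pow_of_pow_eq_one hlw.pow_eq_one
    set l := 2 ^ (r - 2) * i
    set o : C := (⟨w, hw'⟩ : C)⁻¹ * y ^ l with ho
    have ho1 : lam o = 1 := by
      rw [ho, map_mul, map_inv, map_pow, inv_mul_eq_one, ← Units.val_inj, Units.val_pow_eq_pow_val,
        pow_mul]
      exact hi.symm
    have hm := (hlam1 o).1 ho1
    set m := orderOf o
    have hcomm : Commute (⟨w, hw'⟩ : C) o := by
      refine Subtype.ext ?_
      show w * (o : G) = (o : G) * w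
      exact (Subgroup.mem_centralizer_singleton_iff.1 o.2).symm
    have hyl : y ^ l = (⟨w, hw'⟩ : C) * o := by rw [ho, mul_inv_cancel_left]
    have hpow : (y ^ l) ^ (m * m) = ⟨w, hw'⟩ := by
      rw [hyl, hcomm.mul_pow, pow_mul o, pow_orderOf_eq_one, one_pow, mul_one]
      refine Subtype.ext ?_
      rw [SubmonoidClass.coe_pow]
      show w ^ (m * m) = w
      obtain ⟨q, hq⟩ : Odd m := Nat.odd_iff.2 (Nat.two_dvd_ne_zero.1 hm)
      rw [hq, show (2 * q + 1) * (2 * q + 1) = 4 * (q * q + q) + 1 by ring, pow_succ, pow_mul,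
        show w ^ 4 = 1 by rw [← hwo, pow_orderOf_eq_one], one_pow, one_mul]
    have := congrArg Subtype.val hpow
    simp only [SubmonoidClass.coe_pow, ← pow_mul] at this
    exact this ▸ Subgroup.pow_mem _ (Subgroup.mem_zpowers x) _
  have hTI : IsTI N D := by
    intro x hx g hgx
    obtain ⟨k, hk⟩ := Subgroup.mem_zpowers_iff.1 (hwmem x hx)
    obtain ⟨l, hl⟩ := Subgroup.mem_zpowers_iff.1 (hwmem _ hgx)
    have hgw : Commute (g * w * g⁻¹) w := by
      rw [show g * w * g⁻¹ = (g * x * g⁻¹) ^ k by rw [conj_zpow, hk], ← hl]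
      exact ((Commute.refl (g * x * g⁻¹)).zpow_left k).zpow_right l
    set y : C := ⟨g * w * g⁻¹, Subgroup.mem_centralizer_singleton_iff.2 hgw.eq⟩
    have hy4 : y ^ 4 = 1 := Subtype.ext (by
      rw [SubmonoidClass.coe_pow, conj_pow, show w ^ 4 = 1 by rw [← hwo, pow_orderOf_eq_one]]
      simp)
    obtain ⟨i, hi4, hi⟩ := hlw.eq_pow_of_pow_eq_one (ξ := (lam y : ℂ))
      (by rw [← Units.val_pow_eq_pow_val, ← map_pow, hy4, map_one, Units.val_one])
    have hyw : y = (⟨w, hw'⟩ : C) ^ i := by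
      have hc : Commute ((⟨w, hw'⟩ : C) ^ i)⁻¹ y := by
        refine (Commute.pow_left ?_ i).inv_left
        exact Subtype.ext hgw.eq.symm
      refine (inv_mul_eq_one.1 (hodd_of _ ?_ ?_)).symm
      · rw [map_mul, map_inv, map_pow, inv_mul_eq_one, ← Units.val_inj, Units.val_pow_eq_pow_val]
        exact hi
      · rw [hc.mul_pow, hy4, inv_pow, ← pow_mul, mul_comm, pow_mul,
          show (⟨w, hw'⟩ : C) ^ 4 = 1 from Subtype.ext (by
            rw [SubmonoidClass.coe_pow, OneMemClass.coe_one]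
            show w ^ 4 = 1
            rw [← hwo, pow_orderOf_eq_one]), one_pow, inv_one, mul_one]
    have hgwi : g * w * g⁻¹ = w ^ i := by simpa [y] using congrArg Subtype.val hyw
    have ho4 : orderOf (g * w * g⁻¹) = 4 := by rw [Involutions.Basic.orderOf_conj, hwo]
    rw [hgwi] at ho4
    interval_cases i
    · rw [pow_zero, orderOf_one] at ho4; norm_num at ho4
    · exact Or.inl (by rw [hgwi, pow_one])
    · rw [orderOf_pow' _ (by norm_num), hwo] at ho4; norm_num at ho4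
    · refine Or.inr ?_
      rw [hgwi]
      refine eq_inv_of_mul_eq_one_left ?_
      rw [← pow_succ]
      show w ^ 4 = 1
      rw [← hwo, pow_orderOf_eq_one]
  have hzero : ∀ g : G, orderOf g ≤ 2 ∨ ¬ 2 ∣ orderOf g → Cfsg.indFun N θ g = 0 := by
    intro g hg
    refine Induce.indFun_eq_zero hvan g fun x hx => ?_
    obtain ⟨hxC, hx2⟩ := hx
    have hord : orderOf (⟨_, hxC⟩ : C) = orderOf g := by
      rw [← Subgroup.orderOf_coe]
      simpa using Involutions.Basic.orderOf_conj x⁻¹ g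
    apply hx2
    rcases hg with hg | hg
    · rw [← map_pow]
      have hpos := orderOf_pos g
      have : orderOf g = 1 ∨ orderOf g = 2 := by omega
      rw [show (⟨_, hxC⟩ : C) ^ 2 = 1 from orderOf_dvd_iff_pow_eq_one.1 (by
        rw [hord]; rcases this with h | h <;> simp [h]), map_one]
    · rw [hodd1 _ (by rwa [hord]), one_pow]
  -- coefficients in `G`
  set Θ := Cfsg.indFun N θ
  have hΘc : Cfsg.IsClassFunction G Θ := indFun_isClassFunction N θ
  obtain ⟨c, hc⟩ := exists_coeffs (isGen_indFun N hθgen)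
  have hc1 : c (trivIrr G) = 1 := by
    have h := hc (trivIrr G)
    rw [frobenius_reciprocity N θ (irr_isClassFunction _)] at h
    rw [show (fun h : N => (trivIrr G : G → ℂ) (h : G)) = fun _ => 1 from rfl, hθ1] at h
    exact_mod_cast h.symm
  have hnorm : ∑ χ, c χ * c χ = 3 := sum_mul_coeffs hΘc hc hc (by
    rw [classInner_indFun hTI (isGen_isClassFunction hθgen) hvan hvan, hθθ]; norm_num)
  choose y hy using fun χ : Cfsg.IrrCharacter G =>
    KleinFour.exists_int_value (irr_isCharacter χ) (g := z) (by rw [← pow_two, ← hz, pow_orderOf_eq_one])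
  choose d hdpos hd using fun χ : Cfsg.IrrCharacter G => irr_one_pos χ.2
  rw [← Finset.add_sum_erase _ _ (Finset.mem_univ (trivIrr G)), hc1] at hnorm
  obtain ⟨hsg, hcard⟩ := signs_of_norm_le ((Finset.univ).erase (trivIrr G)) c (by omega)
  obtain ⟨A, B₁, hAB, hsupp⟩ := Finset.card_eq_two.1 (show
    (((Finset.univ).erase (trivIrr G)).filter fun χ => c χ ≠ 0).card = 2 by omega)
  have hA : A ∈ ((Finset.univ).erase (trivIrr G)).filter fun χ => c χ ≠ 0 := by rw [hsupp]; simp
  have hB : B₁ ∈ ((Finset.univ).erase (trivIrr G)).filter fun χ => c χ ≠ 0 := by rw [hsupp]; simp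
  rw [Finset.mem_filter] at hA hB
  have hexp : ∀ f : Cfsg.IrrCharacter G → ℂ, ∑ χ, (c χ : ℂ) * f χ =
      f (trivIrr G) + ((c A : ℂ) * f A + (c B₁ : ℂ) * f B₁) := by
    intro f
    rw [← Finset.add_sum_erase _ _ (Finset.mem_univ (trivIrr G)), hc1, Int.cast_one, one_mul]
    congr 1
    rw [← Finset.sum_filter_of_ne (p := fun χ => c χ ≠ 0) (fun χ _ h h0 => h (by simp [h0])),
      hsupp, Finset.sum_pair hAB]
  have h1 := hexp fun χ => (χ : G → ℂ) 1
  rw [← value_eq_sum hΘc hc, show Θ 1 = 0 from hzero 1 (Or.inl (by simp))] at h1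
  have h2 := hexp fun χ => (χ : G → ℂ) z
  rw [← value_eq_sum hΘc hc, show Θ z = 0 from hzero z (Or.inl hz.le)] at h2
  have h3 := hexp fun χ => ((χ : G → ℂ) z) ^ 2 / (χ : G → ℂ) 1
  have h0 := sum_counting_eq_zero hΘc hc z fun x => hzero _ (Or.inr (regular_pair hU hz x))
  rw [show ∑ χ : Cfsg.IrrCharacter G, (c χ : ℂ) * (((χ : G → ℂ) z) ^ 2 / (χ : G → ℂ) 1) = 0 by
    rw [← h0]; exact Finset.sum_congr rfl fun χ _ => by ring] at h3
  have hdT : (d (trivIrr G) : ℂ) = 1 := (hd _).symm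
  have hyT : (y (trivIrr G) : ℂ) = 1 := (hy _).symm
  simp only [hd, hy, hdT, hyT, one_pow, div_one] at h1 h2 h3
  refine ⟨A, Finset.ne_of_mem_erase hA.1, ?_⟩
  rw [hy, hd]
  have hdA : (d A : ℂ) ≠ 0 := Nat.cast_ne_zero.2 (hdpos A).ne'
  have hdB : (d B₁ : ℂ) ≠ 0 := Nat.cast_ne_zero.2 (hdpos B₁).ne'
  have hu : (y A : ℂ) ^ 2 / (d A : ℂ) * (d A : ℂ) = (y A : ℂ) ^ 2 := div_mul_cancel₀ _ hdA
  have hv : (y B₁ : ℂ) ^ 2 / (d B₁ : ℂ) * (d B₁ : ℂ) = (y B₁ : ℂ) ^ 2 := div_mul_cancel₀ _ hdB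
  set X := (c A : ℂ) * (d A : ℂ)
  set Y := (c A : ℂ) * (y A : ℂ)
  set X' := (c B₁ : ℂ) * (d B₁ : ℂ)
  set Y' := (c B₁ : ℂ) * (y B₁ : ℂ)
  have key : X * X' + Y ^ 2 * X' + Y' ^ 2 * X = 0 := by
    simp only [X, X', Y, Y']
    linear_combination -((c A : ℂ) * (c B₁ : ℂ) * (d A : ℂ) * (d B₁ : ℂ)) * h3 -
      ((c A : ℂ) ^ 2 * (c B₁ : ℂ) * (d B₁ : ℂ)) * hu - ((c B₁ : ℂ) ^ 2 * (c A : ℂ) * (d A : ℂ)) * hv
  have hX' : X' = -1 - X := by linear_combination -h1
  have hY' : Y' = -1 - Y := by linear_combination -h2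
  rw [hX', hY'] at key
  have hXY : (X - Y) * (X - Y) = 0 := by linear_combination -key
  rw [mul_self_eq_zero, ← mul_sub, mul_eq_zero, Int.cast_eq_zero, or_iff_right hA.2,
    sub_eq_zero] at hXY
  rw [hXY]

end Cfsg.Agent.ZStar.QuaternionLarge
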