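import Mathlib
import Cfsg.Agent.Lib.ZStar.UniqueInvolution
import Cfsg.Agent.Lib.ZStar.QuaternionLarge
import Cfsg.Agent.Lib.Transfer.Frobenius

/-!
# Fusion and centralizers with a quaternion Sylow subgroup of order eight
-/

set_option autoImplicit false
set_option linter.style.haveILetI false
set_option linter.unusedSectionVars false

namespace Cfsg.Agent.ZStar.QuaternionEightGroup

open Cfsg.Agent.ZStar.UniqueInvolution

universe u

/-- The facts about the quaternion group of order eight that are used. -/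
def IsQ8Like {G : Type u} [Group G] (S : Subgroup G) (z : G) : Prop :=
  Nat.card S = 8 ∧ (∀ x ∈ S, x * x = 1 → x = 1 ∨ x = z) ∧ (∀ x ∈ S, x * x ≠ 1 → x * x = z) ∧
    ∀ x ∈ S, ∀ y ∈ S, x * x ≠ 1 → y * y ≠ 1 → y ≠ x → y ≠ x⁻¹ →
      y * x * y⁻¹ = x⁻¹ ∧ ∀ w ∈ S, w * w ≠ 1 →
        w = x ∨ w = x⁻¹ ∨ w = y ∨ w = y⁻¹ ∨ w = x * y ∨ w = (x * y)⁻¹

theorem q8_table :
    (∀ x : QuaternionGroup 2, x * x = 1 → x = 1 ∨ x = QuaternionGroup.a 2) ∧
    (∀ x : QuaternionGroup 2, x * x ≠ 1 → x * x = QuaternionGroup.a 2) ∧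
    ∀ x y : QuaternionGroup 2, x * x ≠ 1 → y * y ≠ 1 → y ≠ x → y ≠ x⁻¹ →
      y * x * y⁻¹ = x⁻¹ ∧ ∀ w, w * w ≠ 1 →
        w = x ∨ w = x⁻¹ ∨ w = y ∨ w = y⁻¹ ∨ w = x * y ∨ w = (x * y)⁻¹ := by
  decide +kernel

variable {G : Type u} [Group G] [Finite G]

theorem isQ8Like_of_equiv {S : Subgroup G} (e : S ≃* QuaternionGroup 2) {z : G} (hzS : z ∈ S)
    (hz : orderOf z = 2) : IsQ8Like S z := by
  obtain ⟨t1, t2, t3⟩ := q8_table
  have hsq : ∀ x : S, x * x = 1 ↔ e x * e x = 1 := fun x => by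
    rw [← map_mul, map_eq_one_iff e e.injective]
  have hzz : (⟨z, hzS⟩ : S) = e.symm (QuaternionGroup.a 2) := by
    refine e.injective ?_
    rw [e.apply_symm_apply]
    refine (t1 _ ?_).resolve_left fun h => ?_
    · rw [← hsq]
      exact Subtype.ext (by rw [Subgroup.coe_mul, ← pow_two]; show z ^ 2 = 1; rw [← hz, pow_orderOf_eq_one])
    · rw [map_eq_one_iff e e.injective] at h
      have : z = 1 := congrArg Subtype.val h
      rw [this, orderOf_one] at hz
      norm_num at hz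
  have hne : ∀ x (hx : x ∈ S), x * x ≠ 1 → e ⟨x, hx⟩ * e ⟨x, hx⟩ ≠ 1 := fun x hx h h' =>
    h (congrArg Subtype.val ((hsq ⟨x, hx⟩).2 h'))
  refine ⟨?_, fun x hx h => ?_, fun x hx h => ?_, fun x hx y hy h1 h2 h3 h4 => ?_⟩
  · rw [Nat.card_congr e.toEquiv, Nat.card_eq_fintype_card, QuaternionGroup.card]
  · rcases t1 _ ((hsq ⟨x, hx⟩).1 (Subtype.ext h)) with h' | h'
    · exact Or.inl (congrArg Subtype.val (e.injective (h'.trans e.map_one.symm)))
    · refine Or.inr (congrArg Subtype.val (?_ : (⟨x, hx⟩ : S) = ⟨z, hzS⟩))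
      rw [hzz, ← h', e.symm_apply_apply]
  · refine congrArg Subtype.val (?_ : (⟨x, hx⟩ : S) * ⟨x, hx⟩ = ⟨z, hzS⟩)
    rw [hzz, ← t2 _ (hne x hx h), ← map_mul, e.symm_apply_apply]
  · obtain ⟨hc, hw⟩ := t3 (e ⟨x, hx⟩) (e ⟨y, hy⟩) (hne x hx h1) (hne y hy h2)
      (fun h => h3 (congrArg Subtype.val (e.injective h)))
      (fun h => h4 (congrArg Subtype.val (e.injective (h.trans (map_inv e _).symm))))
    simp only [← map_inv, ← map_mul] at hc hw
    refine ⟨congrArg Subtype.val (e.injective hc), fun w hwS hw1 => ?_⟩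
    rcases hw _ (hne w hwS hw1) with h | h | h | h | h | h <;>
      have h' := congrArg Subtype.val (e.injective h) <;>
      simp only [Subgroup.coe_mul, Subgroup.coe_inv] at h' <;> simp [h']

variable {S : Sylow 2 G} {z : G}

theorem sq_ne_one_of_four {x : G} (hx : orderOf x = 4) : x * x ≠ 1 := fun h => by
  have : orderOf x ∣ 2 := orderOf_dvd_of_pow_eq_one (by rw [pow_two, h])
  rw [hx] at this
  norm_num at this

/-- Every `2`-element is conjugate into `S`. -/
theorem exists_conj_mem {x : G} (hx : ∃ k : ℕ, orderOf x = 2 ^ k) :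
    ∃ c : G, c * x * c⁻¹ ∈ (S : Subgroup G) := by
  have : Fact (Nat.Prime 2) := ⟨Nat.prime_two⟩
  obtain ⟨T, hT⟩ := (Blocks.zpowers_isPGroup hx).exists_le_sylow
  obtain ⟨c, hc⟩ := MulAction.exists_smul_eq G T S
  refine ⟨c, ?_⟩
  show _ ∈ S
  rw [← hc, ← SetLike.mem_coe, Sylow.coe_smul]
  exact ⟨x, hT (Subgroup.mem_zpowers x), rfl⟩

theorem orderOf_four (h : IsQ8Like (S : Subgroup G) z) (hz : orderOf z = 2) {x : G}
    (hx : x ∈ (S : Subgroup G)) (h1 : x * x ≠ 1) : orderOf x = 4 := by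
  have h2 : x ^ 2 = z := by rw [pow_two]; exact h.2.2.1 x hx h1
  refine orderOf_eq_prime_pow (p := 2) (n := 1) (by rwa [pow_one, pow_two]) ?_
  rw [show (2 : ℕ) ^ (1 + 1) = 2 * 2 from rfl, pow_mul, h2, ← hz, pow_orderOf_eq_one]

theorem commute_sq {g w : G} (n : ℕ) (hn : orderOf g = 2 * n + 1)
    (hw : g * g * (g * g) * w * (g * g * (g * g))⁻¹ = w) : Commute (g * g) w := by
  have h4 : Commute (g * g * (g * g)) w := mul_inv_eq_iff_eq_mul.1 hw
  have e : (g * g * (g * g)) ^ (n + 1) = g * g := by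
    rw [show g * g * (g * g) = g ^ 4 by simp only [pow_succ, pow_zero, one_mul, mul_assoc], ← pow_mul,
      show 4 * (n + 1) = orderOf g * 2 + 2 by omega, pow_add, pow_mul, pow_orderOf_eq_one, one_pow,
      one_mul, pow_two]
  exact e ▸ h4.pow_left (n + 1)

/-- All elements of order four are conjugate. -/
theorem conj_four (h : IsQ8Like (S : Subgroup G) z)
    (hnc : ¬ Transfer.Frobenius.Condition 2 G) {x y : G} (hx : orderOf x = 4)
    (hy : orderOf y = 4) : IsConj x y := by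
  have : Fact (Nat.Prime 2) := ⟨Nat.prime_two⟩
  suffices key : ∃ a : G, ∀ w ∈ (S : Subgroup G), w * w ≠ 1 → IsConj a w by
    obtain ⟨a, ha⟩ := key
    have hto : ∀ x : G, orderOf x = 4 → IsConj a x := by
      intro x hx
      obtain ⟨c, hc⟩ := exists_conj_mem (S := S) ⟨2, by rw [hx]; norm_num⟩
      refine (ha _ hc (sq_ne_one_of_four ?_)).trans (isConj_iff.2 ⟨c, rfl⟩).symm
      rw [Involutions.Basic.orderOf_conj, hx]
    exact (hto x hx).symm.trans (hto y hy)
  obtain ⟨Q, hQS, g, hg, hgo, hgc⟩ : ∃ Q : Subgroup G, Q ≤ (S : Subgroup G) ∧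
      ∃ g ∈ Subgroup.normalizer (Q : Set G), (orderOf g).Coprime 2 ∧
        g ∉ Subgroup.centralizer (Q : Set G) := by
    by_contra hcon
    simp only [not_exists, not_and, not_not] at hcon
    exact hnc (Transfer.Frobenius.Condition.of_sylow S fun Q hQ g hg ho => hcon Q hQ g hg ho)
  obtain ⟨n, hn⟩ : Odd (orderOf g) := Nat.coprime_two_right.1 hgo
  have hfix : ∀ w : G, g * g * w * (g * g)⁻¹ = w → Commute g w := fun w hw => by
    have h2 : Commute (g ^ 2) w := by
      rw [pow_two]; exact mul_inv_eq_iff_eq_mul.1 hw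
    have := h2.pow_left (n + 1)
    rwa [← pow_mul, show 2 * (n + 1) = orderOf g + 1 by omega, pow_succ, pow_orderOf_eq_one,
      one_mul] at this
  have hmem : ∀ w ∈ Q, g * w * g⁻¹ ∈ Q := fun w hw => (Subgroup.mem_normalizer_iff.1 hg w).1 hw
  have hsqc : ∀ w : G, g * w * g⁻¹ * (g * w * g⁻¹) = g * (w * w) * g⁻¹ := fun w => by group
  obtain ⟨w, hwQ, hw1, hwne, hwne'⟩ : ∃ w ∈ Q, w * w ≠ 1 ∧ g * w * g⁻¹ ≠ w ∧
      g * w * g⁻¹ ≠ w⁻¹ := by
    by_contra hcon
    push Not at hcon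
    refine hgc (Subgroup.mem_centralizer_iff.2 fun w hw => (Commute.symm ?_).eq)
    by_cases hw1 : w * w = 1
    · rcases h.2.1 w (hQS hw) hw1 with rfl | rfl
      · exact Commute.one_right g
      · refine mul_inv_eq_iff_eq_mul.1 ?_
        rcases h.2.1 _ (hQS (hmem w hw)) (by rw [hsqc, hw1]; group) with e | e
        · have e1 : w = 1 := conj_eq_one_iff.1 e
          rw [e, e1]
        · exact e
    · by_cases he : g * w * g⁻¹ = w
      · exact mul_inv_eq_iff_eq_mul.1 he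
      · have e := hcon w hw hw1 he
        refine hfix w ?_
        rw [show g * g * w * (g * g)⁻¹ = g * (g * w * g⁻¹) * g⁻¹ by group, e,
          show g * w⁻¹ * g⁻¹ = (g * w * g⁻¹)⁻¹ by group, e, inv_inv]
  set y := g * w * g⁻¹ with hy'
  set u := g * y * g⁻¹ with hu
  have hy1 : y * y ≠ 1 := fun e => hw1 (by
    rw [hsqc] at e
    exact conj_eq_one_iff.1 e)
  have hu1 : u * u ≠ 1 := fun e => hy1 (by
    rw [hsqc] at e
    exact conj_eq_one_iff.1 e)
  obtain ⟨hinv, hall⟩ := h.2.2.2 w (hQS hwQ) y (hQS (hmem w hwQ)) hw1 hy1 hwne hwne'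
  have hwy : IsConj w y := isConj_iff.2 ⟨g, rfl⟩
  have hwu : IsConj w u := hwy.trans (isConj_iff.2 ⟨g, rfl⟩)
  have hwi : IsConj w w⁻¹ := isConj_iff.2 ⟨y, hinv⟩
  have hconj_inv : ∀ {v : G}, IsConj w v → IsConj w v⁻¹ := fun {v} hv => by
    obtain ⟨c, hc⟩ := isConj_iff.1 hv
    exact hwi.trans (isConj_iff.2 ⟨c, by rw [← hc]; group⟩)
  have hu' : u = w * y ∨ u = (w * y)⁻¹ := by
    rcases hall u (hQS (hmem _ (hmem w hwQ))) hu1 with e | e | e | e | e | e
    · exfalso
      refine hwne (mul_inv_eq_iff_eq_mul.2 (hfix w ?_).eq)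
      rw [show g * g * w * (g * g)⁻¹ = u by rw [hu, hy']; group, e]
    · exfalso
      have hgg : g * g * w * (g * g)⁻¹ = w⁻¹ := by rw [← e, hu, hy']; group
      have h4 : Commute (g * g) w := commute_sq n hn (by
        rw [show g * g * (g * g) * w * (g * g * (g * g))⁻¹ =
            g * g * (g * g * w * (g * g)⁻¹) * (g * g)⁻¹ by group, hgg,
          ← conj_inv, hgg, inv_inv])
      exact hwne (mul_inv_eq_iff_eq_mul.2 (hfix w (mul_inv_eq_iff_eq_mul.2 h4.eq)).eq)
    · exact absurd (mul_left_cancel (mul_right_cancel (show g * y * g⁻¹ = g * w * g⁻¹ by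
        rw [← hy', ← hu]; exact e))) hwne
    · refine absurd ?_ hwne'
      have e' : g * y * g⁻¹ = g * w⁻¹ * g⁻¹ := by
        rw [← hu, e, hy']; group
      exact mul_left_cancel (mul_right_cancel e')
    · exact Or.inl e
    · exact Or.inr e
  refine ⟨w, fun v hv hv1 => ?_⟩
  rcases hall v hv hv1 with rfl | rfl | rfl | rfl | rfl | rfl
  · exact IsConj.refl _
  · exact hwi
  · exact hwy
  · exact hconj_inv hwy
  · rcases hu' with e | e
    · rwa [← e]
    · rw [show w * y = u⁻¹ by rw [e, inv_inv]]; exact hconj_inv hwu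
  · rcases hu' with e | e
    · rw [← e]; exact hconj_inv hwu
    · rwa [← e]

/-- The centralizer of an element of order four has a normal subgroup consisting of its elements
of odd order. -/
theorem exists_regular_normal (h : IsQ8Like (S : Subgroup G) z) {x : G} (hx : orderOf x = 4) :
    ∃ N : Subgroup (Subgroup.centralizer ({x} : Set G)), N.Normal ∧ ¬ 2 ∣ Nat.card N ∧
      ∀ s, s ∈ N ↔ ¬ 2 ∣ orderOf s := by
  have : Fact (Nat.Prime 2) := ⟨Nat.prime_two⟩
  set C := Subgroup.centralizer ({x} : Set G)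
  have hxC : x ∈ C := Subgroup.mem_centralizer_singleton_iff.2 rfl
  set x' : C := ⟨x, hxC⟩
  obtain ⟨Q, hQ⟩ := (IsPGroup.of_card (n := 2) (by
    rw [Nat.card_zpowers, ← Subgroup.orderOf_coe]; exact hx.trans (by norm_num)) :
      IsPGroup 2 (Subgroup.zpowers x')).exists_le_sylow
  have hQx : (Q : Subgroup C) = Subgroup.zpowers x' := by
    refine le_antisymm (fun q hq => ?_) hQ
    obtain ⟨T, hT⟩ := (Q.2.map C.subtype).exists_le_sylow
    obtain ⟨c, hc⟩ := MulAction.exists_smul_eq G T S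
    have hmem : ∀ w : C, w ∈ (Q : Subgroup C) → c * (w : G) * c⁻¹ ∈ (S : Subgroup G) :=
      fun w hw => by
        show _ ∈ S
        rw [← hc, ← SetLike.mem_coe, Sylow.coe_smul]
        exact ⟨w, hT ⟨w, hw, rfl⟩, rfl⟩
    have ha := hmem x' (hQ (Subgroup.mem_zpowers x'))
    have hoa : orderOf (c * x * c⁻¹) = 4 := by rw [Involutions.Basic.orderOf_conj, hx]
    have ha1 := sq_ne_one_of_four hoa
    have hcomm : Commute (c * (q : G) * c⁻¹) (c * x * c⁻¹) :=
      Commute.map (show Commute (q : G) x from Subgroup.mem_centralizer_singleton_iff.1 q.2)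
        (MulAut.conj c).toMonoidHom
    have hin : c * (q : G) * c⁻¹ ∈ Subgroup.zpowers (c * x * c⁻¹) := by
      by_cases hq1 : c * (q : G) * c⁻¹ * (c * (q : G) * c⁻¹) = 1
      · rcases h.2.1 _ (hmem q hq) hq1 with e | e
        · rw [e]; exact one_mem _
        · rw [e, ← h.2.2.1 _ ha ha1]
          exact mul_mem (Subgroup.mem_zpowers _) (Subgroup.mem_zpowers _)
      · by_contra hne
        have h3 : c * (q : G) * c⁻¹ ≠ c * x * c⁻¹ := fun e => hne (e ▸ Subgroup.mem_zpowers _)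
        have h4 : c * (q : G) * c⁻¹ ≠ (c * x * c⁻¹)⁻¹ := fun e => hne (e ▸ inv_mem (Subgroup.mem_zpowers _))
        have := (h.2.2.2 _ ha _ (hmem q hq) ha1 hq1 h3 h4).1
        rw [hcomm.eq, mul_inv_cancel_right] at this
        exact ha1 (mul_eq_one_iff_eq_inv.2 this)
    obtain ⟨k, hk⟩ := Subgroup.mem_zpowers_iff.1 hin
    refine Subgroup.mem_zpowers_iff.2 ⟨k, Subtype.ext ?_⟩
    rw [conj_zpow] at hk
    simpa using mul_left_cancel (mul_right_cancel hk)
  obtain ⟨lam, -, -, hlam⟩ := QuaternionLarge.exists_linear Q x' hQx (fun e => by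
    have e' : x = 1 := congrArg Subtype.val e
    rw [e', orderOf_one] at hx
    norm_num at hx)
  have hmem : ∀ s, s ∈ lam.ker ↔ ¬ 2 ∣ orderOf s := fun s => by
    rw [MonoidHom.mem_ker]; exact hlam s
  refine ⟨lam.ker, inferInstance, fun hd => ?_, hmem⟩
  obtain ⟨w, hw⟩ := exists_prime_orderOf_dvd_card' 2 hd
  exact (hmem w).1 w.2 (by rw [Subgroup.orderOf_coe, hw])

end Cfsg.Agent.ZStar.QuaternionEightGroup
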