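import Mathlib
import Cfsg.Agent.Lib.ZStar.QuaternionEightGroup
import Cfsg.Agent.Lib.ZStar.KleinFour
import Cfsg.Agent.Lib.ZStar.Lattice

/-!
# Quaternion Sylow subgroups of order eight

The principal 2-block through the involution centralizer `K`: with `L = K / ⟨z⟩` (Klein four Sylow,
one class of involutions), doubling `1 - a ζ` on the singular elements and inducing gives three
generalized characters of norm four, and the signed sum of `B₀(L)` gives a fourth.
-/

set_option autoImplicit false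
set_option linter.style.haveILetI false
set_option linter.unusedSectionVars false

namespace Cfsg.Agent.ZStar.QuaternionEight

open Cfsg.Agent.Blocks Cfsg.Agent.Characters
open Cfsg.Agent.ZStar.Principal Cfsg.Agent.ZStar.Sections Cfsg.Agent.ZStar.Induce
open Cfsg.Agent.ZStar.UniqueInvolution Cfsg.Agent.ZStar.QuaternionEightGroup
open scoped ComplexConjugate

universe u v

/-- An element with regular image in the quotient by a central involution is regular or is the
translate of a regular one. -/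
theorem regular_or_of_map {G : Type u} [Group G] [Finite G] {L : Type v} [Group L] {z : G}
    (hz : z ∈ Subgroup.center G) (hz2 : z * z = 1) (π : G →* L)
    (hker : ∀ g, π g = 1 ↔ g = 1 ∨ g = z) {g : G} (h : ¬ 2 ∣ orderOf (π g)) :
    ¬ 2 ∣ orderOf g ∨ ¬ 2 ∣ orderOf (z * g) := by
  rcases (hker (g ^ orderOf (π g))).1 (by rw [map_pow, pow_orderOf_eq_one]) with h1 | h1
  · exact Or.inl fun hd => h (hd.trans (orderOf_dvd_of_pow_eq_one h1))
  · refine Or.inr fun hd => h (hd.trans (orderOf_dvd_of_pow_eq_one ?_))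
    obtain ⟨j, hj⟩ : Odd (orderOf (π g)) := Nat.odd_iff.2 (Nat.two_dvd_ne_zero.1 h)
    rw [(show Commute z g from (Subgroup.mem_center_iff.1 hz g).symm).mul_pow, h1, hj, pow_succ,
      pow_mul, pow_two, hz2, one_pow, one_mul, hz2]

/-- Only characters of the principal block of `G / ⟨z⟩` inflate into the principal block. -/
theorem mem_principal_of_inflate {G : Type u} [Group G] [Fintype G] {L : Type v} [Group L]
    [Fintype L] {M : Ideal Cfsg.AlgInt} (hM : Cfsg.IsPModular 2 M) {z : G}
    (hz : z ∈ Subgroup.center G) (hz2 : orderOf z = 2) (π : G →* L)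
    (hπ : Function.Surjective π) (hker : ∀ g, π g = 1 ↔ g = 1 ∨ g = z)
    {ζ : Cfsg.IrrCharacter L} {ζ' : Cfsg.IrrCharacter G} (he : (ζ' : G → ℂ) = (ζ : L → ℂ) ∘ π)
    (h : ζ' ∈ Cfsg.principalBlock M G) : ζ ∈ Cfsg.principalBlock M L := by
  classical
  set e := blockIdem (Cfsg.principalBlock M L)
  have hei : IntEl M e := intEl_blockIdem hM (isPBlock_principal M L)
  set w : MonoidAlgebra ℂ G := ofFun fun g => if 2 ∣ orderOf g then 0 else e.coeff (π g) with hw
  have hwc : IsCentralEl w := central_ofFun fun g a => by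
    simp only [BlockCharsA.RegularPart.orderOf_conj', map_mul, map_inv]
    rw [central_blockIdem]
  have hwi : IntEl M w := fun g => by
    rw [hw, coeff_ofFun]
    split
    · exact ring_zero hM
    · exact hei _
  have hmap : mapEl π w = e := el_ext fun l => by
    rw [coeff_mapEl]
    have h1 : ∀ g : G, (if π g = l then w.coeff g else 0) =
        if ¬ 2 ∣ orderOf g then (if π g = l then e.coeff (π g) else 0) else 0 := fun g => by
      rw [hw, coeff_ofFun]
      by_cases hg : 2 ∣ orderOf g <;> simp [hg]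
    rw [Finset.sum_congr rfl fun g _ => h1 g, ← Finset.sum_filter,
      sum_regular_quotient hz hz2 π hπ hker (fun m => if m = l then e.coeff m else 0)]
    by_cases hl : 2 ∣ orderOf l
    · rw [coeff_blockIdem, blockCoeff_eq_zero_of_singular hM hei hl]
      refine Finset.sum_eq_zero fun m hm => ?_
      rw [if_neg]
      rintro rfl
      exact (Finset.mem_filter.1 hm).2 hl
    · rw [Finset.sum_ite_eq']
      simp only [Finset.mem_filter, Finset.mem_univ, hl, not_false_iff, and_self, if_true]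
  have h1 := (sameBlock_iff_omega hM (trivIrr G) ζ').1 h w hwc hwi
  rw [omega_mapEl' π he, omega_mapEl' π (χ := (trivIrr L : L → ℂ)) (show (trivIrr G : G → ℂ) =
    (trivIrr L : L → ℂ) ∘ π from rfl), hmap, omega_blockIdem_mem (trivIrr_mem_principal hM)] at h1
  by_contra hne
  rw [omega_blockIdem_notMem hne] at h1
  exact not_cong_zero_one hM (cong_symm hM h1)

variable {G : Type u} [Group G] [Finite G]

/-- Some nonprincipal irreducible character is trivial at `z`, and the principal block has seven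
characters as soon as `z` is central. -/
theorem exists_trivial_and_card [Fintype G] [Fintype (Cfsg.IrrCharacter G)] {M : Ideal Cfsg.AlgInt}
    (hM : Cfsg.IsPModular 2 M) (S : Sylow 2 G) (e : (S : Subgroup G) ≃* QuaternionGroup 2)
    (hU : CommInvEq G) {z : G} (hzS : z ∈ (S : Subgroup G)) (hz : orderOf z = 2)
    (hnc : ¬ Transfer.Frobenius.Condition 2 G) :
    (∃ χ : Cfsg.IrrCharacter G, χ ≠ trivIrr G ∧ (χ : G → ℂ) z = (χ : G → ℂ) 1) ∧
        (z ∈ Subgroup.center G → Nat.card (Cfsg.principalBlock M G) = 7) := by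
  classical
  have : Fact (Nat.Prime 2) := ⟨Nat.prime_two⟩
  have hQ8 := isQ8Like_of_equiv e hzS hz
  have hzz : z * z = 1 := by rw [← pow_two, ← hz, pow_orderOf_eq_one]
  set K := Subgroup.centralizer ({z} : Set G) with hK
  haveI := Fintype.ofFinite K
  have hSK : (S : Subgroup G) ≤ K := fun x hx => by
    rw [hK, Subgroup.mem_centralizer_singleton_iff]
    refine mul_inv_eq_iff_eq_mul.1 ((hQ8.2.1 _ (mul_mem (mul_mem hx hzS) (inv_mem hx)) ?_).resolve_left ?_)
    · rw [show x * z * x⁻¹ * (x * z * x⁻¹) = x * (z * z) * x⁻¹ by group, hzz, mul_one, mul_inv_cancel]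
    · intro h
      rw [conj_eq_one_iff.1 h, orderOf_one] at hz
      norm_num at hz
  have hsq4 : ∀ g : G, Commute z g → orderOf g = 4 → g * g = z := by
    intro g hc h4
    refine (hU z _ hz ?_ (hc.mul_right hc)).symm
    rw [← pow_two, orderOf_pow' _ (by norm_num), h4]
    norm_num
  set zK : K := ⟨z, hSK hzS⟩
  have hzKc : zK ∈ Subgroup.center K := Subgroup.mem_center_iff.2 fun k =>
    Subtype.ext (Subgroup.mem_centralizer_singleton_iff.1 k.2)
  have hzKo : orderOf zK = 2 := by rw [← Subgroup.orderOf_coe]; exact hz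
  have hzKK : zK * zK = 1 := Subtype.ext hzz
  -- the quotient
  haveI hZn : (Subgroup.zpowers zK).Normal := ⟨fun y hy k => by
    rwa [Subgroup.mem_center_iff.1 ((Subgroup.zpowers_le.2 hzKc) hy) k, mul_inv_cancel_right]⟩
  set π := QuotientGroup.mk' (Subgroup.zpowers zK)
  haveI := Fintype.ofFinite (K ⧸ Subgroup.zpowers zK)
  haveI := Fintype.ofFinite (Cfsg.IrrCharacter (K ⧸ Subgroup.zpowers zK))
  have hπ : Function.Surjective π := QuotientGroup.mk'_surjective _
  have hker : ∀ g, π g = 1 ↔ g = 1 ∨ g = zK := fun g => by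
    show (g : K ⧸ Subgroup.zpowers zK) = 1 ↔ _
    rw [QuotientGroup.eq_one_iff]
    refine ⟨fun h => ?_, ?_⟩
    · obtain ⟨i, rfl⟩ := Subgroup.mem_zpowers_iff.1 h
      rcases Int.even_or_odd' i with ⟨j, rfl | rfl⟩
      · left; rw [zpow_mul, zpow_two, hzKK, one_zpow]
      · right; rw [zpow_add_one, zpow_mul, zpow_two, hzKK, one_zpow, one_mul]
    · rintro (rfl | rfl)
      exacts [one_mem _, Subgroup.mem_zpowers _]
  have hπz : ∀ g, π (zK * g) = π g := fun g => by
    rw [map_mul, (hker zK).2 (Or.inr rfl), one_mul]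
  -- `π g` is singular exactly when the `2`-part of `g` has order four
  have hsing : ∀ g : K, 2 ∣ orderOf (π g) → ∃ x : G, orderOf x = 4 ∧ x ∈ K ∧
      Cfsg.IsPPart 2 (g : G) x := by
    intro g hg
    obtain ⟨x, hx⟩ := exists_ppart Nat.prime_two (g : G)
    obtain ⟨s, hxs, hc, ⟨n, hn⟩, hso⟩ := id hx
    obtain ⟨c, hcS⟩ := exists_conj_mem (S := S) ⟨n, hn⟩
    have hxz : Commute z x := by
      have hgz : Commute z (g : G) := (Subgroup.mem_centralizer_iff.1 g.2) z rfl
      -- `x` is a power of `g`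
      obtain ⟨m, hm⟩ := exists_pow_eq_self_of_coprime (G := G) (x := x) (n := orderOf s)
        (by rw [hn]; exact ((Nat.coprime_two_left.2 (Nat.odd_iff.2 (Nat.two_dvd_ne_zero.1 hso))).pow_left n).symm)
      have hxm : (g : G) ^ (orderOf s * m) = x := by
        rw [← hxs, hc.mul_pow, pow_mul s, pow_orderOf_eq_one, one_pow, mul_one, pow_mul, hm]
      exact hxm ▸ hgz.pow_right _
    have hxK : x ∈ K := Subgroup.mem_centralizer_singleton_iff.2 hxz.eq.symm
    refine ⟨x, ?_, hxK, hx⟩
    by_cases hx1 : x * x = 1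
    · exfalso
      have hxK' : π ⟨x, hxK⟩ = 1 := by
        refine (hker _).2 ?_
        by_cases h1 : x = 1
        · exact Or.inl (Subtype.ext h1)
        · exact Or.inr (Subtype.ext (hU z x hz (orderOf_eq_prime (by rw [pow_two, hx1]) h1) hxz).symm)
      have hsK : s ∈ K := by
        rw [show s = x⁻¹ * (g : G) by rw [← hxs, inv_mul_cancel_left]]
        exact mul_mem (inv_mem hxK) g.2
      rw [show g = ⟨x, hxK⟩ * ⟨s, hsK⟩ from Subtype.ext hxs.symm, map_mul, hxK', one_mul] at hg
      exact hso (by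
        have := hg.trans (orderOf_map_dvd π _)
        rwa [← Subgroup.orderOf_coe] at this)
    · rw [← Involutions.Basic.orderOf_conj c x]
      refine orderOf_four hQ8 hz hcS fun h => hx1 ?_
      rw [show c * x * c⁻¹ * (c * x * c⁻¹) = c * (x * x) * c⁻¹ by group] at h
      exact conj_eq_one_iff.1 h
  -- the Sylow subgroup of the quotient
  set SK := S.subtype hSK
  set P := SK.mapSurjective hπ
  have hkerle : π.ker ≤ (SK : Subgroup K) := by
    intro g hg
    show (g : G) ∈ (S : Subgroup G)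
    rcases (hker g).1 hg with rfl | rfl
    exacts [one_mem _, hzS]
  have hP : IsKleinFour (P : Subgroup (K ⧸ Subgroup.zpowers zK)) := by
    have hPmem : ∀ y : (P : Subgroup (K ⧸ Subgroup.zpowers zK)), ∃ s : K, (s : G) ∈ (S : Subgroup G) ∧
        π s = y := fun y => by
      obtain ⟨s, hs, he⟩ := y.2
      exact ⟨s, hs, he⟩
    have hcardP : Nat.card (P : Subgroup (K ⧸ Subgroup.zpowers zK)) = 4 := by
      have h1 : (P : Subgroup (K ⧸ Subgroup.zpowers zK)).index = (SK : Subgroup K).index :=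
        Subgroup.index_map_eq _ hπ hkerle
      have h2 := (P : Subgroup (K ⧸ Subgroup.zpowers zK)).card_mul_index
      have h3 := (SK : Subgroup K).card_mul_index
      have h4 : Nat.card (SK : Subgroup K) = 8 := by
        rw [← hQ8.1]
        exact Nat.card_congr (Subgroup.subgroupOfEquivOfLe hSK).toEquiv
      have h5 := (Subgroup.zpowers zK).card_mul_index
      rw [Nat.card_zpowers, hzKo, Subgroup.index_eq_card] at h5
      rw [h1] at h2
      rw [h4, ← h5, ← h2, ← mul_assoc] at h3
      have := Nat.eq_of_mul_eq_mul_right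
        (Nat.pos_of_ne_zero (SK : Subgroup K).index_ne_zero_of_finite) h3
      omega
    haveI : Nontrivial (P : Subgroup (K ⧸ Subgroup.zpowers zK)) :=
      Finite.one_lt_card_iff_nontrivial.1 (by rw [hcardP]; norm_num)
    refine ⟨hcardP, (Monoid.exponent_eq_prime_iff Nat.prime_two).2 fun y hy => ?_⟩
    refine orderOf_eq_prime ?_ hy
    obtain ⟨s, hs, he⟩ := hPmem y
    refine Subtype.ext ?_
    rw [SubmonoidClass.coe_pow, ← he, ← map_pow, OneMemClass.coe_one, hker, pow_two]
    by_cases h1 : (s : G) * s = 1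
    · exact Or.inl (Subtype.ext h1)
    · exact Or.inr (Subtype.ext (hQ8.2.2.1 _ hs h1))
  have hone : ∀ s t : K ⧸ Subgroup.zpowers zK, orderOf s = 2 → orderOf t = 2 → IsConj s t := by
    have hlift : ∀ g : K, orderOf (π g) = 2 → ∃ x : K, orderOf (x : G) = 4 ∧ π x = π g := by
      intro g hg
      refine ⟨g, orderOf_eq_prime_pow (p := 2) (n := 1) (fun h => ?_) ?_, rfl⟩
      · rw [pow_one] at h
        have h1 : π g = 1 := by
          by_cases e1 : (g : G) = 1
          · rw [show g = 1 from Subtype.ext e1, map_one]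
          · exact (hker g).2 (Or.inr (Subtype.ext (hU _ _ (orderOf_eq_prime h e1) hz
              (Subgroup.mem_centralizer_singleton_iff.1 g.2))))
        rw [h1, orderOf_one] at hg
        norm_num at hg
      · have h : π (g ^ 2) = 1 := by rw [map_pow, ← hg, pow_orderOf_eq_one]
        rcases (hker _).1 h with e' | e' <;>
          rw [show (2 : ℕ) ^ (1 + 1) = 2 * 2 from rfl, pow_mul, ← SubmonoidClass.coe_pow, e']
        · simp
        · show z ^ 2 = 1
          rw [pow_two, hzz]
    intro s t hs ht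
    obtain ⟨g, rfl⟩ := hπ s
    obtain ⟨g', rfl⟩ := hπ t
    obtain ⟨x, hx, hxg⟩ := hlift g hs
    obtain ⟨x', hx', hxg'⟩ := hlift g' ht
    obtain ⟨c, hc⟩ := isConj_iff.1 (conj_four hQ8 hnc hx hx')
    have hcK : c ∈ K := by
      rw [hK, Subgroup.mem_centralizer_singleton_iff]
      refine mul_inv_eq_iff_eq_mul.1 ?_
      rw [← hsq4 _ ((Subgroup.mem_centralizer_iff.1 x.2) z rfl) hx]
      rw [show c * ((x : G) * x) * c⁻¹ = c * x * c⁻¹ * (c * x * c⁻¹) by group, hc,
        hsq4 _ ((Subgroup.mem_centralizer_iff.1 x.2) z rfl) hx,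
        hsq4 _ ((Subgroup.mem_centralizer_iff.1 x'.2) z rfl) hx']
    rw [← hxg, ← hxg']
    exact isConj_iff.2 ⟨π ⟨c, hcK⟩, by rw [← map_inv, ← map_mul, ← map_mul]; congr 1; exact Subtype.ext hc⟩
  -- the four characters of the principal block of the quotient
  obtain ⟨B, a, hB, hBcard, hpm, hBval, ha1, hBsum, hdeg⟩ := KleinFour.principal P hP hone hM
  set L := K ⧸ Subgroup.zpowers zK with hLdef
  have hoB : trivIrr L ∈ B := (hB _).2 (trivIrr_mem_principal hM)
  obtain ⟨ζf⟩ : Nonempty (Fin 3 ≃ {ζ // ζ ∈ B.erase (trivIrr L)}) :=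
    ⟨(Finset.equivFinOfCardEq (by rw [Finset.card_erase_of_mem hoB, hBcard])).symm⟩
  set ζ : Fin 3 → Cfsg.IrrCharacter L := fun k => (ζf k).1 with hζ
  have hζB : ∀ k, ζ k ∈ B := fun k => Finset.mem_of_mem_erase (ζf k).2
  have hζ1 : ∀ k, ζ k ≠ trivIrr L := fun k => Finset.ne_of_mem_erase (ζf k).2
  have hsumB : ∀ f : Cfsg.IrrCharacter L → ℂ, ∑ η ∈ B, f η = f (trivIrr L) + ∑ k, f (ζ k) := by
    intro f
    rw [← Finset.add_sum_erase _ _ hoB, ← Finset.sum_coe_sort (B.erase (trivIrr L))]
    congr 1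
    exact (Equiv.sum_comp ζf fun η => f η.1).symm
  set ζ' : Cfsg.IrrCharacter L → Cfsg.IrrCharacter K :=
    fun η => ⟨(η : L → ℂ) ∘ π, isIrrCharacter_comp_surjective π hπ η.2⟩ with hζ'
  have hζ'mem : ∀ k, ζ' (ζ k) ∈ Cfsg.principalBlock M K := fun k => by
    have h := sameBlock_inflate hM π hπ (χ := trivIrr L) ((hB _).1 (hζB k))
    exact h
  -- the functions on `K`
  set p : Fin 3 → K → ℂ := fun k g => 1 - (a (ζ k) : ℂ) * (ζ k : L → ℂ) (π g) with hp
  set φ : K → ℂ := fun g => ∑ η ∈ B, (a η : ℂ) * (η : L → ℂ) (π g) with hφ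
  have hp_inv : ∀ k g, p k (zK * g) = p k g := fun k g => by simp only [hp, hπz]
  have hp_sing : ∀ k g, 2 ∣ orderOf (π g) → p k g = 0 := fun k g h => by
    simp only [hp, hBval _ (hζB k) _ h]
    rcases hpm _ (hζB k) with e | e <;> simp [e]
  have hp_supp : ∀ k, SupportedNear zK (p k) := fun k g h1 h2 => hp_sing k g (by
    by_contra hne
    rcases regular_or_of_map hzKc hzKK π hker hne with h | h
    exacts [h h1, h h2])
  have hp_gen : ∀ k, Cfsg.IsGeneralizedCharacter K (p k) := fun k => by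
    refine isGen_sub (isGen_of_isCharacter isCharacter_one) ?_
    exact isGen_intSmul (isGen_of_isCharacter (irr_isCharacter (ζ' (ζ k)))) (a (ζ k))
  have hφ_gen : Cfsg.IsGeneralizedCharacter K φ := by
    rw [show φ = ∑ η ∈ B, (a η : ℂ) • ((ζ' η : K → ℂ)) by funext g; simp [hφ, hζ']]
    exact isGen_sum _ _ fun η _ => isGen_intSmul (isGen_of_isCharacter (irr_isCharacter (ζ' η))) (a η)
  have hφ_val : ∀ g, φ g = if 2 ∣ orderOf (π g) then 4 else 0 := fun g => hBsum (π g)
  have hip : ∀ η η' : Cfsg.IrrCharacter L,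
      Cfsg.classInner (ζ' η : K → ℂ) (ζ' η' : K → ℂ) = if η = η' then 1 else 0 := fun η η' => by
    rw [show (ζ' η : K → ℂ) = (η : L → ℂ) ∘ π from rfl,
      show (ζ' η' : K → ℂ) = (η' : L → ℂ) ∘ π from rfl, classInner_comp_surjective π hπ,
      classInner_irr]
  have hζ'o : (ζ' (trivIrr L) : K → ℂ) = fun _ => 1 := rfl
  have hp_eq : ∀ k, p k = (ζ' (trivIrr L) : K → ℂ) - (a (ζ k) : ℂ) • (ζ' (ζ k) : K → ℂ) := fun k => by
    funext g; simp [hp, hζ', trivIrr]
  have hpp : ∀ k l, Cfsg.classInner (p k) (p l) = if k = l then 2 else 1 := fun k l => by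
    rw [hp_eq, hp_eq]
    simp only [classInner_sub_left, classInner_sub_right, classInner_smul_left,
      classInner_smul_right, hip, map_intCast, if_pos, (hζ1 _).symm, hζ1, if_false]
    by_cases hkl : k = l
    · subst hkl
      rw [if_pos rfl, if_pos rfl]
      rcases hpm _ (hζB k) with e | e <;> simp [e] <;> norm_num
    · rw [if_neg (fun h => hkl (ζf.injective (Subtype.ext h))), if_neg hkl]
      simp
  have hp1 : ∀ k, Cfsg.classInner (p k) (fun _ => 1) = 1 := fun k => by
    rw [hp_eq, ← hζ'o]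
    simp only [classInner_sub_left, classInner_smul_left, hip, if_pos, hζ1, if_false]
    simp
  have hφφ : Cfsg.classInner φ φ = 4 := by
    rw [show φ = ∑ η ∈ B, (a η : ℂ) • ((ζ' η : K → ℂ)) by funext g; simp [hφ, hζ']]
    simp only [classInner_sum_left, classInner_sum_right, classInner_smul_left,
      classInner_smul_right, hip, map_intCast, mul_ite, mul_one, mul_zero, Finset.sum_ite_eq, Finset.sum_ite_eq']
    rw [Finset.sum_congr rfl (g := fun _ => (1 : ℂ)) fun η hη => by
      rw [Finset.sum_eq_single η (fun x _ hx => if_neg hx) (fun h => absurd hη h), if_pos rfl]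
      rcases hpm η hη with e | e <;> simp [e]]
    simp [hBcard]
  have hφ1 : Cfsg.classInner φ (fun _ => 1) = 1 := by
    rw [show φ = ∑ η ∈ B, (a η : ℂ) • ((ζ' η : K → ℂ)) by funext g; simp [hφ, hζ'], ← hζ'o]
    simp only [classInner_sum_left, classInner_smul_left, hip, mul_ite, mul_one, mul_zero,
      map_intCast]
    rw [Finset.sum_eq_single (trivIrr L) (fun x _ hx => if_neg hx) (fun h => absurd hoB h), if_pos rfl]
    exact_mod_cast ha1
  set f : Fin 3 → K → ℂ := fun k => dbl (p k) with hf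
  have hf_gen : ∀ k, Cfsg.IsGeneralizedCharacter K (f k) := fun k =>
    isGen_dbl hzKc hzKo (hp_gen k) (hp_supp k) (hp_inv k)
  -- the trivial intersection set
  set D : Set G := {g | g ∈ K ∧ 2 ∣ orderOf g} with hD
  have hTI : IsTI K D := by
    intro x hx g hg
    have h1 := mem_zpowers_of_singular hU hz ((Subgroup.mem_centralizer_iff.1 hx.1) z rfl) hx.2
    have h2 := mem_zpowers_of_singular hU hz ((Subgroup.mem_centralizer_iff.1 hg.1) z rfl) hg.2
    obtain ⟨i, hi⟩ := Subgroup.mem_zpowers_iff.1 h1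
    obtain ⟨j, hj⟩ := Subgroup.mem_zpowers_iff.1 h2
    have hgz : g * z * g⁻¹ = z := by
      refine (hU z _ hz (by rw [Involutions.Basic.orderOf_conj, hz]) ?_).symm
      rw [show g * z * g⁻¹ = (g * x * g⁻¹) ^ i by rw [conj_zpow, hi], ← hj]
      exact ((Commute.refl (g * x * g⁻¹)).zpow_left j).zpow_right i
    exact Subgroup.mem_centralizer_singleton_iff.2 (mul_inv_eq_iff_eq_mul.1 hgz)
  have hf_van : ∀ k, VanishOff D (f k) := fun k g hg =>
    dbl_regular _ fun h => hg ⟨g.2, by rwa [Subgroup.orderOf_coe]⟩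
  have hφ_van : VanishOff D φ := fun g hg => by
    rw [hφ_val, if_neg fun h => hg ⟨g.2, by
      rw [Subgroup.orderOf_coe]; exact h.trans (orderOf_map_dvd π g)⟩]
  have hφf : ∀ k, Cfsg.classInner φ (f k) = 0 := fun k => by
    rw [classInner_def, Finset.sum_eq_zero fun g _ => ?_, mul_zero]
    by_cases h : 2 ∣ orderOf (π g)
    · simp [hf, dbl, hp_sing k g h]
    · rw [hφ_val, if_neg h, zero_mul]
  -- coefficients in `G`
  set Φ := Cfsg.indFun K φ
  set H : Fin 3 → G → ℂ := fun k => Cfsg.indFun K (f k)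
  have hΦc : Cfsg.IsClassFunction G Φ := indFun_isClassFunction K φ
  have hHc : ∀ k, Cfsg.IsClassFunction G (H k) := fun k => indFun_isClassFunction K (f k)
  obtain ⟨v, hv⟩ := exists_coeffs (isGen_indFun K hφ_gen)
  choose c hc using fun k => exists_coeffs (isGen_indFun K (hf_gen k))
  have hreg0 : ∀ g : G, ¬ 2 ∣ orderOf g → Φ g = 0 ∧ ∀ k, H k g = 0 := by
    intro g hg
    have : ∀ x : G, x⁻¹ * g * x ∉ D := fun x hx => hg (by
      have h := hx.2
      rwa [show orderOf (x⁻¹ * g * x) = orderOf g by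
        simpa using Involutions.Basic.orderOf_conj x⁻¹ g] at h)
    exact ⟨indFun_eq_zero hφ_van g this, fun k => indFun_eq_zero (hf_van k) g this⟩
  have hv_eq : ∀ χ : Cfsg.IrrCharacter G,
      (v χ : ℂ) = Cfsg.classInner φ (fun h : K => (χ : G → ℂ) h) := fun χ => by
    rw [← hv, frobenius_reciprocity K φ (irr_isClassFunction χ)]
  have hc_eq : ∀ k (χ : Cfsg.IrrCharacter G),
      (c k χ : ℂ) = Cfsg.classInner (f k) (fun h : K => (χ : G → ℂ) h) := fun k χ => by
    rw [← hc, frobenius_reciprocity K (f k) (irr_isClassFunction χ)]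
  -- an element of order four
  obtain ⟨x₄, hx₄S, hx₄⟩ : ∃ x ∈ (S : Subgroup G), orderOf x = 4 := by
    refine ⟨e.symm (QuaternionGroup.a 1), (e.symm _).2, ?_⟩
    rw [Subgroup.orderOf_coe, MulEquiv.orderOf_eq, QuaternionGroup.orderOf_a_one]
  obtain ⟨N₄, hN₄, hN₄o, hN₄m⟩ := exists_regular_normal hQ8 hx₄
  have hval4 : ∀ χ : Cfsg.IrrCharacter G, χ ∈ Cfsg.principalBlock M G → ∀ g : K,
      2 ∣ orderOf (π g) → (χ : G → ℂ) g = (χ : G → ℂ) x₄ := by
    intro χ hχ g hg
    obtain ⟨x, hx, -, s, hxs, hcs, -, hso⟩ := hsing g hg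
    obtain ⟨d, hd⟩ := isConj_iff.1 (conj_four hQ8 hnc hx hx₄)
    have hdC : d * s * d⁻¹ ∈ Subgroup.centralizer ({x₄} : Set G) := by
      rw [Subgroup.mem_centralizer_singleton_iff, ← hd]
      calc d * s * d⁻¹ * (d * x * d⁻¹) = d * (s * x) * d⁻¹ := by group
        _ = d * (x * s) * d⁻¹ := by rw [hcs.eq]
        _ = _ := by group
    rw [← hxs, ← irr_isClassFunction χ (x * s) d,
      show d * (x * s) * d⁻¹ = (d * x * d⁻¹) * (d * s * d⁻¹) by group, hd]
    refine value_mul_of_mem hM ⟨2, by rw [hx₄]; norm_num⟩ hχ hN₄o (v := ⟨_, hdC⟩) ((hN₄m _).2 ?_)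
    rw [← Subgroup.orderOf_coe]
    show ¬ 2 ∣ orderOf (d * s * d⁻¹)
    rwa [Involutions.Basic.orderOf_conj]
  have hv_in : ∀ χ : Cfsg.IrrCharacter G, χ ∈ Cfsg.principalBlock M G →
      (χ : G → ℂ) x₄ = (v χ : ℂ) := by
    intro χ hχ
    have h : (v χ : ℂ) = conj ((χ : G → ℂ) x₄) * Cfsg.classInner φ (fun _ => 1) := by
      rw [hv_eq, classInner_def, classInner_def, mul_left_comm, Finset.mul_sum _ _ (conj _)]
      congr 1
      refine Finset.sum_congr rfl fun g _ => ?_
      by_cases hg : 2 ∣ orderOf (π g)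
      · rw [hval4 χ hχ g hg, map_one]; ring
      · rw [hφ_val, if_neg hg]; simp
    rw [hφ1, mul_one] at h
    have h' := congrArg (fun t => conj t) h
    simp only [map_intCast, Complex.conj_conj] at h'
    exact h'.symm
  have hv_out : ∀ χ : Cfsg.IrrCharacter G, χ ∉ Cfsg.principalBlock M G → v χ = 0 := by
    intro χ hχ
    have h : Cfsg.classInner φ (fun h : K => (χ : G → ℂ) h) = 0 := by
      rw [classInner_def]
      refine mul_eq_zero_of_right _ ?_
      rw [Finset.sum_congr rfl (g := fun g : K =>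
        if 2 ∣ orderOf (π g) then 4 * conj ((χ : G → ℂ) g) else 0) fun g _ => by
          rw [hφ_val]; split <;> simp, ← Finset.sum_filter, ← Finset.mul_sum, ← map_sum]
      set X := Finset.univ.filter fun x : G => orderOf x = 4 ∧ x ∈ K with hX
      have hX2 : ∀ x ∈ X, ∃ k : ℕ, orderOf x = 2 ^ k := fun x hx =>
        ⟨2, by rw [(Finset.mem_filter.1 hx).2.1]; norm_num⟩
      have hbij : ∑ g ∈ Finset.univ.filter (fun g : K => 2 ∣ orderOf (π g)), (χ : G → ℂ) g =
          ∑ g ∈ Finset.univ.filter (fun g : G => ∃ x ∈ X, Cfsg.IsPPart 2 g x), (χ : G → ℂ) g := by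
        refine Finset.sum_bij (fun g _ => (g : G)) (fun g hg => ?_)
          (fun _ _ _ _ h => Subtype.ext h) (fun g hg => ?_) fun _ _ => rfl
        · obtain ⟨x, hx, hxK, hxp⟩ := hsing g (Finset.mem_filter.1 hg).2
          exact Finset.mem_filter.2 ⟨Finset.mem_univ _, x,
            Finset.mem_filter.2 ⟨Finset.mem_univ _, hx, hxK⟩, hxp⟩
        · obtain ⟨x, hx, s, rfl, hcs, -, hso⟩ := (Finset.mem_filter.1 hg).2
          obtain ⟨hx4, hxK⟩ := (Finset.mem_filter.1 hx).2
          have hx2 := hsq4 x ((Subgroup.mem_centralizer_iff.1 hxK) z rfl) hx4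
          have hsK : s ∈ K := by
            rw [hK, Subgroup.mem_centralizer_singleton_iff, ← hx2]
            exact ((hcs.symm.mul_right hcs.symm)).eq
          refine ⟨⟨x * s, mul_mem hxK hsK⟩, Finset.mem_filter.2 ⟨Finset.mem_univ _, ?_⟩, rfl⟩
          by_contra hne
          -- the fourth roots of unity do not survive
          have hord : orderOf (x * s) = 4 * orderOf s := by
            rw [hcs.orderOf_mul_eq_mul_orderOf_of_coprime ?_, hx4]
            rw [hx4, show (4 : ℕ) = 2 ^ 2 from rfl]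
            exact Nat.Coprime.pow_left 2 (Nat.prime_two.coprime_iff_not_dvd.2 hso)
          rcases regular_or_of_map hzKc hzKK π hker hne with h | h
          · refine h ?_
            rw [← Subgroup.orderOf_coe]
            show 2 ∣ orderOf (x * s)
            rw [hord]; exact dvd_mul_of_dvd_left (by norm_num) _
          · refine h ?_
            rw [← Subgroup.orderOf_coe]
            show 2 ∣ orderOf (z * (x * s))
            have hz' : Commute z (x * s) :=
              ((Subgroup.mem_centralizer_iff.1 (mul_mem hxK hsK)) z rfl)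
            by_contra hodd
            have hd : orderOf (x * s) ∣ 2 * orderOf (z * (x * s)) := by
              refine orderOf_dvd_of_pow_eq_one ?_
              have h1 := pow_orderOf_eq_one (z * (x * s))
              have h2 : (z * (x * s)) ^ (2 * orderOf (z * (x * s))) = 1 := by
                rw [mul_comm, pow_mul, h1, one_pow]
              rw [hz'.mul_pow, pow_mul, pow_two, hzz, one_pow, one_mul] at h2
              exact h2
            rw [hord] at hd
            have h4 : 2 * 2 ∣ 2 * orderOf (z * (x * s)) := (dvd_mul_right 4 _).trans hd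
            exact hodd (Nat.dvd_of_mul_dvd_mul_left (by norm_num) h4)
      rw [hbij, sum_section Nat.prime_two X hX2, Finset.sum_eq_zero fun x hx => by
        rw [sum_commute_eq_regSum]; exact regSum_shift_one hM (hX2 x hx) hχ]
      simp
    rw [← hv_eq] at h
    exact_mod_cast h
  -- the `c k`
  have hθ : ∀ (χ : Cfsg.IrrCharacter G) k, (c k χ : ℂ) = conj (2 * (Nat.card K : ℂ)⁻¹ *
      regSum 2 (shift z (χ : G → ℂ)) (p k)) := fun χ k => by
    rw [hc_eq, classInner_dbl hzKc hzKo (hp_supp k) (hp_inv k), regSum_symm]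
    simp only [map_mul, map_inv₀, map_natCast, Complex.conj_ofNat]
    rfl
  have hc_out : ∀ k (χ : Cfsg.IrrCharacter G), χ ∉ Cfsg.principalBlock M G → c k χ = 0 := by
    intro k χ hχ
    have h := hθ χ k
    rw [regSum_shift_eq_zero hM ⟨1, by rw [hz, pow_one]⟩ hχ (p k) fun ξ hξ => ?_, mul_zero,
      map_zero] at h
    · exact_mod_cast h
    · rw [show p k = fun g => (trivIrr K : K → ℂ) g - (a (ζ k) : ℂ) * (ζ' (ζ k) : K → ℂ) g from rfl,
        regSum_sub_smul, regSum_eq_zero_of_not_sameBlock hM (ψ := trivIrr K)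
          fun h => hξ (sameBlock_symm hM h),
        regSum_eq_zero_of_not_sameBlock hM (ψ := ζ' (ζ k))
          fun h => hξ (sameBlock_trans hM (hζ'mem k) (sameBlock_symm hM h))]
      simp
  -- the value at `z`
  choose d hdpos hd using fun χ : Cfsg.IrrCharacter G => irr_one_pos χ.2
  choose y hy using fun χ : Cfsg.IrrCharacter G =>
    KleinFour.exists_int_value (irr_isCharacter χ) (g := z) hzz
  choose dL hdLpos hdL using fun η : Cfsg.IrrCharacter L => irr_one_pos η.2
  have hdL0 : (dL (trivIrr L) : ℂ) = 1 := (hdL _).symm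
  set ek : Fin 3 → ℤ := fun k => a (ζ k) * (dL (ζ k) : ℤ) with hek
  have hesum : ∑ k, ek k = -1 := by
    have h := hBsum 1
    rw [if_neg (by simp), hsumB] at h
    simp only [hdL, hdL0] at h
    have h0 : (a (trivIrr L) : ℂ) = 1 := by exact_mod_cast ha1
    have : ((∑ k, ek k : ℤ) : ℂ) = ((-1 : ℤ) : ℂ) := by
      simp only [hek]
      push_cast
      linear_combination h - h0
    exact_mod_cast this
  have hodd : ∀ k, ¬ 2 ∣ ek k := by
    intro k
    obtain ⟨m, hm⟩ := hdeg _ (hζB k)
    rw [hdL] at hm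
    have hm' : (dL (ζ k) : ℤ) = a (ζ k) + 4 * m := by exact_mod_cast hm
    rcases hpm _ (hζB k) with e' | e' <;> simp only [hek, hm', e'] <;> omega
  have hy_eq : ∀ χ : Cfsg.IrrCharacter G, χ ∈ Cfsg.principalBlock M G →
      y χ = -∑ k, c k χ * ek k := by
    intro χ hχ
    set θ := shift z (χ : G → ℂ)
    -- transport to the quotient
    set σ : L → K := Function.surjInv hπ
    set lift : L → K := fun l => if 2 ∣ orderOf (σ l) then zK * σ l else σ l with hlift
    set F : L → ℂ := fun l => if 2 ∣ orderOf l then 0 else θ (lift l) with hF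
    have hliftπ : ∀ g : K, ¬ 2 ∣ orderOf g → lift (π g) = g := by
      intro g hg
      have hσ := Function.surjInv_eq hπ (π g)
      rcases (hker ((σ (π g)) * g⁻¹)).1 (by rw [map_mul, map_inv, hσ, mul_inv_cancel]) with h | h
      · have hs := mul_inv_eq_one.1 h
        simp only [hlift, hs, if_neg hg]
      · have hs := mul_inv_eq_iff_eq_mul.1 h
        have hsd : 2 ∣ orderOf (σ (π g)) := by
          rw [hs, orderOf_mul_regular hzKo (Subgroup.mem_center_iff.1 hzKc g).symm hg]
          exact dvd_mul_right 2 _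
        simp only [hlift, if_pos hsd]
        rw [hs, ← mul_assoc, hzKK, one_mul]
    have hFreg : ∀ g : K, ¬ 2 ∣ orderOf g → F (π g) = θ g := fun g hg => by
      simp only [hF, hliftπ g hg]
      exact if_neg fun h : 2 ∣ orderOf (π g) => hg (h.trans (orderOf_map_dvd π g))
    have hFc : Cfsg.IsClassFunction L F := by
      intro l b
      obtain ⟨b, rfl⟩ := hπ b
      by_cases hl : 2 ∣ orderOf l
      · simp [hF, BlockCharsA.RegularPart.orderOf_conj', hl]
      obtain ⟨g, rfl⟩ := hπ l
      obtain ⟨g', hg', he⟩ : ∃ g' : K, ¬ 2 ∣ orderOf g' ∧ π g' = π g := by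
        rcases regular_or_of_map hzKc hzKK π hker hl with h | h
        exacts [⟨g, h, rfl⟩, ⟨zK * g, h, hπz g⟩]
      rw [← he, ← map_inv, ← map_mul, ← map_mul, hFreg _ hg',
        hFreg _ (by rwa [BlockCharsA.RegularPart.orderOf_conj'])]
      exact isClassFunction_shift z (irr_isClassFunction χ) g' b
    have hFη : ∀ η : Cfsg.IrrCharacter L, regSum 2 θ (ζ' η : K → ℂ) =
        (Nat.card L : ℂ) * Cfsg.classInner F (η : L → ℂ) := by
      intro η
      rw [regSum_eq_sum, ← Finset.sum_filter, Finset.sum_congr rfl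
        (g := fun g : K => F (π g) * conj ((η : L → ℂ) (π g))) fun g hg => by
          rw [hFreg g (Finset.mem_filter.1 hg).2]; rfl,
        sum_regular_quotient hzKc hzKo π hπ hker (fun l => F l * conj ((η : L → ℂ) l)),
        classInner_def, ← mul_assoc, mul_inv_cancel₀ natCard_ne_zero, one_mul, Finset.sum_filter]
      exact Finset.sum_congr rfl fun l _ => by
        by_cases hl : 2 ∣ orderOf l <;> simp [hl, hF]
    have hFout : ∀ η : Cfsg.IrrCharacter L, η ∉ B → Cfsg.classInner F (η : L → ℂ) = 0 := by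
      intro η hη
      have h := hFη η
      rw [regSum_shift_principal_eq_zero hM ⟨1, by rw [hz, pow_one]⟩ hχ _ fun ξ hξ => ?_] at h
      · exact ((mul_eq_zero.1 h.symm).resolve_left natCard_ne_zero)
      · refine regSum_eq_zero_of_not_sameBlock hM fun hs => hη ((hB η).2 ?_)
        exact mem_principal_of_inflate hM hzKc hzKo π hπ hker (ζ' := ζ' η) rfl
          (sameBlock_trans hM hξ hs)
    set A : Cfsg.IrrCharacter L → ℂ := fun η => Cfsg.classInner F (η : L → ℂ) with hA
    have hF1 : (y χ : ℂ) = A (trivIrr L) + ∑ k, A (ζ k) * (dL (ζ k) : ℂ) := by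
      have h := congrFun (classFun_eq_sum hFc) 1
      simp only [Finset.sum_apply, Pi.smul_apply, smul_eq_mul] at h
      rw [← Finset.sum_subset (Finset.subset_univ B) (fun η _ hη => by rw [hFout η hη, zero_mul]),
        hsumB] at h
      simp only [hdL, hdL0, mul_one] at h
      rw [hA, ← h, ← map_one π, hFreg 1 (by simp)]
      show (y χ : ℂ) = (χ : G → ℂ) (z * ((1 : K) : G))
      rw [OneMemClass.coe_one, mul_one, hy]
    have hck : ∀ k, (c k χ : ℂ) = A (trivIrr L) - (a (ζ k) : ℂ) * A (ζ k) := by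
      intro k
      have h := congrArg (fun t => conj t) (hθ χ k)
      simp only [map_intCast, Complex.conj_conj] at h
      rw [h, show p k = fun g => (ζ' (trivIrr L) : K → ℂ) g - (a (ζ k) : ℂ) * (ζ' (ζ k) : K → ℂ) g
        from rfl, regSum_sub_smul, hFη, hFη]
      have hKL : (Nat.card K : ℂ) = 2 * (Nat.card L : ℂ) := by
        have h5 := (Subgroup.zpowers zK).card_mul_index
        rw [Nat.card_zpowers, hzKo, Subgroup.index_eq_card] at h5
        rw [← h5]
        push_cast
        rfl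
      have hL0 : (Nat.card L : ℂ) ≠ 0 := natCard_ne_zero
      rw [hKL, hA]
      field_simp
    have : (y χ : ℂ) = ((-∑ k, c k χ * ek k : ℤ) : ℂ) := by
      rw [hF1]
      push_cast
      simp only [hek, Int.cast_mul, Int.cast_natCast, hck]
      have hesum' : ∑ k, (a (ζ k) : ℂ) * (dL (ζ k) : ℂ) = -1 := by
        have h := congrArg (fun t : ℤ => (t : ℂ)) hesum
        simpa [hek] using h
      have hsq : ∀ k, (a (ζ k) : ℂ) * (a (ζ k) : ℂ) = 1 := fun k => by
        rcases hpm _ (hζB k) with e' | e' <;> simp [e']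
      have : ∀ k, (A (trivIrr L) - (a (ζ k) : ℂ) * A (ζ k)) * ((a (ζ k) : ℂ) * (dL (ζ k) : ℂ)) =
          A (trivIrr L) * ((a (ζ k) : ℂ) * (dL (ζ k) : ℂ)) - A (ζ k) * (dL (ζ k) : ℂ) := fun k => by
        linear_combination -(A (ζ k) * (dL (ζ k) : ℂ)) * hsq k
      simp only [this, Finset.sum_sub_distrib, ← Finset.mul_sum, hesum']
      ring
    exact_mod_cast this
  -- parity
  have hsupp : ∀ χ : Cfsg.IrrCharacter G, Lattice.Supp v c χ → χ ∈ Cfsg.principalBlock M G := by
    intro χ hχ
    by_contra hne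
    rcases hχ with h | ⟨k, h⟩
    exacts [h (hv_out χ hne), h (hc_out k χ hne)]
  have hpar : ∀ χ : Cfsg.IrrCharacter G, 2 ∣ v χ + ∑ k, c k χ := by
    intro χ
    by_cases hχ : χ ∈ Cfsg.principalBlock M G
    swap
    · simp [hv_out χ hχ, hc_out _ χ hχ]
    have h1 := char_cong_of_commute hM χ (x := z) (y := 1) (Commute.one_right z) (k := 1)
      (by rw [pow_one, pow_two, hzz]) (by simp)
    have h2 := char_cong_of_commute hM χ (x := x₄) (y := 1) (Commute.one_right x₄) (k := 2)
      (orderOf_dvd_iff_pow_eq_one.1 (by rw [hx₄]; norm_num)) (by simp)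
    rw [mul_one] at h1 h2
    rw [hy] at h1
    rw [hv_in χ hχ] at h2
    have h3 := cong_trans hM h1 (cong_symm hM h2)
    rw [Cong, ← Int.cast_sub] at h3
    have h4 := (ideal_intCast_iff hM _).1 h3
    have h5 : ∀ k, 2 ∣ c k χ * ek k - c k χ := fun k => by
      rw [← mul_sub_one]
      exact dvd_mul_of_dvd_right (by have := hodd k; omega) _
    have h6 := Finset.dvd_sum fun k (_ : k ∈ (Finset.univ : Finset (Fin 3))) => h5 k
    rw [Finset.sum_sub_distrib] at h6
    rw [hy_eq χ hχ] at h4
    push_cast at h4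
    omega
  -- the identities
  have hhol : ∀ (F : G → ℂ) (w : Cfsg.IrrCharacter G → ℤ), Cfsg.IsClassFunction G F →
      (∀ χ : Cfsg.IrrCharacter G, Cfsg.classInner F (χ : G → ℂ) = (w χ : ℂ)) →
      (∀ g : G, ¬ 2 ∣ orderOf g → F g = 0) →
      (∑ χ, w χ * (d χ : ℤ) = 0) ∧
        ∑ χ, (w χ : ℚ) * ((y χ : ℚ) ^ 2 / ((d χ : ℤ) : ℚ)) = 0 := by
    intro F w hFc hw h0
    constructor
    · have h := h0 1 (by simp)
      rw [value_eq_sum hFc hw] at h
      simp only [hd] at h
      exact_mod_cast h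
    · have h := sum_counting_eq_zero hFc hw z fun x => h0 _ (regular_pair hU hz x)
      simp only [hd, hy] at h
      have h' : ((∑ χ, (w χ : ℚ) * ((y χ : ℚ) ^ 2 / ((d χ : ℤ) : ℚ)) : ℚ) : ℂ) = 0 := by
        rw [← h]
        push_cast
        exact Finset.sum_congr rfl fun χ _ => by ring
      exact_mod_cast h'
  have hd0 : (d (trivIrr G) : ℤ) = 1 := by
    have h : (d (trivIrr G) : ℂ) = 1 := (hd _).symm
    exact_mod_cast h
  have hy0 : y (trivIrr G) = 1 := by
    have h : (y (trivIrr G) : ℂ) = 1 := (hy _).symm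
    exact_mod_cast h
  have hv0 : v (trivIrr G) = 1 := by
    have h := hv_eq (trivIrr G)
    rw [show (fun h : K => (trivIrr G : G → ℂ) h) = fun _ => 1 from rfl, hφ1] at h
    exact_mod_cast h
  have hc0 : ∀ k, c k (trivIrr G) = 1 := fun k => by
    have h := hc_eq k (trivIrr G)
    rw [show (fun h : K => (trivIrr G : G → ℂ) h) = fun _ => 1 from rfl, hf,
      classInner_dbl_one hzKc hzKo (hp_supp k) (hp_inv k), hp1] at h
    exact_mod_cast h
  have hlat := Lattice.lattice (trivIrr G) v c ek y (fun χ => (d χ : ℤ))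
    (fun χ => Int.natCast_pos.2 (hdpos χ)) hd0 hy0 hv0 hc0 hesum
    (sum_mul_coeffs hΦc hv hv (by
      rw [classInner_indFun hTI (isGen_isClassFunction hφ_gen) hφ_van hφ_van, hφφ]; norm_num))
    (fun k => sum_mul_coeffs hΦc hv (hc k) (by
      rw [classInner_indFun hTI (isGen_isClassFunction hφ_gen) hφ_van (hf_van k), hφf]; norm_num))
    (fun k l => sum_mul_coeffs (hHc k) (hc k) (hc l) (by
      rw [classInner_indFun hTI (isGen_isClassFunction (hf_gen k)) (hf_van k) (hf_van l), hf,
        classInner_dbl_dbl hzKc hzKo (hp_supp k) (hp_inv k) (hp_inv l), hpp]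
      split <;> norm_num))
    (fun χ hχ => hy_eq χ (hsupp χ hχ)) hpar
    (hhol Φ v hΦc hv fun g hg => (hreg0 g hg).1).1
    (fun k => (hhol (H k) (c k) (hHc k) (hc k) fun g hg => (hreg0 g hg).2 k).1)
    (hhol Φ v hΦc hv fun g hg => (hreg0 g hg).1).2
    (fun k => (hhol (H k) (c k) (hHc k) (hc k) fun g hg => (hreg0 g hg).2 k).2)
  rcases hlat with ⟨χ, hne, hs, h1⟩ | ⟨⟨χ, hne, -, h1⟩, h7⟩
  · exfalso
    have hχ1 : (χ : G → ℂ) 1 = 1 := by rw [hd, show d χ = 1 by exact_mod_cast h1, Nat.cast_one]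
    -- linear characters are trivial on the elements of order four
    obtain ⟨i, hi, j, hj, hij⟩ : ∃ i : G, orderOf i = 4 ∧ ∃ j : G, orderOf j = 4 ∧
        orderOf (i * j) = 4 := by
      refine ⟨e.symm (QuaternionGroup.a 1), ?_, e.symm (QuaternionGroup.xa 0), ?_, ?_⟩
      · rw [Subgroup.orderOf_coe, MulEquiv.orderOf_eq, QuaternionGroup.orderOf_a_one]
      · rw [Subgroup.orderOf_coe, MulEquiv.orderOf_eq, QuaternionGroup.orderOf_xa]
      · rw [← Subgroup.coe_mul, ← map_mul, Subgroup.orderOf_coe, MulEquiv.orderOf_eq,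
          QuaternionGroup.a_mul_xa, QuaternionGroup.orderOf_xa]
    have hval : ∀ w : G, orderOf w = 4 → (χ : G → ℂ) w = (χ : G → ℂ) x₄ := fun w hw => by
      obtain ⟨c, hc⟩ := isConj_iff.1 (conj_four hQ8 hnc hw hx₄)
      rw [← hc, irr_isClassFunction χ w c]
    have hm := hval _ hij
    rw [char_mul_of_degree_one (irr_isCharacter χ) hχ1, hval i hi, hval j hj] at hm
    have hv' : (χ : G → ℂ) x₄ = -1 := by
      rw [hv_in χ (hsupp χ (Or.inl (by rw [hs]; norm_num))), hs]; norm_num
    rw [hv'] at hm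
    norm_num at hm
  · refine ⟨⟨χ, hne, by rw [hy, hd, h1, Int.cast_natCast]⟩, fun hzc => ?_⟩
    rw [← h7, ← Nat.card_eq_finsetCard]
    refine Nat.card_congr (Equiv.subtypeEquivRight fun χ => ?_)
    rw [Finset.mem_filter]
    refine ⟨fun hχ => ⟨Finset.mem_univ _, ?_⟩, fun h => hsupp χ h.2⟩
    by_contra hns
    simp only [Lattice.Supp, not_or, not_exists, not_not] at hns
    have hy0' : y χ = 0 := by rw [hy_eq χ hχ]; simp [hns.2]
    obtain ⟨w, hw, hwe⟩ := exists_sign χ.2 hzc hzz
    have h2 := hwe 1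
    rw [mul_one, hy, hy0', hd, Int.cast_zero] at h2
    rcases hw with rfl | rfl <;> simp [(hdpos χ).ne', eq_comm] at h2

end Cfsg.Agent.ZStar.QuaternionEight
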