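import Mathlib
import Cfsg.Agent.Lib.ZStar.QuaternionEight
import Cfsg.Agent.Lib.ZStar.QuaternionLarge
import Cfsg.Agent.Lib.PGroups.UniqueSubgroup
import Cfsg.Agent.InvChar.Core
import Cfsg.Agent.BlockCharsA.DefectZeroVanish

/-!
# Glauberman's `Z*`-theorem

By induction on the group order an isolated involution is central in a group without nontrivial
normal subgroups of odd order. When all commuting involutions coincide this is the Brauer–Suzuki
theorem; otherwise the characters of the principal 2-block satisfy `χ(z) χ(t) = χ(1) χ(zt)` for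
the involutions `t ≠ z` commuting with `z`.
-/

set_option autoImplicit false
set_option linter.style.haveILetI false
set_option linter.unusedSectionVars false

namespace Cfsg.Agent.ZStar.Main

open Cfsg.Agent.Blocks Cfsg.Agent.Characters
open Cfsg.Agent.ZStar.Principal Cfsg.Agent.ZStar.UniqueInvolution
open scoped ComplexConjugate

universe u

variable {G : Type u} [Group G] [Finite G]

/-- The theorem for all groups smaller than `n`. -/
def Smaller (n : ℕ) : Prop :=
  ∀ (H : Type u) [Group H] [Finite H], Nat.card H < n →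
    ∀ z : H, Cfsg.IsIsolatedInvolution z → ∀ g : H, z * g * z⁻¹ * g⁻¹ ∈ Cfsg.oddCore H

instance oddCore_normal : (Cfsg.oddCore G).Normal :=
  haveI : (Cfsg.oddCore G).Characteristic := InvChar.Core.pPrimeCore_characteristic 2
  inferInstance

theorem isolated_subgroup {z : G} (hz : Cfsg.IsIsolatedInvolution z) {H : Subgroup G} (hzH : z ∈ H) :
    Cfsg.IsIsolatedInvolution (⟨z, hzH⟩ : H) :=
  ⟨by rw [← Subgroup.orderOf_coe]; exact hz.1,
    fun g hg => Subtype.ext (hz.2 g (congrArg Subtype.val hg.eq))⟩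

theorem mem_center_of_commutator {z : G} (h : ∀ g : G, z * g * z⁻¹ * g⁻¹ = 1) :
    z ∈ Subgroup.center G :=
  Subgroup.mem_center_iff.2 fun g =>
    (mul_inv_eq_iff_eq_mul.1 (mul_inv_eq_one.1 (h g))).symm

/-- A proper normal subgroup containing the involution forces it to be central. -/
theorem of_normal (hS : Smaller.{u} (Nat.card G)) (hO : Cfsg.oddCore G = ⊥) {z : G}
    (hz : Cfsg.IsIsolatedInvolution z) {N : Subgroup G} (hN : N.Normal) (hzN : z ∈ N)
    (hne : N ≠ ⊤) : z ∈ Subgroup.center G := by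
  have hlt : Nat.card N < Nat.card G :=
    lt_of_le_of_ne (Subgroup.card_le_card_group N) fun h => hne (Subgroup.eq_top_of_card_eq N h)
  have hc : (⟨z, hzN⟩ : N) ∈ Subgroup.center N := mem_center_of_commutator fun g => by
    have h := hS N hlt _ (isolated_subgroup hz hzN) g
    rwa [InvChar.Core.oddCore_eq_bot_of_isSubnormal hO hN.isSubnormal, Subgroup.mem_bot] at h
  refine Subgroup.mem_center_iff.2 fun g => mul_inv_eq_iff_eq_mul.1 (hz.2 g ?_)
  exact (congrArg Subtype.val
    (Subgroup.mem_center_iff.1 hc ⟨g * z * g⁻¹, hN.conj_mem z hzN g⟩)).symm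

/-- A central involution forces the isolated involution to be central. -/
theorem of_central (hS : Smaller.{u} (Nat.card G)) (hO : Cfsg.oddCore G = ⊥) {z c : G}
    (hz : Cfsg.IsIsolatedInvolution z) (hc : c ∈ Subgroup.center G) (hco : orderOf c = 2) :
    z ∈ Subgroup.center G := by
  classical
  by_cases hcz : c = z
  · exact hcz ▸ hc
  have hcc : c * c = 1 := by rw [← pow_two, ← hco, pow_orderOf_eq_one]
  set C := Subgroup.zpowers c with hCdef
  have hCc : C ≤ Subgroup.center G := Subgroup.zpowers_le.2 hc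
  haveI : C.Normal := ⟨fun y hy k => by
    rwa [Subgroup.mem_center_iff.1 (hCc hy) k, mul_inv_cancel_right]⟩
  have hmemC : ∀ y, y ∈ C → y = 1 ∨ y = c := fun y hy => by
    obtain ⟨i, rfl⟩ := Subgroup.mem_zpowers_iff.1 hy
    rcases Int.even_or_odd' i with ⟨j, rfl | rfl⟩
    · left; rw [zpow_mul, zpow_two, hcc, one_zpow]
    · right; rw [zpow_add_one, zpow_mul, zpow_two, hcc, one_zpow, one_mul]
  have hzC : z ∉ C := fun h => (hmemC z h).elim (Involutions.Basic.ne_one hz.1) (Ne.symm hcz)
  have hlt : Nat.card (G ⧸ C) < Nat.card G := by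
    have h := C.card_eq_card_quotient_mul_card_subgroup
    have h2 : Nat.card C = 2 := by rw [hCdef, Nat.card_zpowers, hco]
    rw [h2] at h
    have := Nat.card_pos (α := G ⧸ C)
    omega
  set π := QuotientGroup.mk' C
  set P := (Cfsg.oddCore (G ⧸ C)).comap π with hP
  haveI : P.Normal := Subgroup.Normal.comap inferInstance π
  -- the center of `P` has odd index
  set d := (Subgroup.center P).index with hd
  have hd2 : Odd d := by
    set φ := π.comp P.subtype with hφ
    have hker : φ.ker ≤ Subgroup.center P := fun y hy => by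
      rw [MonoidHom.mem_ker, hφ, MonoidHom.comp_apply, QuotientGroup.mk'_apply,
        QuotientGroup.eq_one_iff] at hy
      exact Subgroup.mem_center_iff.2 fun w => Subtype.ext (Subgroup.mem_center_iff.1 (hCc hy) w)
    have hdvd := Subgroup.index_dvd_of_le hker
    rw [Subgroup.index_ker, hφ, MonoidHom.range_comp, Subgroup.range_subtype, hP,
      Subgroup.map_comap_eq_self_of_surjective (QuotientGroup.mk'_surjective C)] at hdvd
    exact InvChar.Core.odd_card_oddCore.of_dvd_nat hdvd
  set m := Nat.card (Cfsg.oddCore (G ⧸ C)) with hm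
  have hm2 : Odd m := InvChar.Core.odd_card_oddCore
  set f : P →* Subgroup.center P :=
    MonoidHom.mk' (fun y => MonoidHom.transferCenterPow P y ^ m) (fun a b => by
      simp only [map_mul]
      exact Commute.mul_pow (Subtype.ext
        (Subgroup.mem_center_iff.1 (MonoidHom.transferCenterPow P b).2 _)) m) with hf
  have hfv : ∀ y : P, f y = 1 ↔ (y : G) ^ (d * m) = 1 := fun y => by
    simp [hf, Subtype.ext_iff, pow_mul, hd]
  have hKodd : Odd (Nat.card f.ker) := by
    rw [← Nat.not_even_iff_odd, even_iff_two_dvd]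
    intro h
    haveI : Fact (Nat.Prime 2) := ⟨Nat.prime_two⟩
    obtain ⟨y, hy⟩ := exists_prime_orderOf_dvd_card' 2 h
    have h1 : (y : P) ^ (d * m) = 1 := Subtype.ext (by simpa using (hfv y).1 y.2)
    have h2 : orderOf y ∣ d * m := orderOf_dvd_of_pow_eq_one (Subtype.ext (by simpa using h1))
    rw [hy] at h2
    exact Nat.not_even_iff_odd.2 (hd2.mul hm2) (even_iff_two_dvd.2 h2)
  set K := f.ker.map P.subtype with hK
  have hKn : K.Normal := ⟨fun y hy g => by
    obtain ⟨w, hw, rfl⟩ := hy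
    refine ⟨⟨g * w * g⁻¹, Subgroup.Normal.conj_mem inferInstance _ w.2 g⟩, ?_, rfl⟩
    have hw' := (hfv w).1 hw
    refine (hfv _).2 ?_
    show (g * (w : G) * g⁻¹) ^ (d * m) = 1
    rw [conj_pow, hw', mul_one, mul_inv_cancel]⟩
  have hKbot : K = ⊥ := by
    refine le_bot_iff.1 (hO ▸ InvChar.Core.le_oddCore hKn ?_)
    rwa [hK, Subgroup.card_map_of_injective P.subtype_injective]
  refine mem_center_of_commutator fun g => ?_
  set x := z * g * z⁻¹ * g⁻¹
  have hxP : x ∈ P := hS (G ⧸ C) hlt _ (Involutions.Isolated.quotient hz C hzC).1 (π g)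
  have hxodd : Odd (orderOf x) := (Involutions.Isolated.iff_odd_commutators hz.1).1 hz g
  have hxm : x ^ m ∈ C := by
    rw [← QuotientGroup.eq_one_iff]
    exact congrArg Subtype.val (pow_card_eq_one' (x := (⟨π x, hxP⟩ : Cfsg.oddCore (G ⧸ C))))
  have hxm1 : x ^ m = 1 := by
    refine (hmemC _ hxm).resolve_right fun h => ?_
    have := (hxodd.of_dvd_nat (orderOf_pow_dvd (x := x) m))
    rw [h, hco] at this
    exact Nat.not_even_iff_odd.2 this even_two
  have hxK : x ∈ K := ⟨⟨x, hxP⟩, (hfv _).2 (by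
    show x ^ (d * m) = 1
    rw [mul_comm, pow_mul, hxm1, one_pow]), rfl⟩
  rwa [hKbot, Subgroup.mem_bot] at hxK

/-- A nonprincipal character with `χ(z) = ± χ(1)` forces the involution to be central. -/
theorem of_scalar (hS : Smaller.{u} (Nat.card G)) (hO : Cfsg.oddCore G = ⊥) {z : G}
    (hz : Cfsg.IsIsolatedInvolution z) {χ : Cfsg.IrrCharacter G} (hne : χ ≠ trivIrr G)
    (hsq : (χ : G → ℂ) z * (χ : G → ℂ) z = (χ : G → ℂ) 1 * (χ : G → ℂ) 1)
    (hlin : (χ : G → ℂ) 1 = 1 → (χ : G → ℂ) z = 1) : z ∈ Subgroup.center G := by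
  set K := charKernel (χ : G → ℂ) (irr_isCharacter χ) with hK
  haveI : K.Normal := charKernel_normal _
  have hKtop : (χ : G → ℂ) 1 = 1 → K ≠ ⊤ := fun h1 h =>
    hne (Subtype.ext (funext fun g => by
      have hg : g ∈ K := h ▸ Subgroup.mem_top g
      rw [mem_charKernel.1 hg, h1]
      rfl))
  by_cases h1 : (χ : G → ℂ) 1 = 1
  · exact of_normal hS hO hz inferInstance (mem_charKernel.2 (by rw [hlin h1, h1])) (hKtop h1)
  set Z := (Subgroup.center (G ⧸ K)).comap (QuotientGroup.mk' K) with hZ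
  have hzZ : z ∈ Z := by
    obtain ⟨n, ρ, hρ, hρe⟩ := χ.2
    obtain ⟨ω, hω⟩ := rep_apply_eq_smul_of_norm_eq ρ z (by
      have h2 := congrArg (fun t : ℂ => ‖t‖) hsq
      simp only [norm_mul] at h2
      have hr := (mul_self_inj (norm_nonneg _) (norm_nonneg _)).1 h2
      rw [← hρe, ρ.char_one, Complex.norm_natCast] at hr
      exact hr)
    refine Subgroup.mem_center_iff.2 fun q => ?_
    obtain ⟨g, rfl⟩ := QuotientGroup.mk_surjective q
    refine QuotientGroup.eq.2 (mem_charKernel.2 ?_)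
    have hcomm : ρ (g * z) = ρ (z * g) := by
      rw [map_mul, map_mul, hω]
      ext v
      simp [map_smul]
    rw [← hρe]
    show ρ.character ((g * z)⁻¹ * (z * g)) = ρ.character 1
    refine rep_char_eq_of_apply_eq_id ?_
    rw [map_mul, ← hcomm, ← map_mul, inv_mul_cancel, map_one]
    rfl
  refine of_normal hS hO hz (Subgroup.Normal.comap inferInstance _) hzZ fun htop => h1 ?_
  have hcomm : ∀ a b : G ⧸ K, a * b = b * a := by
    intro a b
    obtain ⟨b, rfl⟩ := QuotientGroup.mk_surjective b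
    have hb : b ∈ Z := by rw [hZ, htop]; exact Subgroup.mem_top b
    exact Subgroup.mem_center_iff.1 hb a
  obtain ⟨ψ, -, hψ, hψi⟩ := exists_deflate_quotient K (irr_isCharacter χ) fun x hx => hx
  have h := irr_degree_one_of_comm hcomm (hψi χ.2)
  rwa [← QuotientGroup.mk_one, hψ] at h

/-- If only `z` is an involution commuting with `z`, a Sylow subgroup through `z` has one
involution. -/
theorem unique_in_sylow {z : G} (hz : orderOf z = 2)
    (h : ∀ t : G, orderOf t = 2 → Commute z t → t = z) {S : Sylow 2 G}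
    (hzS : z ∈ (S : Subgroup G)) {t : G} (htS : t ∈ (S : Subgroup G)) (ht : orderOf t = 2) :
    t = z := by
  haveI : Fact (Nat.Prime 2) := ⟨Nat.prime_two⟩
  haveI : Nontrivial (S : Subgroup G) := ⟨⟨⟨z, hzS⟩, 1, fun e => by
    have e' : z = 1 := congrArg Subtype.val e
    rw [e', orderOf_one] at hz
    norm_num at hz⟩⟩
  haveI := S.2.center_nontrivial
  obtain ⟨k, hk, hkc⟩ : ∃ k, 0 < k ∧ Nat.card (Subgroup.center (S : Subgroup G)) = 2 ^ k := by
    obtain ⟨k, hk⟩ := (S.2.to_subgroup (Subgroup.center (S : Subgroup G))).exists_card_eq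
    refine ⟨k, Nat.pos_of_ne_zero fun h0 => ?_, hk⟩
    rw [h0, pow_zero] at hk
    exact (Finite.one_lt_card (α := Subgroup.center (S : Subgroup G))).ne' hk
  obtain ⟨w, hw⟩ := exists_prime_orderOf_dvd_card' 2 (show 2 ∣ Nat.card (Subgroup.center
    (S : Subgroup G)) from hkc ▸ dvd_pow_self 2 hk.ne')
  have hcomm : ∀ s, s ∈ (S : Subgroup G) → Commute ((w : (S : Subgroup G)) : G) s := fun s hs =>
    (congrArg Subtype.val (Subgroup.mem_center_iff.1 w.2 ⟨s, hs⟩)).symm
  have hwz : ((w : (S : Subgroup G)) : G) = z :=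
    h _ (by rw [Subgroup.orderOf_coe, Subgroup.orderOf_coe, hw]) (hcomm z hzS).symm
  exact h t ht (hwz ▸ hcomm t htS)

theorem commInvEq_of_alone {z : G} (hz : orderOf z = 2)
    (h : ∀ t : G, orderOf t = 2 → Commute z t → t = z) : CommInvEq G := by
  haveI : Fact (Nat.Prime 2) := ⟨Nat.prime_two⟩
  intro a b ha hb hab
  obtain ⟨S, hS⟩ := (IsPGroup.of_card (n := 1) (by rw [Nat.card_zpowers, hz, pow_one]) :
    IsPGroup 2 (Subgroup.zpowers z)).exists_le_sylow
  have hzS := hS (Subgroup.mem_zpowers z)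
  have hp : IsPGroup 2 ↥(Subgroup.closure ({a, b} : Set G)) := by
    intro x
    refine ⟨1, ?_⟩
    ext
    push_cast
    rw [pow_two]
    have hsq : (a * b) ^ (2 : ℤ) = 1 := by
      rw [zpow_two, hab.symm.mul_mul_mul_comm, Involutions.Basic.inv_sq_one ha, one_mul,
        Involutions.Basic.inv_sq_one hb]
    obtain ⟨k, hk | hk⟩ := (Involutions.Basic.mem_closure_pair ha hb).mp x.2
    · rw [hk, ← zpow_add, show k + k = 2 * k by ring, zpow_mul, hsq, one_zpow]
    · rw [hk]; exact Involutions.Basic.sq_of_mul_zpow ha hb k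
  obtain ⟨Q, hQ⟩ := hp.exists_le_sylow
  obtain ⟨c, hc⟩ := MulAction.exists_smul_eq G Q S
  have hmem : ∀ x ∈ Q, c * x * c⁻¹ ∈ (S : Subgroup G) := by
    intro x hx
    rw [← hc, ← SetLike.mem_coe, Sylow.coe_subgroup_smul]
    exact ⟨x, hx, rfl⟩
  have key : ∀ x ∈ Q, orderOf x = 2 → c * x * c⁻¹ = z := fun x hx hxo =>
    unique_in_sylow hz h hzS (hmem x hx) (by rw [Involutions.Basic.orderOf_conj, hxo])
  exact mul_left_cancel (mul_right_cancel
    ((key a (hQ (Subgroup.subset_closure (Set.mem_insert _ _))) ha).trans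
      (key b (hQ (Subgroup.subset_closure (Set.mem_insert_of_mem _ rfl))) hb).symm))

/-- A normal complement to a Sylow 2-subgroup is trivial, so the group is a 2-group. -/
theorem sylow_eq_top_of_complement (hO : Cfsg.oddCore G = ⊥) (S : Sylow 2 G) {N : Subgroup G}
    (hN : N.Normal) (hc : N.IsComplement' (S : Subgroup G)) : (S : Subgroup G) = ⊤ := by
  haveI : Fact (Nat.Prime 2) := ⟨Nat.prime_two⟩
  have hodd : Odd (Nat.card N) := by
    rw [← hc.index_eq_card, ← Nat.not_even_iff_odd, even_iff_two_dvd]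
    exact S.not_dvd_index
  have hbot : N = ⊥ := le_bot_iff.1 (hO ▸ InvChar.Core.le_oddCore hN hodd)
  rw [hbot] at hc
  exact Subgroup.isComplement'_bot_left.1 hc

/-- In a 2-group with commuting involutions equal, the involution is central. -/
theorem center_of_top (hU : CommInvEq G) {z : G} (hz : orderOf z = 2) (S : Sylow 2 G)
    (hS : (S : Subgroup G) = ⊤) : z ∈ Subgroup.center G := by
  refine Subgroup.mem_center_iff.2 fun g => mul_inv_eq_iff_eq_mul.1 ?_
  refine unique_in_sylow hz (fun t ht hc => (hU z t hz ht hc).symm) (S := S) ?_ ?_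
    (by rw [Involutions.Basic.orderOf_conj, hz]) <;> rw [hS] <;> exact Subgroup.mem_top _

/-- The Brauer–Suzuki theorem, inside the induction. -/
theorem of_commInvEq (hS : Smaller.{u} (Nat.card G)) (hO : Cfsg.oddCore G = ⊥) (hU : CommInvEq G)
    {z : G} (hz : orderOf z = 2) : z ∈ Subgroup.center G := by
  classical
  haveI : Fact (Nat.Prime 2) := ⟨Nat.prime_two⟩
  haveI := Fintype.ofFinite G
  haveI := Fintype.ofFinite (Cfsg.IrrCharacter G)
  obtain ⟨S, hS'⟩ := (IsPGroup.of_card (n := 1) (by rw [Nat.card_zpowers, hz, pow_one]) :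
    IsPGroup 2 (Subgroup.zpowers z)).exists_le_sylow
  have hzS := hS' (Subgroup.mem_zpowers z)
  have hiso := isolated hU hz
  have huniq : ∀ t, t ∈ (S : Subgroup G) → orderOf t = 2 → t = z := fun t htS ht =>
    unique_in_sylow hz (fun t ht hc => (hU z t hz ht hc).symm) hzS htS ht
  have hcyc : IsCyclic (S : Subgroup G) → z ∈ Subgroup.center G := fun hcy => by
    have h2 : 2 ∣ Nat.card G := hz ▸ orderOf_dvd_natCard z
    have hmin : (Nat.card G).minFac = 2 := (Nat.minFac_eq_two_iff _).2 h2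
    exact center_of_top hU hz S (sylow_eq_top_of_complement hO S inferInstance
      (IsCyclic.isComplement' hmin hcy))
  have hsub : ∀ H : Subgroup (S : Subgroup G), Nat.card H = 2 →
      H = Subgroup.zpowers ⟨z, hzS⟩ := by
    intro H hH
    obtain ⟨y, hy⟩ := exists_prime_orderOf_dvd_card' 2 (show 2 ∣ Nat.card H by rw [hH])
    have hyz : (y : (S : Subgroup G)) = ⟨z, hzS⟩ :=
      Subtype.ext (huniq _ (y : (S : Subgroup G)).2
        (by rw [Subgroup.orderOf_coe, Subgroup.orderOf_coe, hy]))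
    refine (Subgroup.eq_of_le_of_card_ge (Subgroup.zpowers_le.2 (hyz ▸ y.2)) ?_).symm
    rw [hH, Nat.card_zpowers, ← Subgroup.orderOf_coe]
    exact hz.ge
  rcases PGroups.UniqueSubgroup.isCyclic_or_quaternion S.2
    (fun H K hH hK => (hsub H hH).trans (hsub K hK).symm) with hcy | ⟨-, k, ⟨e⟩⟩
  · exact hcyc hcy
  rcases k with _ | k
  · exact hcyc (e.isCyclic.2 QuaternionGroup.quaternionGroup_one_isCyclic)
  -- the involution is a commutator
  have hlin : ∀ χ : Cfsg.IrrCharacter G, (χ : G → ℂ) 1 = 1 → (χ : G → ℂ) z = 1 := by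
    intro χ h1
    set P : G := ((e.symm (QuaternionGroup.a ((2 ^ k : ℕ) : ZMod (2 * 2 ^ (k + 1)))) :
      (S : Subgroup G)) : G)
    set Q : G := ((e.symm (QuaternionGroup.xa 0) : (S : Subgroup G)) : G)
    have hPQ : P * Q * P⁻¹ * Q⁻¹ = z := by
      refine huniq _ (mul_mem (mul_mem (mul_mem (Subtype.prop _) (Subtype.prop _))
        (inv_mem (Subtype.prop _))) (inv_mem (Subtype.prop _))) ?_
      simp only [P, Q, ← Subgroup.coe_inv, ← Subgroup.coe_mul, ← map_inv, ← map_mul,
        Subgroup.orderOf_coe, MulEquiv.orderOf_eq]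
      have hn0 : (2 * 2 ^ (k + 1) : ℕ) ≠ 0 := by positivity
      haveI : NeZero (2 ^ (k + 1)) := ⟨by positivity⟩
      rw [show (QuaternionGroup.a ((2 ^ k : ℕ) : ZMod (2 * 2 ^ (k + 1))))⁻¹ =
          QuaternionGroup.a (-((2 ^ k : ℕ) : ZMod (2 * 2 ^ (k + 1)))) from rfl,
        show (QuaternionGroup.xa (0 : ZMod (2 * 2 ^ (k + 1))))⁻¹ =
          QuaternionGroup.xa (((2 ^ (k + 1) : ℕ) : ZMod (2 * 2 ^ (k + 1))) + 0) from rfl,
        QuaternionGroup.a_mul_xa, QuaternionGroup.xa_mul_a, QuaternionGroup.xa_mul_xa]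
      have hN : ((2 ^ (k + 1) : ℕ) : ZMod (2 * 2 ^ (k + 1))) +
          (((2 ^ (k + 1) : ℕ) : ZMod (2 * 2 ^ (k + 1))) + 0) -
            (0 - ((2 ^ k : ℕ) : ZMod (2 * 2 ^ (k + 1))) + -((2 ^ k : ℕ) : ZMod (2 * 2 ^ (k + 1)))) =
          ((2 ^ (k + 1) : ℕ) : ZMod (2 * 2 ^ (k + 1))) := by
        have h0 : ((2 * 2 ^ (k + 1) : ℕ) : ZMod (2 * 2 ^ (k + 1))) = 0 := ZMod.natCast_self _
        push_cast at h0 ⊢
        linear_combination h0
      rw [hN, orderOf_eq_prime_iff]
      have hlt : 2 ^ (k + 1) < 2 * 2 ^ (k + 1) := by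
        have : 0 < 2 ^ (k + 1) := by positivity
        omega
      refine ⟨?_, ?_⟩
      · rw [pow_two, QuaternionGroup.a_mul_a, QuaternionGroup.one_def, ← Nat.cast_add, ← two_mul,
          ZMod.natCast_self]
      · intro h
        rw [QuaternionGroup.one_def] at h
        have h' : ((2 ^ (k + 1) : ℕ) : ZMod (2 * 2 ^ (k + 1))) = 0 := QuaternionGroup.a.inj h
        rw [ZMod.natCast_eq_zero_iff] at h'
        have := Nat.le_of_dvd (by positivity) h'
        omega
    have hm := char_mul_of_degree_one (irr_isCharacter χ) h1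
    have hinv : ∀ y : G, (χ : G → ℂ) y * (χ : G → ℂ) y⁻¹ = 1 := fun y => by
      rw [← hm, mul_inv_cancel, h1]
    rw [← hPQ, hm, hm, hm]
    linear_combination (χ : G → ℂ) Q * (χ : G → ℂ) Q⁻¹ * hinv P + hinv Q
  have hscal : ∀ χ : Cfsg.IrrCharacter G, χ ≠ trivIrr G →
      (χ : G → ℂ) z * (χ : G → ℂ) z = (χ : G → ℂ) 1 * (χ : G → ℂ) 1 → z ∈ Subgroup.center G :=
    fun χ hne hsq => of_scalar hS hO hiso hne hsq (hlin χ)
  rcases k with _ | j
  · by_cases hC : Transfer.Frobenius.Condition 2 G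
    · obtain ⟨T, N, hN, hc⟩ := Transfer.Frobenius.hasNormalPComplement_of_condition hC
      exact center_of_top hU hz T (sylow_eq_top_of_complement hO T hN hc)
    · obtain ⟨M, hM⟩ := BlockCharsA.DefectZeroVanish.exists_modular Nat.prime_two
      obtain ⟨⟨χ, hne, h1⟩, -⟩ := QuaternionEight.exists_trivial_and_card hM S e hU hzS hz hC
      exact hscal χ hne (by rw [h1])
  · obtain ⟨χ, hne, h⟩ := QuaternionLarge.exists_scalar S e hU hz
    exact hscal χ hne h

/-- `χ(z) χ(t) = χ(1) χ(zt)` in the principal block. -/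
theorem value_product (hS : Smaller.{u} (Nat.card G))
    (hcen : ∀ c ∈ Subgroup.center G, orderOf c ≠ 2) {M : Ideal Cfsg.AlgInt}
    (hM : Cfsg.IsPModular 2 M) {z t : G} (hz : Cfsg.IsIsolatedInvolution z) (ht : orderOf t = 2)
    (hzt : Commute z t) (hne : t ≠ z) {χ : Cfsg.IrrCharacter G}
    (hχ : χ ∈ Cfsg.principalBlock M G) :
    (χ : G → ℂ) z * (χ : G → ℂ) t = (χ : G → ℂ) 1 * (χ : G → ℂ) (z * t) := by
  classical
  haveI := Fintype.ofFinite G
  have hzo := hz.1
  have hnc : ∀ x : G, ¬ IsConj z (x * t * x⁻¹) := fun x h => by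
    obtain ⟨g, hg⟩ := isConj_iff.1 (h.trans (isConj_iff.2 ⟨x, rfl⟩).symm)
    exact hne (hg ▸ hz.2 g (hg.symm ▸ hzt))
  have key : ∀ x : G, (χ : G → ℂ) (z * (x * t * x⁻¹)) = (χ : G → ℂ) (z * t) := by
    intro x
    set b := x * t * x⁻¹ with hb
    have hbo : orderOf b = 2 := by rw [hb, Involutions.Basic.orderOf_conj, ht]
    have heven := Involutions.Basic.even_orderOf_mul_of_not_isConj hzo hbo (hnc x)
    obtain ⟨hco, hcz, hcb⟩ := Involutions.Basic.middle_involution hzo hbo heven
    set w := z * b with hw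
    set n := orderOf w / 2 with hn
    set c := w ^ n with hc
    set H := Subgroup.centralizer ({c} : Set G) with hH
    have hHlt : Nat.card H < Nat.card G := by
      refine lt_of_le_of_ne (Subgroup.card_le_card_group H) fun h => hcen c ?_ hco
      have htop := Subgroup.eq_top_of_card_eq H h
      exact Subgroup.mem_center_iff.2 fun g =>
        Subgroup.mem_centralizer_singleton_iff.1 (htop ▸ Subgroup.mem_top g : g ∈ H)
    have hzH : z ∈ H := Subgroup.mem_centralizer_singleton_iff.2 hcz.eq.symm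
    have hbH : b ∈ H := Subgroup.mem_centralizer_singleton_iff.2 hcb.eq.symm
    have hmem := hS H hHlt _ (isolated_subgroup hz hzH) ⟨b, hbH⟩
    have hN : ¬ 2 ∣ Nat.card (Cfsg.oddCore H) := by
      rw [← even_iff_two_dvd, Nat.not_even_iff_odd]
      exact InvChar.Core.odd_card_oddCore
    have hwH : w ∈ H := mul_mem hzH hbH
    have hw2 : ((⟨w, hwH⟩ : H) ^ 2) ∈ Cfsg.oddCore H := by
      convert hmem using 1
      apply Subtype.ext
      show w ^ 2 = z * b * z⁻¹ * b⁻¹
      rw [Involutions.Basic.inv_eq hzo, Involutions.Basic.inv_eq hbo, pow_two, hw]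
      simp [mul_assoc]
    have hord : orderOf (w ^ 2) = n := by
      rw [orderOf_pow' _ (by norm_num : (2 : ℕ) ≠ 0),
        Nat.gcd_eq_right (even_iff_two_dvd.1 heven), hn]
    obtain ⟨j, hj⟩ : Odd n := by
      rw [← hord, show orderOf (w ^ 2) = orderOf ((⟨w, hwH⟩ : H) ^ 2) by
        rw [← Subgroup.orderOf_coe]; rfl]
      exact InvChar.Core.odd_card_oddCore.of_dvd_nat
        ((Cfsg.oddCore H).orderOf_dvd_natCard hw2)
    have hw1 : c * (((⟨w, hwH⟩ : H) ^ 2) ^ (j + 1) : H) = w := by
      show w ^ n * (w ^ 2) ^ (j + 1) = w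
      rw [← pow_mul, ← pow_add, show n + 2 * (j + 1) = orderOf w + 1 by
        have := Nat.two_mul_div_two_of_even heven
        omega, pow_succ, pow_orderOf_eq_one, one_mul]
    have hval := value_mul_of_mem hM (x := c) ⟨1, by rw [hco, pow_one]⟩ hχ hN (pow_mem hw2 (j + 1))
    rw [hw1] at hval
    rw [hval]
    -- `z c` is conjugate to `t`
    have hzc : z * c = (w ^ j)⁻¹ * b * w ^ j := by
      have h := Involutions.Basic.conj_zpow_left hzo hbo (j : ℤ)
      rw [zpow_natCast, zpow_neg, zpow_natCast] at h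
      calc z * c = z * (w ^ j * w * w ^ j) := by
            rw [hc, hj, ← pow_succ, ← pow_add]; congr 2; omega
        _ = (z * w ^ j * z⁻¹) * (z * w) * w ^ j := by group
        _ = (w ^ j)⁻¹ * b * w ^ j := by
            rw [h, hw, ← mul_assoc z z b, Involutions.Basic.inv_sq_one hzo, one_mul]
    have hconj : (w ^ j)⁻¹ * x * t * ((w ^ j)⁻¹ * x)⁻¹ = z * c := by
      rw [hzc, hb]; group
    obtain ⟨d, -, hdz, hd⟩ := Involutions.Isolated.controls_fusion hz ⊤
      (Subgroup.mem_normalizer_iff.2 fun _ => by simp) hzt.symm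
      ((Commute.refl z).mul_left hcz) (Subgroup.mem_top _) hconj
    rw [← irr_isClassFunction χ (z * t) d, show d * (z * t) * d⁻¹ = (d * z * d⁻¹) * (d * t * d⁻¹)
      by group, hd, mul_inv_eq_iff_eq_mul.2 hdz.eq, ← mul_assoc,
      Involutions.Basic.inv_sq_one hzo, one_mul]
  have h := sum_mul_conjugates χ.2 z t
  rw [Finset.sum_congr rfl fun x _ => key x, Finset.sum_const, Finset.card_univ, nsmul_eq_mul,
    ← Nat.card_eq_fintype_card, eq_div_iff (irr_one_ne_zero χ.2)] at h
  exact mul_left_cancel₀ (natCard_ne_zero (G := G)) (by linear_combination -h)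

/-- The inductive step. -/
theorem central_of_smaller (hS : Smaller.{u} (Nat.card G)) (hO : Cfsg.oddCore G = ⊥) {z : G}
    (hz : Cfsg.IsIsolatedInvolution z) : z ∈ Subgroup.center G := by
  classical
  haveI : Fact (Nat.Prime 2) := ⟨Nat.prime_two⟩
  haveI := Fintype.ofFinite G
  haveI := Fintype.ofFinite (Cfsg.IrrCharacter G)
  by_contra hnot
  have hcen : ∀ c ∈ Subgroup.center G, orderOf c ≠ 2 := fun c hc hco =>
    hnot (of_central hS hO hz hc hco)
  obtain ⟨t, ht, hzt, hne⟩ : ∃ t, orderOf t = 2 ∧ Commute z t ∧ t ≠ z := by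
    by_contra h
    push Not at h
    exact hnot (of_commInvEq hS hO (commInvEq_of_alone hz.1 h) hz.1)
  have hzz : z * z = 1 := Involutions.Basic.inv_sq_one hz.1
  obtain ⟨M, hM⟩ := BlockCharsA.DefectZeroVanish.exists_modular Nat.prime_two
  -- nontrivial linear characters take the value `-1` at `z`
  have hval : ∀ {χ : Cfsg.IrrCharacter G}, (χ : G → ℂ) 1 = 1 → χ ≠ trivIrr G →
      (χ : G → ℂ) z = -1 := by
    intro χ h1 hχ
    have h : (χ : G → ℂ) z * (χ : G → ℂ) z = 1 := by
      rw [← char_mul_of_degree_one (irr_isCharacter χ) h1, hzz, h1]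
    rcases mul_self_eq_one_iff.1 h with h' | h'
    · exact absurd (of_scalar hS hO hz hχ (by rw [h, h1, one_mul]) fun _ => h') hnot
    · exact h'
  have huni : ∀ {χ χ' : Cfsg.IrrCharacter G}, (χ : G → ℂ) 1 = 1 → χ ≠ trivIrr G →
      (χ' : G → ℂ) 1 = 1 → χ' ≠ trivIrr G → χ = χ' := by
    intro χ χ' h1 hχ h1' hχ'
    have hprod : ∀ {a b : Cfsg.IrrCharacter G}, (a : G → ℂ) 1 = 1 → a ≠ trivIrr G →
        (b : G → ℂ) 1 = 1 → b ≠ trivIrr G → ∀ g, (a : G → ℂ) g * (b : G → ℂ) g = 1 := by
      intro a b ha ha' hb hb' g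
      by_contra hg
      set ψ : Cfsg.IrrCharacter G := ⟨fun g => (a : G → ℂ) g * (b : G → ℂ) g,
        CharTheory.Basics.isIrr_of_degree_one
          (isCharacter_mul (irr_isCharacter a) (irr_isCharacter b)) (by simp [ha, hb])⟩
      have h := hval (χ := ψ) (by simp [ψ, ha, hb]) fun e =>
        hg (congrFun (congrArg Subtype.val e) g)
      simp [ψ, hval ha ha', hval hb hb'] at h
      norm_num at h
    refine Subtype.ext (funext fun g => mul_left_cancel₀ (left_ne_zero_of_mul_eq_one
      (hprod h1 hχ h1 hχ g)) ?_)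
    rw [hprod h1 hχ h1 hχ g, hprod h1 hχ h1' hχ' g]
  -- a linear character with the value `-1` at `t`
  have hkey : ∀ t : G, orderOf t = 2 → Commute z t → t ≠ z →
      ∃ lam : Cfsg.IrrCharacter G, lam ≠ trivIrr G ∧ (lam : G → ℂ) 1 = 1 ∧
        (lam : G → ℂ) t = -1 := by
    intro t ht hzt hne
    have ht' : orderOf (z * t) = 2 := orderOf_eq_prime
      (by rw [pow_two, hzt.symm.mul_mul_mul_comm, hzz, one_mul, Involutions.Basic.inv_sq_one ht])
      fun h => hne (by rw [← inv_eq_of_mul_eq_one_right h, Involutions.Basic.inv_eq hz.1])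
    have hzt' : Commute z (z * t) := (Commute.refl z).mul_right hzt
    have hne' : z * t ≠ z := fun h => Involutions.Basic.ne_one ht (mul_eq_left.1 h)
    have hlin : ∀ {χ : Cfsg.IrrCharacter G}, χ ∈ Cfsg.principalBlock M G → χ ≠ trivIrr G →
        (χ : G → ℂ) t ≠ 0 → (χ : G → ℂ) 1 = 1 := by
      intro χ hχ hχ1 hχt
      by_contra h1
      refine hnot (of_scalar hS hO hz hχ1 (mul_right_cancel₀ hχt ?_) fun h => absurd h h1)
      have e1 := value_product hS hcen hM hz ht hzt hne hχ
      have e2 := value_product hS hcen hM hz ht' hzt' hne' hχ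
      rw [← mul_assoc z z t, hzz, one_mul] at e2
      linear_combination (χ : G → ℂ) z * e1 + (χ : G → ℂ) 1 * e2
    have horth := sum_block_reg_sing hM (intEl_blockIdem hM (isPBlock_principal M G))
      (x := 1) (y := t) (by simp) (by rw [ht])
    rw [Principal.finsum_mem_eq_sum_filter] at horth
    set B := Finset.univ.filter fun χ : Cfsg.IrrCharacter G => χ ∈ Cfsg.principalBlock M G
    have hoB : trivIrr G ∈ B := Finset.mem_filter.2 ⟨Finset.mem_univ _, trivIrr_mem_principal hM⟩
    rw [← Finset.add_sum_erase _ _ hoB] at horth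
    by_cases hex : ∃ χ ∈ B.erase (trivIrr G), (χ : G → ℂ) t ≠ 0
    · obtain ⟨lam, hlam, hlt⟩ := hex
      obtain ⟨hl1, hlB⟩ := Finset.mem_erase.1 hlam
      have hd := hlin (Finset.mem_filter.1 hlB).2 hl1 hlt
      rw [Finset.sum_eq_single lam (fun χ hχ hχl => ?_) (fun h => absurd hlam h)] at horth
      · obtain ⟨m, hm⟩ := KleinFour.exists_int_value (irr_isCharacter lam) (g := t)
          (Involutions.Basic.inv_sq_one ht)
        refine ⟨lam, hl1, hd, ?_⟩
        simp [trivIrr, hd, hm, map_intCast] at horth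
        rw [hm]
        linear_combination horth
      · obtain ⟨hχ1, hχB⟩ := Finset.mem_erase.1 hχ
        by_contra hterm
        have hχt : (χ : G → ℂ) t ≠ 0 := fun h => hterm (by rw [h, map_zero, mul_zero])
        exact hχl (huni (hlin (Finset.mem_filter.1 hχB).2 hχ1 hχt) hχ1 hd hl1)
    · push Not at hex
      rw [Finset.sum_eq_zero fun χ hχ => by rw [hex χ hχ, map_zero, mul_zero]] at horth
      simp [trivIrr] at horth
  obtain ⟨lam, hl1, hd, hlt⟩ := hkey t ht hzt hne
  obtain ⟨mu, hm1, hmd, hmt⟩ := hkey (z * t)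
    (orderOf_eq_prime
      (by rw [pow_two, hzt.symm.mul_mul_mul_comm, hzz, one_mul, Involutions.Basic.inv_sq_one ht])
      fun h => hne (by rw [← inv_eq_of_mul_eq_one_right h, Involutions.Basic.inv_eq hz.1]))
    ((Commute.refl z).mul_right hzt) (fun h => Involutions.Basic.ne_one ht (mul_eq_left.1 h))
  rw [← huni hd hl1 hmd hm1, char_mul_of_degree_one (irr_isCharacter lam) hd, hval hd hl1, hlt] at hmt
  norm_num at hmt

/-- **Glauberman's `Z*`-theorem.** -/
theorem smaller : ∀ n : ℕ, Smaller.{u} n := by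
  intro n
  induction n with
  | zero => exact fun H _ _ h => absurd h (Nat.not_lt_zero _)
  | succ n ih =>
    intro H _ _ hlt z hz g
    rcases Nat.lt_succ_iff_lt_or_eq.1 hlt with h | h
    · exact ih H h z hz g
    subst h
    by_cases hbot : Cfsg.oddCore H = ⊥
    · rw [hbot, Subgroup.mem_bot, ← Subgroup.mem_center_iff.1 (central_of_smaller ih hbot hz) g,
        mul_inv_cancel_right, mul_inv_cancel]
    · have hzN : z ∉ Cfsg.oddCore H := fun h => by
        have := InvChar.Core.odd_card_oddCore.of_dvd_nat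
          (hz.1 ▸ (Cfsg.oddCore H).orderOf_dvd_natCard h)
        exact Nat.not_even_iff_odd.2 this even_two
      have hlt' : Nat.card (H ⧸ Cfsg.oddCore H) < Nat.card H := by
        rw [(Cfsg.oddCore H).card_eq_card_quotient_mul_card_subgroup]
        exact lt_mul_of_one_lt_right Nat.card_pos (Subgroup.one_lt_card_iff_ne_bot _ |>.2 hbot)
      have := ih _ hlt' _ (Involutions.Isolated.quotient hz (Cfsg.oddCore H) hzN).1
        (QuotientGroup.mk g)
      rw [InvChar.Core.oddCore_quotient_oddCore_eq_bot, Subgroup.mem_bot,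
        ← QuotientGroup.mk_inv, ← QuotientGroup.mk_inv, ← QuotientGroup.mk_mul,
        ← QuotientGroup.mk_mul, ← QuotientGroup.mk_mul, QuotientGroup.eq_one_iff] at this
      exact this

/-- The commutators of an isolated involution lie in the odd core. -/
theorem commutator_mem_oddCore {z : G} (hz : Cfsg.IsIsolatedInvolution z) (g : G) :
    z * g * z⁻¹ * g⁻¹ ∈ Cfsg.oddCore G :=
  smaller _ G (Nat.lt_succ_self _) z hz g

/-- An isolated involution is central if there is no odd core. -/
theorem mem_center_of_isolated (hO : Cfsg.oddCore G = ⊥) {z : G}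
    (hz : Cfsg.IsIsolatedInvolution z) : z ∈ Subgroup.center G :=
  mem_center_of_commutator fun g => by
    simpa [hO] using commutator_mem_oddCore hz g

end Cfsg.Agent.ZStar.Main
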