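import Mathlib
import Cfsg.Agent.Lib.ZStar.Main

/-!
# Consequences of the `Z*`-theorem for quaternion Sylow subgroups and rank one
-/

set_option autoImplicit false
set_option linter.style.haveILetI false
set_option linter.unusedSectionVars false

namespace Cfsg.Agent.ZStar.Consequences

open Cfsg.Agent.ZStar.UniqueInvolution Cfsg.Agent.ZStar.Main

universe u

variable {G : Type u} [Group G] [Finite G]

theorem oddCore_eq_bot (hO : ∀ N : Subgroup G, N.Normal → Odd (Nat.card N) → N = ⊥) :
    Cfsg.oddCore G = ⊥ :=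
  hO _ inferInstance InvChar.Core.odd_card_oddCore

/-- The only involution of a quaternion group is `a n`. -/
theorem quaternion_involution {n : ℕ} [NeZero n] {x : QuaternionGroup n} (hx : x * x = 1)
    (h1 : x ≠ 1) : x = QuaternionGroup.a (n : ZMod (2 * n)) := by
  haveI : NeZero (2 * n) := ⟨by simp [NeZero.ne n]⟩
  have hn0 : (n : ZMod (2 * n)) ≠ 0 := fun h => by
    rw [ZMod.natCast_eq_zero_iff] at h
    have := Nat.le_of_dvd (Nat.pos_of_ne_zero (NeZero.ne n)) h
    have := Nat.pos_of_ne_zero (NeZero.ne n)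
    omega
  rcases x with i | i
  · rw [QuaternionGroup.a_mul_a, QuaternionGroup.one_def] at hx
    have h : i + i = 0 := QuaternionGroup.a.inj hx
    congr 1
    obtain ⟨v, hv, rfl⟩ : ∃ v, v < 2 * n ∧ (v : ZMod (2 * n)) = i :=
      ⟨i.val, i.val_lt, ZMod.natCast_zmod_val i⟩
    rw [← Nat.cast_add, ZMod.natCast_eq_zero_iff] at h
    obtain ⟨k, hk⟩ := h
    have hk2 : k < 2 := by
      by_contra hk2
      have : 2 * n * 2 ≤ 2 * n * k := Nat.mul_le_mul_left _ (not_lt.1 hk2)
      omega
    rcases Nat.lt_succ_iff_lt_or_eq.1 hk2 with hk0 | rfl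
    · have hk' : k = 0 := by omega
      rw [hk', mul_zero] at hk
      exfalso
      apply h1
      rw [show v = 0 by omega, Nat.cast_zero]
      exact QuaternionGroup.one_def.symm
    · rw [show v = n by omega]
  · rw [QuaternionGroup.xa_mul_xa, QuaternionGroup.one_def] at hx
    have h := QuaternionGroup.a.inj hx
    rw [add_sub_assoc, sub_self, add_zero] at h
    exact absurd h hn0

/-- Central elements of a quaternion group square to one. -/
theorem quaternion_center {n : ℕ} (hn : 2 ≤ n) {x : QuaternionGroup n}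
    (hx : ∀ y : QuaternionGroup n, y * x = x * y) : x * x = 1 := by
  rcases x with i | i
  · have h := hx (QuaternionGroup.xa 0)
    rw [QuaternionGroup.xa_mul_a, QuaternionGroup.a_mul_xa] at h
    have h' : (0 : ZMod (2 * n)) + i = 0 - i := QuaternionGroup.xa.inj h
    rw [QuaternionGroup.a_mul_a, QuaternionGroup.one_def]
    congr 1
    linear_combination h'
  · exfalso
    have h := hx (QuaternionGroup.a 1)
    rw [QuaternionGroup.a_mul_xa, QuaternionGroup.xa_mul_a] at h
    have h' : i - 1 = i + 1 := QuaternionGroup.xa.inj h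
    have h2 : ((2 : ℕ) : ZMod (2 * n)) = 0 := by
      push_cast
      linear_combination -h'
    rw [ZMod.natCast_eq_zero_iff] at h2
    have := Nat.le_of_dvd (by norm_num) h2
    omega

theorem commInvEq_of_sylow_quaternion {n : ℕ} [NeZero n] (S : Sylow 2 G)
    (e : (S : Subgroup G) ≃* QuaternionGroup n) : CommInvEq G := by
  haveI : Fact (Nat.Prime 2) := ⟨Nat.prime_two⟩
  have huniq : ∀ s t : G, s ∈ (S : Subgroup G) → t ∈ (S : Subgroup G) → orderOf s = 2 →
      orderOf t = 2 → s = t := by
    intro s t hs ht hso hto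
    have key : ∀ s (hs : s ∈ (S : Subgroup G)), orderOf s = 2 →
        e ⟨s, hs⟩ = QuaternionGroup.a (n : ZMod (2 * n)) := by
      intro s hs hso
      refine quaternion_involution ?_ ?_
      · rw [← map_mul, ← map_one e]
        exact congrArg e (Subtype.ext (Involutions.Basic.inv_sq_one hso))
      · rw [← map_one e]
        exact fun h => Involutions.Basic.ne_one hso (congrArg Subtype.val (e.injective h))
    exact congrArg Subtype.val (e.injective ((key s hs hso).trans (key t ht hto).symm))
  obtain h | ⟨z, hz⟩ : (∀ z : G, orderOf z ≠ 2) ∨ ∃ z : G, orderOf z = 2 := by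
    by_cases h : ∃ z : G, orderOf z = 2
    · exact Or.inr h
    · exact Or.inl fun z hz => h ⟨z, hz⟩
  · exact fun a _ ha _ _ => absurd ha (h a)
  intro a b ha hb hab
  have hp : IsPGroup 2 ↥(Subgroup.closure ({a, b} : Set G)) := by
    intro x
    refine ⟨1, ?_⟩
    ext
    push_cast
    rw [pow_two]
    have hsq : (a * b) ^ (2 : ℤ) = 1 := by
      rw [zpow_two, hab.symm.mul_mul_mul_comm, Involutions.Basic.inv_sq_one ha, one_mul,
        Involutions.Basic.inv_sq_one hb]
    obtain ⟨k, hk | hk⟩ := (Involutions.Basic.mem_closure_pair ha hb).mp x.2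
    · rw [hk, ← zpow_add, show k + k = 2 * k by ring, zpow_mul, hsq, one_zpow]
    · rw [hk]; exact Involutions.Basic.sq_of_mul_zpow ha hb k
  obtain ⟨Q, hQ⟩ := hp.exists_le_sylow
  obtain ⟨c, hc⟩ := MulAction.exists_smul_eq G Q S
  have hmem : ∀ x ∈ Q, c * x * c⁻¹ ∈ (S : Subgroup G) := by
    intro x hx
    rw [← hc, ← SetLike.mem_coe, Sylow.coe_subgroup_smul]
    exact ⟨x, hx, rfl⟩
  exact mul_left_cancel (mul_right_cancel (huniq _ _
    (hmem a (hQ (Subgroup.subset_closure (Set.mem_insert _ _))))
    (hmem b (hQ (Subgroup.subset_closure (Set.mem_insert_of_mem _ rfl))))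
    (by rw [Involutions.Basic.orderOf_conj, ha]) (by rw [Involutions.Basic.orderOf_conj, hb])))

theorem commInvEq_of_no_klein (h : ∀ E : Subgroup G, ¬ IsKleinFour E) : CommInvEq G := by
  intro a b ha hb hab
  by_contra hne
  have haa := Involutions.Basic.inv_sq_one ha
  have hbb := Involutions.Basic.inv_sq_one hb
  set E := Subgroup.closure ({a, b} : Set G) with hE
  have haE : a ∈ E := Subgroup.subset_closure (Set.mem_insert _ _)
  have hbE : b ∈ E := Subgroup.subset_closure (Set.mem_insert_of_mem _ rfl)
  have hsq : (a * b) ^ (2 : ℤ) = 1 := by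
    rw [zpow_two, hab.symm.mul_mul_mul_comm, haa, one_mul, hbb]
  have hmem : ∀ x ∈ E, x = 1 ∨ x = a ∨ x = b ∨ x = a * b := by
    intro x hx
    obtain ⟨k, hk | hk⟩ := (Involutions.Basic.mem_closure_pair ha hb).mp hx <;>
      rcases Int.even_or_odd' k with ⟨j, rfl | rfl⟩
    · left; rw [hk, zpow_mul, hsq, one_zpow]
    · right; right; right; rw [hk, zpow_add_one, zpow_mul, hsq, one_zpow, one_mul]
    · right; left; rw [hk, zpow_mul, hsq, one_zpow, mul_one]
    · right; right; left
      rw [hk, zpow_add_one, zpow_mul, hsq, one_zpow, one_mul, ← mul_assoc, haa, one_mul]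
  have hab1 : a * b ≠ 1 := fun e => hne (by
    rw [← inv_eq_of_mul_eq_one_right e, Involutions.Basic.inv_eq ha])
  let f : Fin 4 → E := ![1, ⟨a, haE⟩, ⟨b, hbE⟩, ⟨a * b, mul_mem haE hbE⟩]
  have hf : Function.Bijective f := by
    constructor
    · intro i j hij
      have hij' := congrArg Subtype.val hij
      fin_cases i <;> fin_cases j <;> first
        | rfl
        | (simp [f] at hij'
           first
            | exact absurd hij' (Involutions.Basic.ne_one ha)
            | exact absurd hij'.symm (Involutions.Basic.ne_one ha)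
            | exact absurd hij' (Involutions.Basic.ne_one hb)
            | exact absurd hij'.symm (Involutions.Basic.ne_one hb)
            | exact absurd hij' hne
            | exact absurd hij'.symm hne
            | exact absurd hij' hab1
            | exact absurd hij'.symm hab1)
    · rintro ⟨x, hx⟩
      rcases hmem x hx with rfl | rfl | rfl | rfl
      exacts [⟨0, rfl⟩, ⟨1, rfl⟩, ⟨2, rfl⟩, ⟨3, rfl⟩]
  have hcard : Nat.card E = 4 := by rw [← Nat.card_eq_of_bijective f hf, Nat.card_fin]
  haveI : Nontrivial E := Finite.one_lt_card_iff_nontrivial.1 (by rw [hcard]; norm_num)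
  refine h E ⟨hcard, (Monoid.exponent_eq_prime_iff Nat.prime_two).2 fun y hy =>
    orderOf_eq_prime ?_ hy⟩
  apply Subtype.ext
  show (y : G) ^ 2 = 1
  rw [pow_two]
  rcases hmem y y.2 with e | e | e | e <;> rw [e]
  · rw [one_mul]
  · exact haa
  · exact hbb
  · rw [← zpow_two, hsq]

/-- Brauer–Suzuki: the centre has order two. -/
theorem card_center {n : ℕ} (hn : 2 ≤ n) (S : Sylow 2 G)
    (e : (S : Subgroup G) ≃* QuaternionGroup n) (hO : Cfsg.oddCore G = ⊥) :
    Nat.card (Subgroup.center G) = 2 := by
  haveI : Fact (Nat.Prime 2) := ⟨Nat.prime_two⟩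
  haveI : NeZero n := ⟨by omega⟩
  have hU := commInvEq_of_sylow_quaternion S e
  obtain ⟨z, hz⟩ : ∃ z : G, orderOf z = 2 := by
    refine exists_prime_orderOf_dvd_card' 2 ((dvd_trans ?_ S.1.card_subgroup_dvd_card))
    rw [Nat.card_congr e.toEquiv, Nat.card_eq_fintype_card, QuaternionGroup.card]
    exact dvd_mul_of_dvd_left (by norm_num) _
  have hzc := mem_center_of_isolated hO (isolated hU hz)
  have hzz := Involutions.Basic.inv_sq_one hz
  have hle : Subgroup.center G ≤ Subgroup.zpowers z := by
    intro y hy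
    have hyS : y ∈ (S : Subgroup G) :=
      IsPGroup.le_sylow_of_normal (InvChar.Core.isPGroup_center_of_oddCore_eq_bot hO) S hy
    have h := quaternion_center hn (x := e ⟨y, hyS⟩) fun w => by
      obtain ⟨w, rfl⟩ := e.surjective w
      rw [← map_mul, ← map_mul]
      exact congrArg e (Subtype.ext (Subgroup.mem_center_iff.1 hy w))
    rw [← map_mul, ← map_one e] at h
    have hyy : y * y = 1 := congrArg Subtype.val (e.injective h)
    by_cases h1 : y = 1
    · exact h1 ▸ one_mem _
    · rw [hU z y hz (orderOf_eq_prime (by rw [pow_two, hyy]) h1)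
        (Subgroup.mem_center_iff.1 hy z)]
      exact Subgroup.mem_zpowers y
  rw [le_antisymm hle (Subgroup.zpowers_le.2 hzc), Nat.card_zpowers, hz]

end Cfsg.Agent.ZStar.Consequences
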