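import Mathlib
import Cfsg.Agent.Lib.ZStar.Main
import Cfsg.Agent.Lib.Coprime.Sylow

/-!
# Sylow subgroups invariant under an isolated involution
-/

set_option autoImplicit false
set_option linter.style.haveILetI false
set_option linter.unusedSectionVars false

namespace Cfsg.Agent.ZStar.InvariantSylow

open Cfsg.Agent.ZStar.Main
open scoped Pointwise

universe u

variable {G : Type u} [Group G] [Finite G] {p : ℕ} [Fact p.Prime]

theorem oddCore_sup_centralizer {z : G} (hz : Cfsg.IsIsolatedInvolution z) :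
    Cfsg.oddCore G ⊔ Subgroup.centralizer ({z} : Set G) = ⊤ := by
  have hzN : z ∉ Cfsg.oddCore G := fun h => by
    have := InvChar.Core.odd_card_oddCore.of_dvd_nat
      (hz.1 ▸ (Cfsg.oddCore G).orderOf_dvd_natCard h)
    exact Nat.not_even_iff_odd.2 this even_two
  have h := (Involutions.Isolated.quotient hz (Cfsg.oddCore G) hzN).2
  have hc : (QuotientGroup.mk z : G ⧸ Cfsg.oddCore G) ∈ Subgroup.center _ :=
    mem_center_of_isolated InvChar.Core.oddCore_quotient_oddCore_eq_bot
      (Involutions.Isolated.quotient hz (Cfsg.oddCore G) hzN).1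
  rw [Subgroup.centralizer_eq_top_iff_subset.2 (Set.singleton_subset_iff.2 hc)] at h
  have h' := congrArg (Subgroup.comap (QuotientGroup.mk' (Cfsg.oddCore G))) h
  rw [Subgroup.comap_top, QuotientGroup.comap_map_mk'] at h'
  exact h'.symm

theorem card_zpowers_coprime {z : G} (hz : orderOf z = 2) {M : Subgroup G}
    (hM : Odd (Nat.card M)) : (Nat.card (Subgroup.zpowers z)).Coprime (Nat.card M) := by
  rw [Nat.card_zpowers, hz]
  exact Nat.coprime_two_left.2 hM

theorem odd_card_of_isPGroup (hp : p ≠ 2) {R : Subgroup G} (hR : IsPGroup p R) :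
    Odd (Nat.card R) := by
  obtain ⟨n, hn⟩ := hR.exists_card_eq
  rw [hn]
  exact ((Fact.out : p.Prime).odd_of_ne_two hp).pow

theorem zpowers_le_normalizer_of_conj {z : G} {M : Subgroup G}
    (h : z ∈ Subgroup.normalizer (M : Set G)) :
    Subgroup.zpowers z ≤ Subgroup.normalizer (M : Set G) := Subgroup.zpowers_le.2 h

/-- A Sylow subgroup of the centralizer lies in an invariant Sylow subgroup. -/
theorem exists_ge {z : G} (hz : Cfsg.IsIsolatedInvolution z) (hp : p ≠ 2)
    (R : Sylow p (Subgroup.centralizer ({z} : Set G))) :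
    ∃ P : Sylow p G, z ∈ Subgroup.normalizer ((P : Subgroup G) : Set G) ∧
      (R : Subgroup (Subgroup.centralizer ({z} : Set G))).map
        (Subgroup.centralizer ({z} : Set G)).subtype ≤ (P : Subgroup G) := by
  set R' := (R : Subgroup (Subgroup.centralizer ({z} : Set G))).map (Subgroup.centralizer ({z} : Set G)).subtype with hR'
  set O := Cfsg.oddCore G with hO
  set M := O ⊔ R' with hM
  have hR'p : IsPGroup p R' := R.2.map _
  have hodd : Odd (Nat.card M) := by
    have hle : R' ≤ Subgroup.normalizer (O : Set G) := Subgroup.le_normalizer_of_normal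
    have h1 : Nat.card M ∣ Nat.card O * Nat.card R' := by
      have := Subgroup.relIndex_sup_right R' O
      have h2 : Nat.card O * O.relIndex M = Nat.card M := by
        rw [← Subgroup.relIndex_bot_left O, ← Subgroup.relIndex_bot_left M]
        exact Subgroup.relIndex_mul_relIndex _ _ _ bot_le le_sup_left
      rw [← h2, hM, sup_comm, this]
      exact Nat.mul_dvd_mul_left _ (Subgroup.relIndex_dvd_card O R')
    exact (InvChar.Core.odd_card_oddCore.mul (odd_card_of_isPGroup hp hR'p)).of_dvd_nat h1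
  have hzR : z ∈ Subgroup.normalizer (R' : Set G) := by
    refine Subgroup.centralizer_le_normalizer _ (Subgroup.mem_centralizer_iff.2 fun r hr => ?_)
    obtain ⟨y, -, rfl⟩ := hr
    exact Subgroup.mem_centralizer_singleton_iff.1 y.2
  have hzM : z ∈ Subgroup.normalizer (M : Set G) := by
    rw [← Coprime.conj_smul_eq_self_iff, hM, Subgroup.smul_sup,
      Coprime.conj_smul_eq_self_iff.2 (Subgroup.le_normalizer_of_normal (Subgroup.mem_top z)),
      Coprime.conj_smul_eq_self_iff.2 hzR]
  obtain ⟨P, hRP, hP⟩ := Coprime.exists_invariant_sylow_ge (p := p)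
    (zpowers_le_normalizer_of_conj hzM) (card_zpowers_coprime hz.1 hodd)
    (Or.inl (Coprime.isSolvable_of_isMulCommutative _)) le_sup_right hR'p
    (zpowers_le_normalizer_of_conj hzR)
  -- `M` has index prime to `p`
  have hidx : ¬ p ∣ M.index := by
    intro h
    set π := QuotientGroup.mk' O
    have hsurj : Function.Surjective (π.comp (Subgroup.centralizer ({z} : Set G)).subtype) := by
      rw [← MonoidHom.range_eq_top, MonoidHom.range_comp, Subgroup.range_subtype]
      have h1 := congrArg (Subgroup.map π) (oddCore_sup_centralizer hz)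
      rwa [Subgroup.map_sup, QuotientGroup.map_mk'_self, bot_sup_eq,
        Subgroup.map_top_of_surjective π (QuotientGroup.mk'_surjective O)] at h1
    have hmap : M.map π = (R : Subgroup (Subgroup.centralizer ({z} : Set G))).map (π.comp (Subgroup.centralizer ({z} : Set G)).subtype) := by
      rw [hM, Subgroup.map_sup, QuotientGroup.map_mk'_self, bot_sup_eq, hR', Subgroup.map_map]
    rw [← Subgroup.index_map_eq M (QuotientGroup.mk'_surjective O)
      (by rw [QuotientGroup.ker_mk']; exact le_sup_left), hmap] at h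
    exact R.not_dvd_index (h.trans (Subgroup.index_map_dvd _ hsurj))
  refine ⟨Sylow.ofCard ((P : Subgroup M).map M.subtype) ?_, ?_, ?_⟩
  · rw [Subgroup.card_subtype, P.card_eq_multiplicity, ← M.card_mul_index,
      Nat.factorization_mul Nat.card_pos.ne' Subgroup.index_ne_zero_of_finite, Finsupp.add_apply,
      Nat.factorization_eq_zero_of_not_dvd hidx, add_zero]
  · rw [Sylow.coe_ofCard]; exact hP (Subgroup.mem_zpowers z)
  · rw [Sylow.coe_ofCard]; exact hRP

/-- Invariant Sylow subgroups are conjugate under the centralizer. -/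
theorem exists_centralizer_conj {z : G} (hz : Cfsg.IsIsolatedInvolution z) (P Q : Sylow p G)
    (hP : z ∈ Subgroup.normalizer ((P : Subgroup G) : Set G))
    (hQ : z ∈ Subgroup.normalizer ((Q : Subgroup G) : Set G)) :
    ∃ c ∈ Subgroup.centralizer ({z} : Set G),
      MulAut.conj c • (Q : Subgroup G) = (P : Subgroup G) := by
  obtain ⟨g, hg⟩ := MulAction.exists_smul_eq G Q P
  obtain ⟨o, ho, c, hc, rfl⟩ : ∃ o ∈ Cfsg.oddCore G,
      ∃ c ∈ Subgroup.centralizer ({z} : Set G), o * c = g :=
    Subgroup.mem_sup_of_normal_left.1 (oddCore_sup_centralizer hz ▸ Subgroup.mem_top g)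
  have hA : Subgroup.zpowers z ≤ Subgroup.normalizer (Cfsg.oddCore G : Set G) :=
    Subgroup.le_normalizer_of_normal
  have hQc : z ∈ Subgroup.normalizer ((MulAut.conj c • (Q : Subgroup G) : Subgroup G) : Set G) := by
    rw [← Coprime.conj_smul_normalizer, Coprime.mem_conj_smul]
    rwa [mul_assoc, show z * c = c * z from (Subgroup.mem_centralizer_singleton_iff.1 hc).symm,
      inv_mul_cancel_left]
  obtain ⟨c', hc', he⟩ := Coprime.exists_centralizer_conj_eq hA
    (card_zpowers_coprime hz.1 InvChar.Core.odd_card_oddCore)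
    (Or.inl (Coprime.isSolvable_of_isMulCommutative _)) (zpowers_le_normalizer_of_conj hQc)
    (zpowers_le_normalizer_of_conj hP) ho (by
      rw [← Coprime.conj_smul_mul, ← Sylow.coe_subgroup_smul, hg])
  refine ⟨c' * c, mul_mem ?_ hc, by rw [Coprime.conj_smul_mul, he]⟩
  have := Subgroup.mem_centralizer_iff.1 hc'.2 z (Subgroup.mem_zpowers z)
  exact Subgroup.mem_centralizer_singleton_iff.2 this.symm

/-- A maximal invariant `p`-subgroup is a Sylow subgroup. -/
theorem exists_sylow_of_maximal {z : G} (hz : Cfsg.IsIsolatedInvolution z) {Q : Subgroup G}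
    (hQ : IsPGroup p Q) (hzQ : z ∈ Subgroup.normalizer (Q : Set G))
    (hmax : ∀ R : Subgroup G, IsPGroup p R → z ∈ Subgroup.normalizer (R : Set G) → Q ≤ R → R = Q) :
    ∃ P : Sylow p G, (P : Subgroup G) = Q := by
  by_cases hp : p = 2
  · subst hp
    have hzmem : z ∈ Q := by
      have hzp : IsPGroup 2 (Subgroup.zpowers z) :=
        IsPGroup.of_card (n := 1) (by rw [Nat.card_zpowers, hz.1, pow_one])
      have hle : Subgroup.zpowers z ≤ Subgroup.normalizer (Q : Set G) := Subgroup.zpowers_le.2 hzQ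
      have h := hmax (Subgroup.zpowers z ⊔ Q) (hzp.to_sup_of_normal_right' hQ hle)
        (Subgroup.le_normalizer (Subgroup.mem_sup_left (Subgroup.mem_zpowers z))) le_sup_right
      exact h ▸ Subgroup.mem_sup_left (Subgroup.mem_zpowers z)
    obtain ⟨P, hP⟩ := hQ.exists_le_sylow
    exact ⟨P, hmax _ P.2 (Subgroup.le_normalizer (hP hzmem)) hP⟩
  by_contra hno
  set N := Subgroup.normalizer (Q : Set G) with hN
  obtain ⟨P₀, hP₀⟩ := hQ.exists_le_sylow
  have hlt : Q < (P₀ : Subgroup G) := lt_of_le_of_ne hP₀ fun h => hno ⟨P₀, h.symm⟩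
  obtain ⟨P, hP, -⟩ := exists_ge (isolated_subgroup hz hzQ) hp (Classical.arbitrary (Sylow p
    (Subgroup.centralizer ({(⟨z, hzQ⟩ : N)} : Set N))))
  set P' := (P : Subgroup N).map N.subtype with hP'
  have hQP : Q ≤ P' := by
    have hn : (Q.subgroupOf N).Normal := Subgroup.normal_in_normalizer
    have hle := IsPGroup.le_sylow_of_normal
      (hQ.of_equiv (Subgroup.subgroupOfEquivOfLe Subgroup.le_normalizer).symm) P
    intro q hq
    exact ⟨⟨q, Subgroup.le_normalizer hq⟩, hle hq, rfl⟩
  have heq := hmax P' (P.2.map _) (by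
    have := Subgroup.le_normalizer_map N.subtype ⟨⟨z, hzQ⟩, hP, rfl⟩
    exact this) hQP
  have hbig : Q < (P₀ : Subgroup G) ⊓ N :=
    Transfer.Frobenius.lt_inf_normalizer P₀.2 hlt
  obtain ⟨T, hT⟩ := (P₀.2.to_le (inf_le_left : (P₀ : Subgroup G) ⊓ N ≤ P₀)).of_equiv
    (Subgroup.subgroupOfEquivOfLe (inf_le_right : (P₀ : Subgroup G) ⊓ N ≤ N)).symm |>.exists_le_sylow
  have h1 := Subgroup.card_le_of_le hT
  rw [Nat.card_congr (Subgroup.subgroupOfEquivOfLe (inf_le_right : (P₀ : Subgroup G) ⊓ N ≤ N)).toEquiv,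
    T.card_eq_multiplicity, ← P.card_eq_multiplicity,
    ← Subgroup.card_subtype N (P : Subgroup N), ← hP', heq] at h1
  exact hbig.ne (Subgroup.eq_of_le_of_card_ge hbig.le h1)

/-- The invariant Sylow subgroup meets the centralizer in a Sylow subgroup. -/
theorem not_dvd_relIndex {z : G} (hz : Cfsg.IsIsolatedInvolution z) (hp : p ≠ 2) (P : Sylow p G)
    (hzP : z ∈ Subgroup.normalizer ((P : Subgroup G) : Set G)) :
    ¬ p ∣ ((P : Subgroup G) ⊓ Subgroup.centralizer ({z} : Set G)).relIndex
      (Subgroup.centralizer ({z} : Set G)) := by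
  set C := Subgroup.centralizer ({z} : Set G) with hC
  obtain ⟨R⟩ : Nonempty (Sylow p C) := inferInstance
  obtain ⟨Q, hQ, hRQ⟩ := exists_ge hz hp R
  obtain ⟨c, hc, he⟩ := exists_centralizer_conj hz P Q hzP hQ
  intro h
  have hle : (MulAut.conj (⟨c, hc⟩ : C) • R : Sylow p C).1 ≤
      ((P : Subgroup G) ⊓ C).subgroupOf C := by
    intro y hy
    rw [Sylow.pointwise_smul_def, Coprime.mem_conj_smul] at hy
    refine Subgroup.mem_subgroupOf.2 ⟨?_, y.2⟩
    show (y : G) ∈ (P : Subgroup G)
    rw [← he, Coprime.mem_conj_smul]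
    exact hRQ ⟨_, hy, rfl⟩
  exact (MulAut.conj (⟨c, hc⟩ : C) • R : Sylow p C).not_dvd_index
    (h.trans (Subgroup.index_dvd_of_le hle))

/-- The cosets of the fixed points correspond to the inverted elements. -/
theorem relIndex_eq_card_inverted {z : G} (hz : Cfsg.IsIsolatedInvolution z) (hp : p ≠ 2)
    (P : Sylow p G) (hzP : z ∈ Subgroup.normalizer ((P : Subgroup G) : Set G)) :
    ((P : Subgroup G) ⊓ Subgroup.centralizer ({z} : Set G)).relIndex (P : Subgroup G) =
      Nat.card {x : G // x ∈ P ∧ z * x * z⁻¹ = x⁻¹} := by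
  set C := Subgroup.centralizer ({z} : Set G) with hC
  have hodd : ∀ x ∈ (P : Subgroup G), Odd (orderOf x) := fun x hx =>
    (odd_card_of_isPGroup hp P.2).of_dvd_nat ((P : Subgroup G).orderOf_dvd_natCard hx)
  rw [Subgroup.relIndex, Subgroup.index_eq_card]
  symm
  refine Nat.card_eq_of_bijective
    (fun x => QuotientGroup.mk (⟨x.1, x.2.1⟩ : (P : Subgroup G))) ⟨fun x y h => ?_, fun q => ?_⟩
  · have h' : (x.1)⁻¹ * y.1 ∈ C := (Subgroup.mem_subgroupOf.1 (QuotientGroup.eq.1 h)).2
    obtain ⟨k, -, huniq⟩ := Involutions.Isolated.existsUnique_inverted hz x.1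
    exact Subtype.ext ((huniq x.1 ⟨⟨hodd _ x.2.1, x.2.2⟩, by rw [inv_mul_cancel]; exact one_mem _⟩).trans
      (huniq y.1 ⟨⟨hodd _ y.2.1, y.2.2⟩, h'⟩).symm)
  · obtain ⟨⟨g, hg⟩, rfl⟩ := QuotientGroup.mk_surjective q
    obtain ⟨k, hk, -, hinv, hkz⟩ := Involutions.Isolated.exists_transporter hz.1 (w := g * z * g⁻¹)
      (by rw [Involutions.Basic.orderOf_conj, hz.1])
      (Involutions.Isolated.odd_orderOf_mul hz (isConj_iff.mpr ⟨g, rfl⟩) (IsConj.refl z))
    have hkP : k ∈ (P : Subgroup G) := by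
      refine Subgroup.zpowers_le.2 ?_ hk
      rw [show g * z * g⁻¹ * z = g * (z * g⁻¹ * z) by group]
      refine mul_mem hg ?_
      have := (Subgroup.mem_normalizer_iff.1 hzP g⁻¹).1 (inv_mem hg)
      rwa [Involutions.Basic.inv_eq hz.1] at this
    refine ⟨⟨k, hkP, hinv⟩, QuotientGroup.eq.2 (Subgroup.mem_subgroupOf.2 ⟨((P : Subgroup G).mul_mem ((P : Subgroup G).inv_mem hkP) hg),
      Subgroup.mem_centralizer_singleton_iff.2 ?_⟩)⟩
    show k⁻¹ * g * z = z * (k⁻¹ * g)
    calc k⁻¹ * g * z = k⁻¹ * (g * z * g⁻¹) * g := by group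
      _ = k⁻¹ * (k * z * k⁻¹) * g := by rw [hkz]
      _ = _ := by group

end Cfsg.Agent.ZStar.InvariantSylow
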