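import Mathlib
import Cfsg.Agent.Lib.ZStar.InvariantSylow

/-!
# Weakly closed central elements of a Sylow 2-subgroup are central modulo the odd core

Generalizes the `Z*`-theorem from involutions to elements of 2-power order.
-/

set_option autoImplicit false
set_option linter.style.haveILetI false
set_option linter.unusedSectionVars false

namespace Cfsg.Agent.ZStar.CentralWeaklyClosed

open Cfsg.Agent.ZStar.Main

universe u

variable {G : Type u} [Group G] [Finite G]

/-- A quotient by a central 2-subgroup has trivial odd core if the group has. -/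
theorem oddCore_quotient_central (hO : Cfsg.oddCore G = ⊥) (D : Subgroup G) [D.Normal]
    (hDc : D ≤ Subgroup.center G) (hD : IsPGroup 2 D) : Cfsg.oddCore (G ⧸ D) = ⊥ := by
  set π := QuotientGroup.mk' D
  set P := (Cfsg.oddCore (G ⧸ D)).comap π with hP
  haveI : P.Normal := Subgroup.Normal.comap inferInstance π
  set d := (Subgroup.center P).index with hd
  have hd2 : Odd d := by
    set φ := π.comp P.subtype with hφ
    have hker : φ.ker ≤ Subgroup.center P := fun y hy => by
      rw [MonoidHom.mem_ker, hφ, MonoidHom.comp_apply, QuotientGroup.mk'_apply,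
        QuotientGroup.eq_one_iff] at hy
      exact Subgroup.mem_center_iff.2 fun w => Subtype.ext (Subgroup.mem_center_iff.1 (hDc hy) w)
    have hdvd := Subgroup.index_dvd_of_le hker
    rw [Subgroup.index_ker, hφ, MonoidHom.range_comp, Subgroup.range_subtype, hP,
      Subgroup.map_comap_eq_self_of_surjective (QuotientGroup.mk'_surjective D)] at hdvd
    exact InvChar.Core.odd_card_oddCore.of_dvd_nat hdvd
  set m := Nat.card (Cfsg.oddCore (G ⧸ D)) with hm
  have hm2 : Odd m := InvChar.Core.odd_card_oddCore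
  set f : P →* Subgroup.center P :=
    MonoidHom.mk' (fun y => MonoidHom.transferCenterPow P y ^ m) (fun a b => by
      simp only [map_mul]
      exact Commute.mul_pow (Subtype.ext
        (Subgroup.mem_center_iff.1 (MonoidHom.transferCenterPow P b).2 _)) m) with hf
  have hfv : ∀ y : P, f y = 1 ↔ (y : G) ^ (d * m) = 1 := fun y => by
    simp [hf, Subtype.ext_iff, pow_mul, hd]
  have hKodd : Odd (Nat.card f.ker) := by
    rw [← Nat.not_even_iff_odd, even_iff_two_dvd]
    intro h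
    haveI : Fact (Nat.Prime 2) := ⟨Nat.prime_two⟩
    obtain ⟨y, hy⟩ := exists_prime_orderOf_dvd_card' 2 h
    have h1 : (y : P) ^ (d * m) = 1 := Subtype.ext (by simpa using (hfv y).1 y.2)
    have h2 : orderOf y ∣ d * m := orderOf_dvd_of_pow_eq_one (Subtype.ext (by simpa using h1))
    rw [hy] at h2
    exact Nat.not_even_iff_odd.2 (hd2.mul hm2) (even_iff_two_dvd.2 h2)
  set K := f.ker.map P.subtype with hK
  have hKn : K.Normal := ⟨fun y hy g => by
    obtain ⟨w, hw, rfl⟩ := hy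
    refine ⟨⟨g * w * g⁻¹, Subgroup.Normal.conj_mem inferInstance _ w.2 g⟩, ?_, rfl⟩
    have hw' := (hfv w).1 hw
    refine (hfv _).2 ?_
    show (g * (w : G) * g⁻¹) ^ (d * m) = 1
    rw [conj_pow, hw', mul_one, mul_inv_cancel]⟩
  have hKbot : K = ⊥ := by
    refine le_bot_iff.1 (hO ▸ InvChar.Core.le_oddCore hKn ?_)
    rwa [hK, Subgroup.card_map_of_injective P.subtype_injective]
  rw [Subgroup.eq_bot_iff_forall]
  intro q hq
  obtain ⟨x, rfl⟩ := QuotientGroup.mk_surjective q
  obtain ⟨a, b, hb, hab⟩ := Nat.exists_eq_two_pow_mul_odd (n := orderOf x) (orderOf_pos x).ne'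
  -- the odd part of `x` has `m`-th power one
  have hqm : (QuotientGroup.mk x : G ⧸ D) ^ m = 1 :=
    congrArg Subtype.val (pow_card_eq_one' (x := (⟨_, hq⟩ : Cfsg.oddCore (G ⧸ D))))
  set y := x ^ 2 ^ a with hy
  have hyodd : Odd (orderOf y) := hb.of_dvd_nat
    (orderOf_dvd_of_pow_eq_one (by rw [hy, ← pow_mul, ← hab, pow_orderOf_eq_one]))
  have hym : y ^ m = 1 := by
    have hmem : y ^ m ∈ D := by
      rw [← QuotientGroup.eq_one_iff, hy, ← pow_mul, mul_comm, pow_mul, QuotientGroup.mk_pow,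
        QuotientGroup.mk_pow, hqm, one_pow]
    obtain ⟨k, hk⟩ := hD ⟨y ^ m, hmem⟩
    have hk' : orderOf (y ^ m) ∣ 2 ^ k := orderOf_dvd_of_pow_eq_one (congrArg Subtype.val hk)
    exact orderOf_eq_one_iff.1 (Nat.eq_one_of_dvd_coprimes
      ((Nat.coprime_two_right.2 (hyodd.of_dvd_nat (orderOf_pow_dvd m))).pow_right k) dvd_rfl hk')
  have hyP : y ∈ P := pow_mem (show x ∈ P from hq) _
  have hy1 : y = 1 := by
    have : y ∈ K := ⟨⟨y, hyP⟩, (hfv _).2 (by
      show y ^ (d * m) = 1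
      rw [mul_comm, pow_mul, hym, one_pow]), rfl⟩
    rwa [hKbot, Subgroup.mem_bot] at this
  have hqa : (QuotientGroup.mk x : G ⧸ D) ^ 2 ^ a = 1 := by
    rw [← QuotientGroup.mk_pow, ← hy, hy1, QuotientGroup.mk_one]
  exact orderOf_eq_one_iff.1 (Nat.eq_one_of_dvd_coprimes
    ((Nat.coprime_two_right.2 hm2).pow_right a) (orderOf_dvd_of_pow_eq_one hqm)
    (orderOf_dvd_of_pow_eq_one hqa))

/-- A central element of a Sylow 2-subgroup whose powers have no fusion outside their cyclic groups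
is central when the odd core is trivial. -/
theorem mem_center (hO : Cfsg.oddCore G = ⊥) (S : Sylow 2 G) (u : G) (huS : u ∈ (S : Subgroup G))
    (hc : ∀ s ∈ (S : Subgroup G), Commute u s)
    (hW : ∀ v ∈ Subgroup.zpowers u, ∀ g : G, g * v * g⁻¹ ∈ (S : Subgroup G) →
      g * v * g⁻¹ ∈ Subgroup.zpowers v) :
    u ∈ Subgroup.center G := by
  haveI : Fact (Nat.Prime 2) := ⟨Nat.prime_two⟩
  induction hn : orderOf u using Nat.strong_induction_on generalizing u with
  | _ n ih =>
  subst hn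
  by_cases h1 : u = 1
  · exact h1 ▸ one_mem _
  obtain ⟨k, hk⟩ : ∃ k, orderOf u = 2 ^ k := by
    obtain ⟨k, hk⟩ := IsPGroup.iff_orderOf.1 S.2 ⟨u, huS⟩
    exact ⟨k, by rw [← hk, ← Subgroup.orderOf_coe]⟩
  obtain ⟨j, rfl⟩ : ∃ j, k = j + 1 := Nat.exists_eq_add_one.2 (Nat.pos_of_ne_zero fun h => by
    rw [h, pow_zero, orderOf_eq_one_iff] at hk; exact h1 hk)
  have hu2 : orderOf (u ^ 2) = 2 ^ j := by
    rw [orderOf_pow_of_dvd (by norm_num) (by rw [hk]; exact dvd_pow_self 2 (Nat.succ_ne_zero j)), hk,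
      pow_succ, Nat.mul_div_cancel _ (by norm_num)]
  have hpow : ∀ v ∈ Subgroup.zpowers (u ^ 2), v ∈ Subgroup.zpowers u := fun v hv =>
    Subgroup.zpowers_le.2 (pow_mem (Subgroup.mem_zpowers u) 2) hv
  have hDc' : u ^ 2 ∈ Subgroup.center G := ih _ (by
    rw [hu2, hk]; exact Nat.pow_lt_pow_right (by norm_num) (Nat.lt_succ_self j)) (u ^ 2)
    (pow_mem huS 2) (fun s hs => (hc s hs).pow_left 2) (fun v hv => hW v (hpow v hv)) rfl
  set D := Subgroup.zpowers (u ^ 2) with hD
  have hDc : D ≤ Subgroup.center G := Subgroup.zpowers_le.2 hDc'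
  haveI : D.Normal := ⟨fun y hy g => by
    rwa [Subgroup.mem_center_iff.1 (hDc hy) g, mul_inv_cancel_right]⟩
  have hDp : IsPGroup 2 D := IsPGroup.of_card (n := j) (by rw [hD, Nat.card_zpowers, hu2])
  have hDS : D ≤ (S : Subgroup G) := Subgroup.zpowers_le.2 (pow_mem huS 2)
  set π := QuotientGroup.mk' D with hπ
  have hπu : π u ≠ 1 := fun h => by
    rw [hπ, QuotientGroup.mk'_apply, QuotientGroup.eq_one_iff] at h
    have h' := orderOf_dvd_of_mem_zpowers h
    rw [hu2, hk, Nat.pow_dvd_pow_iff_le_right (by norm_num)] at h'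
    omega
  have hπu2 : π u * π u = 1 := by
    rw [← map_mul, ← pow_two, hπ, QuotientGroup.mk'_apply, QuotientGroup.eq_one_iff]
    exact Subgroup.mem_zpowers _
  have hπo : orderOf (π u) = 2 := orderOf_eq_prime (by rw [pow_two, hπu2]) hπu
  set T := S.mapSurjective (QuotientGroup.mk'_surjective D) with hT
  have hiso : Cfsg.IsIsolatedInvolution (π u) := by
    refine (Involutions.Isolated.iff_unique_in_sylow T hπo ⟨u, huS, rfl⟩).2 fun q hq => ?_
    obtain ⟨g, rfl⟩ := QuotientGroup.mk'_surjective D q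
    rw [← map_inv, ← map_mul, ← map_mul] at hq ⊢
    obtain ⟨s, hs, hse⟩ := hq
    have hmem : g * u * g⁻¹ ∈ (S : Subgroup G) := by
      have hd : s⁻¹ * (g * u * g⁻¹) ∈ D := QuotientGroup.eq.1 hse
      have := mul_mem hs (hDS hd)
      rwa [mul_inv_cancel_left] at this
    obtain ⟨i, hi⟩ := Subgroup.mem_zpowers_iff.1 (hW u (Subgroup.mem_zpowers u) g hmem)
    rw [← hi, map_zpow]
    rcases Int.even_or_odd' i with ⟨l, rfl | rfl⟩
    · exfalso
      have h2 : π (g * u * g⁻¹) = 1 := by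
        rw [← hi, map_zpow, zpow_mul, zpow_two, hπu2, one_zpow]
      rw [map_mul, map_mul, map_inv] at h2
      exact hπu (conj_eq_one_iff.1 h2)
    · rw [zpow_add_one, zpow_mul, zpow_two, hπu2, one_zpow, one_mul]
  have hcen := mem_center_of_isolated (oddCore_quotient_central hO D hDc hDp) hiso
  have hcomm : ∀ g : G, u * g * u⁻¹ * g⁻¹ ∈ D := fun g => by
    rw [← QuotientGroup.eq_one_iff]
    show π (u * g * u⁻¹ * g⁻¹) = 1
    rw [map_mul, map_mul, map_mul, ← Subgroup.mem_center_iff.1 hcen (π g), map_inv, map_inv,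
      mul_inv_cancel_right, mul_inv_cancel]
  let φ : G →* G := MonoidHom.mk' (fun g => u * g * u⁻¹ * g⁻¹) fun g h => by
    have hz := Subgroup.mem_center_iff.1 (hDc (hcomm h))
    calc u * (g * h) * u⁻¹ * (g * h)⁻¹ = (u * g * u⁻¹) * (u * h * u⁻¹ * h⁻¹) * g⁻¹ := by group
      _ = (u * g * u⁻¹) * g⁻¹ * (u * h * u⁻¹ * h⁻¹) := by rw [mul_assoc, ← hz g⁻¹, ← mul_assoc]
  have hSker : (S : Subgroup G) ≤ φ.ker := fun s hs => by
    show u * s * u⁻¹ * s⁻¹ = 1
    rw [(hc s hs).eq, mul_inv_cancel_right, mul_inv_cancel]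
  have hidx : φ.ker.index = 1 := by
    have h2 : φ.ker.index ∣ 2 ^ j := by
      rw [Subgroup.index_ker, ← hu2, ← Nat.card_zpowers, ← hD]
      exact Subgroup.card_dvd_of_le (by rintro _ ⟨g, rfl⟩; exact hcomm g)
    exact Nat.eq_one_of_dvd_coprimes
      ((Nat.coprime_comm.1 (Nat.prime_two.coprime_iff_not_dvd.2 S.not_dvd_index)).pow_right j)
      (Subgroup.index_dvd_of_le hSker) h2
  refine mem_center_of_commutator fun g => ?_
  exact MonoidHom.mem_ker.1 (Subgroup.index_eq_one.1 hidx ▸ Subgroup.mem_top g : g ∈ φ.ker)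

/-- Weakly closed subgroups of the centre of a Sylow 2-subgroup: the whole group is the odd core
times the centralizer of that centre, and their product is normal. -/
theorem center_mod_core (S : Sylow 2 G)
    (hW : ∀ v ∈ (Subgroup.center (S : Subgroup G)).map (S : Subgroup G).subtype, ∀ g : G,
      g * v * g⁻¹ ∈ (S : Subgroup G) → g * v * g⁻¹ ∈ Subgroup.zpowers v) :
    (Cfsg.oddCore G ⊔ (Subgroup.center (S : Subgroup G)).map (S : Subgroup G).subtype).Normal ∧
      ∀ h : G, ∃ o ∈ Cfsg.oddCore G, ∃ c ∈ Subgroup.centralizer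
        (((Subgroup.center (S : Subgroup G)).map (S : Subgroup G).subtype : Subgroup G) : Set G),
        h = o * c := by
  haveI : Fact (Nat.Prime 2) := ⟨Nat.prime_two⟩
  set O := Cfsg.oddCore G with hOdef
  set Z := (Subgroup.center (S : Subgroup G)).map (S : Subgroup G).subtype with hZ
  set π := QuotientGroup.mk' O with hπ
  set T := S.mapSurjective (QuotientGroup.mk'_surjective O) with hT
  have hOS : ∀ x ∈ O, x ∈ (S : Subgroup G) → x = 1 := fun x hxO hxS => by
    obtain ⟨k, hk⟩ := IsPGroup.iff_orderOf.1 S.2 ⟨x, hxS⟩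
    rw [← Subgroup.orderOf_coe] at hk
    exact orderOf_eq_one_iff.1 (Nat.eq_one_of_dvd_coprimes
      ((Nat.coprime_two_right.2 (InvChar.Core.odd_card_oddCore (G := G))).pow_right k)
      (O.orderOf_dvd_natCard hxO) (dvd_of_eq hk))
  have hcentral : ∀ v ∈ Z, π v ∈ Subgroup.center (G ⧸ O) := by
    intro v hv
    have hvS : v ∈ (S : Subgroup G) := Subgroup.map_subtype_le _ hv
    refine mem_center InvChar.Core.oddCore_quotient_oddCore_eq_bot T (π v) ⟨v, hvS, rfl⟩ ?_ ?_
    · rintro _ ⟨s, hs, rfl⟩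
      obtain ⟨w, hw, rfl⟩ := hv
      exact ((show Commute (w : G) s from
        (congrArg Subtype.val (Subgroup.mem_center_iff.1 hw ⟨s, hs⟩)).symm).map π)
    · intro q hq y hy
      obtain ⟨i, rfl⟩ := Subgroup.mem_zpowers_iff.1 hq
      obtain ⟨g, rfl⟩ := QuotientGroup.mk'_surjective O y
      rw [← map_zpow, ← map_inv, ← map_mul, ← map_mul] at hy ⊢
      obtain ⟨s, hs, hse⟩ := hy
      set x := g * v ^ i * g⁻¹ with hx
      obtain ⟨o, ho, hso⟩ : ∃ o ∈ O, s * o = x :=
        ⟨s⁻¹ * x, QuotientGroup.eq.1 hse, mul_inv_cancel_left s x⟩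
      -- `O S` has `S` as a Sylow subgroup
      obtain ⟨c, hcO, hcS⟩ : ∃ c ∈ O, c * x * c⁻¹ ∈ (S : Subgroup G) := by
        set L := (S : Subgroup G) ⊔ O
        have hxL : x ∈ L := hso ▸ mul_mem (Subgroup.mem_sup_left hs) (Subgroup.mem_sup_right ho)
        have hxp : IsPGroup 2 (Subgroup.zpowers (⟨x, hxL⟩ : L)) := by
          obtain ⟨k, hk⟩ := IsPGroup.iff_orderOf.1 S.2 ⟨v ^ i, zpow_mem hvS i⟩
          refine IsPGroup.of_card (n := k) ?_
          rw [Nat.card_zpowers, ← Subgroup.orderOf_coe]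
          show orderOf (g * v ^ i * g⁻¹) = 2 ^ k
          rw [Involutions.Basic.orderOf_conj, ← hk, ← Subgroup.orderOf_coe]
        obtain ⟨R, hR⟩ := hxp.exists_le_sylow
        obtain ⟨⟨l, hl⟩, hle⟩ := MulAction.exists_smul_eq L R (S.subtype le_sup_left)
        have hmem' : l * x * l⁻¹ ∈ (S : Subgroup G) := by
          have hmem : (⟨l, hl⟩ : L) * ⟨x, hxL⟩ * (⟨l, hl⟩ : L)⁻¹ ∈
              ((S.subtype le_sup_left : Sylow 2 L) : Subgroup L) := by
            rw [← hle, ← SetLike.mem_coe, Sylow.coe_subgroup_smul]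
            exact ⟨_, hR (Subgroup.mem_zpowers _), rfl⟩
          exact hmem
        obtain ⟨t, ht, o', ho', rfl⟩ := Subgroup.mem_sup_of_normal_right.1 hl
        refine ⟨o', ho', ?_⟩
        have := mul_mem (mul_mem (inv_mem ht) hmem') ht
        rwa [show o' * x * o'⁻¹ = t⁻¹ * (t * o' * x * (t * o')⁻¹) * t by group]
      have hcg : c * g * v ^ i * (c * g)⁻¹ ∈ (S : Subgroup G) := by
        rw [show c * g * v ^ i * (c * g)⁻¹ = c * x * c⁻¹ by rw [hx]; group]
        exact hcS
      have hmem := hW (v ^ i) (Z.zpow_mem hv i) (c * g) hcg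
      obtain ⟨l, hl⟩ := Subgroup.mem_zpowers_iff.1 hmem
      refine Subgroup.mem_zpowers_iff.2 ⟨l, ?_⟩
      have hπc : π c = 1 := (QuotientGroup.eq_one_iff c).2 hcO
      rw [← map_zpow, hl, hx]
      simp only [map_mul, map_inv, hπc, one_mul, mul_inv_rev, inv_one, mul_one]
      rfl
  set W := O ⊔ Z with hWdef
  have hWn : W.Normal := by
    have h1 : W = (Z.map π).comap π := by
      rw [hπ, QuotientGroup.comap_map_mk']
    have h2 : (Z.map π).Normal := ⟨fun y hy g => by
      obtain ⟨v, hv, rfl⟩ := hy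
      rw [Subgroup.mem_center_iff.1 (hcentral v hv) g, mul_inv_cancel_right]
      exact ⟨v, hv, rfl⟩⟩
    rw [h1]
    exact Subgroup.Normal.comap h2 π
  refine ⟨hWn, fun h => ?_⟩
  have hZS : Z ≤ (S : Subgroup G) := Subgroup.map_subtype_le _
  have hidx : ¬ 2 ∣ (Z.subgroupOf W).index := by
    have h1 : Z.relIndex W ∣ Nat.card O := by
      rw [hWdef]
      have h2 : Nat.card Z * Z.relIndex (O ⊔ Z) = Nat.card ↥(O ⊔ Z) := by
        rw [← Subgroup.relIndex_bot_left Z, ← Subgroup.relIndex_bot_left (O ⊔ Z)]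
        exact Subgroup.relIndex_mul_relIndex _ _ _ bot_le le_sup_right
      have h3 : Nat.card O * O.relIndex (O ⊔ Z) = Nat.card ↥(O ⊔ Z) := by
        rw [← Subgroup.relIndex_bot_left O, ← Subgroup.relIndex_bot_left (O ⊔ Z)]
        exact Subgroup.relIndex_mul_relIndex _ _ _ bot_le le_sup_left
      have h4 : O.relIndex (O ⊔ Z) ∣ Nat.card Z := by
        rw [sup_comm, Subgroup.relIndex_sup_right]
        exact Subgroup.relIndex_dvd_card O Z
      obtain ⟨q, hq⟩ := h4
      refine ⟨q, Nat.eq_of_mul_eq_mul_left (Nat.card_pos (α := ↥(O ⊔ Z))) ?_⟩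
      calc Nat.card ↥(O ⊔ Z) * Nat.card O = Nat.card Z * Z.relIndex (O ⊔ Z) * Nat.card O := by
            rw [h2]
        _ = Nat.card O * O.relIndex (O ⊔ Z) * (Z.relIndex (O ⊔ Z) * q) := by rw [hq]; ring
        _ = Nat.card ↥(O ⊔ Z) * (Z.relIndex (O ⊔ Z) * q) := by rw [h3]
    exact fun hd => Nat.not_even_iff_odd.2 ((InvChar.Core.odd_card_oddCore (G := G)).of_dvd_nat
      (hd.trans h1)) even_two
  let PZ : Sylow 2 W := (((S.2.to_le hZS).comap_subtype (K := W))).toSylow hidx
  have hPZ : ((PZ : Subgroup W).map W.subtype) = Z :=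
    Subgroup.map_subgroupOf_eq_of_le le_sup_right
  have htop := Sylow.normalizer_sup_eq_top PZ
  rw [hPZ] at htop
  have htop' : O ⊔ Subgroup.normalizer (Z : Set G) = ⊤ := by
    rw [← top_le_iff, ← htop]
    exact sup_le le_sup_right (sup_le le_sup_left (le_sup_of_le_right Subgroup.le_normalizer))
  obtain ⟨o, ho, n, hn, rfl⟩ := Subgroup.mem_sup_of_normal_left.1 (htop' ▸ Subgroup.mem_top h)
  refine ⟨o, ho, n, Subgroup.mem_centralizer_iff.2 fun v hv => ?_, rfl⟩
  have hvn : n * v * n⁻¹ ∈ Z := (Subgroup.mem_normalizer_iff.1 hn v).1 hv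
  have hmem : n * v * n⁻¹ * v⁻¹ ∈ O := by
    rw [← QuotientGroup.eq_one_iff]
    show π (n * v * n⁻¹ * v⁻¹) = 1
    rw [map_mul, map_mul, map_mul, Subgroup.mem_center_iff.1 (hcentral v hv) (π n), map_inv,
      map_inv, mul_inv_cancel_right, mul_inv_cancel]
  have h1 := hOS _ hmem (hZS (mul_mem hvn (inv_mem hv)))
  exact (mul_inv_eq_iff_eq_mul.1 (mul_inv_eq_one.1 h1)).symm

end Cfsg.Agent.ZStar.CentralWeaklyClosed
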