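import Mathlib
import Cfsg.Prelude.Def_CaseTheorems
import Cfsg.Agent.Lib.ZStar.CentralWeaklyClosed
import Cfsg.Agent.Lib.Involutions.WreathedClasses
import Cfsg.Agent.Lib.Involutions.QuasiDihedral

/-!
# The centre of a quasi-dihedral or wreathed Sylow subgroup modulo the odd core
-/

set_option autoImplicit false
set_option linter.style.haveILetI false
set_option linter.unusedSectionVars false

namespace Cfsg.Agent.ZStar.CenterSylowMod

open Cfsg.Agent.ZStar.Main

universe u

variable {G : Type u} [Group G] [Finite G]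

theorem of_weaklyClosed (S : Sylow 2 G)
    (hW : ∀ Z₀ : Subgroup G, Z₀ ≤ ((Subgroup.center (S : Subgroup G)).map (S : Subgroup G).subtype) →
      Cfsg.IsWeaklyClosed Z₀ (S : Subgroup G)) :
    ∀ v ∈ (Subgroup.center (S : Subgroup G)).map (S : Subgroup G).subtype, ∀ g : G,
      g * v * g⁻¹ ∈ (S : Subgroup G) → g * v * g⁻¹ ∈ Subgroup.zpowers v := by
  intro v hv g hg
  have h := (hW (Subgroup.zpowers v) (Subgroup.zpowers_le.2 hv)).2 g (by
    rw [MonoidHom.map_zpowers]
    exact Subgroup.zpowers_le.2 hg)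
  rw [← h]
  exact ⟨v, Subgroup.mem_zpowers v, rfl⟩

/-- An isolated involution of a Sylow subgroup is central in it. -/
theorem commute_of_isolated {z : G} (hz : Cfsg.IsIsolatedInvolution z) (S : Sylow 2 G)
    (hzS : z ∈ (S : Subgroup G)) (s : (S : Subgroup G)) :
    Commute (⟨z, hzS⟩ : (S : Subgroup G)) s := by
  refine Subtype.ext ?_
  have h := (Involutions.Isolated.iff_unique_in_sylow S hz.1 hzS).1 hz s
    (mul_mem (mul_mem s.2 hzS) (inv_mem s.2))
  exact (mul_inv_eq_iff_eq_mul.1 h).symm

theorem of_isolated (S : Sylow 2 G)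
    (hS : Cfsg.IsQuasiDihedral (S : Subgroup G) ∨ Cfsg.IsWreathed (S : Subgroup G)) {z : G}
    (hzS : z ∈ (S : Subgroup G)) (hz : Cfsg.IsIsolatedInvolution z) :
    ∀ v ∈ (Subgroup.center (S : Subgroup G)).map (S : Subgroup G).subtype, ∀ g : G,
      g * v * g⁻¹ ∈ (S : Subgroup G) → g * v * g⁻¹ ∈ Subgroup.zpowers v := by
  have hzc := commute_of_isolated hz S hzS
  have huniq := (Involutions.Isolated.iff_unique_in_sylow S hz.1 hzS).1 hz
  have hz1 : (⟨z, hzS⟩ : (S : Subgroup G)) ≠ 1 := fun e =>
    Involutions.Basic.ne_one hz.1 (congrArg Subtype.val e)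
  rcases hS with hS | hS
  · obtain ⟨D⟩ := Involutions.QuasiDihedral.exists_gens hS
    intro v hv g hg
    obtain ⟨w, hw, rfl⟩ := hv
    rcases D.eq_center (s := w) (fun a => (Subgroup.mem_center_iff.1 hw a).symm) with rfl | rfl
    · simp
    · rw [show D.z = (⟨z, hzS⟩ : (S : Subgroup G)) from
        ((D.eq_center hzc).resolve_left hz1).symm] at hg ⊢
      rw [show g * (S : Subgroup G).subtype ⟨z, hzS⟩ * g⁻¹ = z from huniq g hg]
      exact Subgroup.mem_zpowers _
  · obtain ⟨D⟩ := Involutions.Wreathed.exists_gens hS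
    have hU : ¬ Involutions.WreathedFusion.UMoves D := fun hU => by
      obtain ⟨i, hi⟩ := D.mem_center.1 (Subgroup.mem_center_iff.2 fun a => (hzc a).eq.symm)
      have hi' : i = D.h := by
        refine (D.add_self.1 ?_).resolve_left fun h0 => hz1 (by rw [hi, h0, D.U_zero])
        have h := congrArg Subtype.val (show D.U i i * D.U i i = 1 by
          rw [← hi]; exact Subtype.ext (Involutions.Basic.inv_sq_one hz.1))
        rw [D.U_mul_U] at h
        exact (D.U_eq_one.1 (Subtype.ext h)).1
      obtain ⟨g, hg⟩ := isConj_iff.1 (Involutions.WreathedClasses.isConj_ι_e D hU)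
      have hι : Involutions.WreathedFusion.ι D = z := by
        rw [Involutions.WreathedFusion.ι, ← hi', ← hi]
      rw [hι] at hg
      have h := huniq g (hg ▸ (D.U D.h 0).2)
      rw [hg, ← hι] at h
      exact D.h_ne_zero (D.U_inj.1 (Subtype.ext h : D.U D.h 0 = D.U D.h D.h)).2.symm
    intro v hv g hg
    obtain ⟨w, hw, rfl⟩ := hv
    have h := Involutions.WreathedClasses.center_weakly_closed D hU (a := w) (b := ⟨_, hg⟩)
      (isConj_iff.2 ⟨g, rfl⟩) hw
    rw [show g * (S : Subgroup G).subtype w * g⁻¹ = (S : Subgroup G).subtype w from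
      congrArg Subtype.val h]
    exact Subgroup.mem_zpowers _

end Cfsg.Agent.ZStar.CenterSylowMod
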