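import Mathlib
import Cfsg.Agent.Lib.ZStar.CentralWeaklyClosed

/-!
# A strongly closed 2-subgroup centralizes the core-free subgroups it normalizes and avoids
-/

set_option autoImplicit false
set_option linter.style.haveILetI false
set_option linter.unusedSectionVars false

namespace Cfsg.Agent.ZStar.StronglyClosedCommute

universe u

variable {G : Type u} [Group G] [Finite G]

/-- A strongly closed subgroup is closed in every 2-group containing it. -/
theorem closed_in {S : Sylow 2 G} {A : Subgroup G} (hA : Cfsg.IsStronglyClosed A (S : Subgroup G))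
    {X : Subgroup G} (hX : IsPGroup 2 X) (hAX : A ≤ X) {a : G} (ha : a ∈ A) {g : G}
    (hg : g * a * g⁻¹ ∈ X) : g * a * g⁻¹ ∈ A := by
  haveI : Fact (Nat.Prime 2) := ⟨Nat.prime_two⟩
  obtain ⟨T, hT⟩ := hX.exists_le_sylow
  obtain ⟨c, hc⟩ := MulAction.exists_smul_eq G T S
  have hmem : ∀ x ∈ X, c * x * c⁻¹ ∈ (S : Subgroup G) := by
    intro x hx
    rw [← hc, ← SetLike.mem_coe, Sylow.coe_subgroup_smul]
    exact ⟨x, hT hx, rfl⟩
  have hcA : A.map (MulAut.conj c).toMonoidHom = A := by
    refine Subgroup.eq_of_le_of_card_ge ?_ ?_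
    · rintro _ ⟨x, hx, rfl⟩
      exact hA.2 x hx c (hmem x (hAX hx))
    · rw [Subgroup.card_map_of_injective (MulAut.conj c).injective]
  have h1 : c * g * a * (c * g)⁻¹ ∈ A := hA.2 a ha (c * g) (by
    rw [show c * g * a * (c * g)⁻¹ = c * (g * a * g⁻¹) * c⁻¹ by group]
    exact hmem _ hg)
  rw [← hcA] at h1
  obtain ⟨y, hy, hye⟩ := h1
  have : y = g * a * g⁻¹ := by
    have e : c * y * c⁻¹ = c * g * a * (c * g)⁻¹ := hye
    calc y = c⁻¹ * (c * y * c⁻¹) * c := by group
      _ = g * a * g⁻¹ := by rw [e]; group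
  exact this ▸ hy

theorem le_centralizer (S : Sylow 2 G) (A : Subgroup G)
    (hA : Cfsg.IsStronglyClosed A (S : Subgroup G)) (H : Subgroup G)
    (hAH : A ≤ Subgroup.normalizer (H : Set G)) (hO : Cfsg.oddCore ↥H = ⊥) (hdisj : A ⊓ H = ⊥) :
    A ≤ Subgroup.centralizer (H : Set G) := by
  haveI : Fact (Nat.Prime 2) := ⟨Nat.prime_two⟩
  have hdis : Disjoint H A := by rw [disjoint_comm, disjoint_iff, hdisj]
  have hAp : IsPGroup 2 A := S.2.to_le hA.1
  -- a Sylow subgroup of `L = H A` containing `A`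
  set L := H ⊔ A with hL
  have hLN : L ≤ Subgroup.normalizer (H : Set G) := sup_le Subgroup.le_normalizer hAH
  obtain ⟨R, hR⟩ := (hAp.of_equiv
    (Subgroup.subgroupOfEquivOfLe (le_sup_right : A ≤ L)).symm).exists_le_sylow
  set R' := (R : Subgroup L).map L.subtype with hR'
  have hAR : A ≤ R' := fun x hx => ⟨⟨x, Subgroup.mem_sup_right hx⟩, hR hx, rfl⟩
  have hR'p : IsPGroup 2 R' := R.2.map _
  set T := R' ⊓ H with hT
  have hTcard : Nat.card H ∣ Nat.card T * R.1.index := by
    have h1 : Nat.card R' * R.1.index = Nat.card L := by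
      rw [hR', Subgroup.card_subtype, Subgroup.card_mul_index]
    have h2 : Nat.card L = Nat.card H * Nat.card A := Coprime.card_sup_of_disjoint hAH hdis
    have h3 : Nat.card R' = Nat.card T * Nat.card A := by
      have he : T ⊔ A = R' := by
        refine le_antisymm (sup_le inf_le_left hAR) fun x hx => ?_
        have hxL : x ∈ L := Subgroup.map_subtype_le _ hx
        obtain ⟨h, hh, a, ha, rfl⟩ := (Coprime.mem_sup_of_le_normalizer hAH).1 hxL
        refine Subgroup.mul_mem_sup ⟨?_, hh⟩ ha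
        have := R'.mul_mem hx (R'.inv_mem (hAR ha))
        rwa [mul_inv_cancel_right] at this
      rw [← he]
      exact Coprime.card_sup_of_disjoint
        (le_trans (le_inf (hAR.trans Subgroup.le_normalizer) hAH)
          Subgroup.inf_normalizer_le_normalizer_inf) (hdis.mono_left inf_le_right)
    rw [h3, h2] at h1
    refine ⟨1, ?_⟩
    rw [mul_one]
    refine Nat.eq_of_mul_eq_mul_right (Nat.card_pos (α := A)) ?_
    rw [← h1]; ring
  -- `A` centralizes `T`
  have hcomm : ∀ t ∈ T, ∀ a ∈ A, Commute a t := by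
    intro t ht a ha
    have h1 := closed_in hA hR'p hAR ha (g := t)
      (R'.mul_mem (R'.mul_mem ht.1 (hAR ha)) (R'.inv_mem ht.1))
    have h2 : a⁻¹ * (t * a * t⁻¹) ∈ A ⊓ H := by
      refine ⟨A.mul_mem (A.inv_mem ha) h1, ?_⟩
      rw [show a⁻¹ * (t * a * t⁻¹) = a⁻¹ * t * a⁻¹⁻¹ * t⁻¹ by group]
      exact H.mul_mem ((Subgroup.mem_normalizer_iff.1 (hAH (A.inv_mem ha)) t).1 ht.2) (H.inv_mem ht.2)
    rw [hdisj, Subgroup.mem_bot, inv_mul_eq_one] at h2
    exact eq_mul_inv_iff_mul_eq.1 h2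
  intro a ha
  -- work in `H⟨a⟩`
  set C := Subgroup.zpowers a with hCdef
  have hCA : C ≤ A := Subgroup.zpowers_le.2 ha
  have hCN : C ≤ Subgroup.normalizer (H : Set G) := hCA.trans hAH
  set M := H ⊔ C with hM
  have hdC : Disjoint H C := hdis.mono_right hCA
  set Q := T ⊔ C with hQ
  have hQR : Q ≤ R' := sup_le inf_le_left (hCA.trans hAR)
  have hQM : Q ≤ M := sup_le (inf_le_right.trans le_sup_left) le_sup_right
  have hidx : ¬ 2 ∣ (Q.subgroupOf M).index := by
    intro h
    have h1 : Nat.card Q = Nat.card T * Nat.card C :=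
      Coprime.card_sup_of_disjoint (le_trans (le_inf ((hCA.trans hAR).trans Subgroup.le_normalizer) hCN)
        Subgroup.inf_normalizer_le_normalizer_inf) (hdC.mono_left inf_le_right)
    have h2 : Nat.card M = Nat.card H * Nat.card C := Coprime.card_sup_of_disjoint hCN hdC
    have h3 := (Q.subgroupOf M).card_mul_index
    rw [Nat.card_congr (Subgroup.subgroupOfEquivOfLe hQM).toEquiv, h1, h2] at h3
    obtain ⟨q, hq⟩ := hTcard
    refine R.not_dvd_index (h.trans ⟨q, ?_⟩)
    refine Nat.eq_of_mul_eq_mul_left (Nat.mul_pos (Nat.card_pos (α := T)) (Nat.card_pos (α := C))) ?_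
    rw [← mul_assoc, h3, mul_right_comm (Nat.card H) (Nat.card C), ← hq]; ring
  let S' : Sylow 2 M := (((hR'p.to_le hQR).comap_subtype (K := M))).toSylow hidx
  have hO' : Cfsg.oddCore M = ⊥ := by
    rw [Subgroup.eq_bot_iff_forall]
    intro x hx
    haveI : (H.subgroupOf M).Normal :=
      Subgroup.normal_subgroupOf_of_le_normalizer (sup_le Subgroup.le_normalizer hCN)
    have hxo : Odd (orderOf x) := (InvChar.Core.odd_card_oddCore (G := M)).of_dvd_nat
      ((Cfsg.oddCore M).orderOf_dvd_natCard hx)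
    have hHM : (Cfsg.oddCore M) ≤ H.subgroupOf M := by
      intro y hy
      have hyo : Odd (orderOf y) := (InvChar.Core.odd_card_oddCore (G := M)).of_dvd_nat
        ((Cfsg.oddCore M).orderOf_dvd_natCard hy)
      obtain ⟨k, hk⟩ := (IsPGroup.iff_card.1 (hAp.to_le hCA))
      have hi : (H.subgroupOf M).index = 2 ^ k := by
        have h3 := (H.subgroupOf M).card_mul_index
        rw [Nat.card_congr (Subgroup.subgroupOfEquivOfLe (le_sup_left : H ≤ M)).toEquiv,
          Coprime.card_sup_of_disjoint hCN hdC, hk] at h3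
        exact Nat.eq_of_mul_eq_mul_left (Nat.card_pos (α := H)) h3
      have hmem := (H.subgroupOf M).pow_index_mem y
      rw [hi] at hmem
      obtain ⟨j, hj⟩ := exists_pow_eq_self_of_coprime (x := y) (n := 2 ^ k)
        ((Nat.coprime_two_left.2 hyo).pow_left k)
      exact hj ▸ pow_mem hmem j
    have hN : (Cfsg.oddCore M).map M.subtype ≤ H := by
      rintro _ ⟨y, hy, rfl⟩
      exact hHM hy
    set N := ((Cfsg.oddCore M).map M.subtype).subgroupOf H with hNdef
    have hNn : N.Normal := ⟨fun y hy h => by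
      obtain ⟨y', hy', hye⟩ := Subgroup.mem_subgroupOf.1 hy
      refine Subgroup.mem_subgroupOf.2 ⟨⟨h, Subgroup.mem_sup_left h.2⟩ * y' *
        ⟨h, Subgroup.mem_sup_left h.2⟩⁻¹, Main.oddCore_normal.conj_mem y' hy' _, ?_⟩
      rw [map_mul, map_mul, map_inv, hye]
      rfl⟩
    have hNodd : Odd (Nat.card N) := by
      rw [Nat.card_congr (Subgroup.subgroupOfEquivOfLe hN).toEquiv,
        Subgroup.card_map_of_injective M.subtype_injective]
      exact InvChar.Core.odd_card_oddCore
    have hNbot : N = ⊥ := le_bot_iff.1 (hO ▸ InvChar.Core.le_oddCore hNn hNodd)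
    have : (⟨(x : G), hN ⟨x, hx, rfl⟩⟩ : H) ∈ N := Subgroup.mem_subgroupOf.2 ⟨x, hx, rfl⟩
    rw [hNbot, Subgroup.mem_bot] at this
    exact Subtype.ext (by simpa using congrArg Subtype.val this)
  have haM : a ∈ M := Subgroup.mem_sup_right (Subgroup.mem_zpowers a)
  have hQT : ∀ q ∈ Q, Commute a q := by
    have : Q ≤ Subgroup.centralizer ({a} : Set G) := sup_le
      (fun t ht => Subgroup.mem_centralizer_singleton_iff.2 (hcomm t ht a ha).eq.symm)
      (Subgroup.zpowers_le.2 (Subgroup.mem_centralizer_singleton_iff.2 rfl))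
    exact fun q hq => (Subgroup.mem_centralizer_singleton_iff.1 (this hq)).symm
  have hcen := CentralWeaklyClosed.mem_center hO' S' ⟨a, haM⟩
    (show (⟨a, haM⟩ : M) ∈ Q.subgroupOf M from Subgroup.mem_sup_right (Subgroup.mem_zpowers a))
    (fun s hs => Subtype.ext (hQT s hs)) (fun v hv g hg => by
      have hvC : (v : G) ∈ C := by
        obtain ⟨i, rfl⟩ := Subgroup.mem_zpowers_iff.1 hv
        exact ⟨i, by simp⟩
      obtain ⟨h, hh, c, hc, hhc⟩ := (Coprime.mem_sup_of_le_normalizer hCN).1 g.2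
      have hvg : (g : G) * v * (g : G)⁻¹ = h * v * h⁻¹ := by
        obtain ⟨i, hi⟩ := Subgroup.mem_zpowers_iff.1 hc
        obtain ⟨l, hl⟩ := Subgroup.mem_zpowers_iff.1 hvC
        rw [← hhc, ← hi, ← hl]
        group
      have h1 := closed_in hA hR'p hAR (hCA hvC) (g := g) (hQR hg)
      have h2 : (v : G)⁻¹ * ((g : G) * v * (g : G)⁻¹) ∈ A ⊓ H := by
        refine ⟨A.mul_mem (A.inv_mem (hCA hvC)) h1, ?_⟩
        rw [hvg, show (v : G)⁻¹ * (h * v * h⁻¹) = (v : G)⁻¹ * h * (v : G)⁻¹⁻¹ * h⁻¹ by group]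
        exact H.mul_mem ((Subgroup.mem_normalizer_iff.1 (hAH (A.inv_mem (hCA hvC))) h).1 hh)
          (H.inv_mem hh)
      rw [hdisj, Subgroup.mem_bot, inv_mul_eq_one] at h2
      rw [show g * v * g⁻¹ = v from Subtype.ext h2.symm]
      exact Subgroup.mem_zpowers v)
  refine Subgroup.mem_centralizer_iff.2 fun h hh => ?_
  exact congrArg Subtype.val (Subgroup.mem_center_iff.1 hcen ⟨h, Subgroup.mem_sup_left hh⟩)

end Cfsg.Agent.ZStar.StronglyClosedCommute
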