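import Mathlib
import Cfsg.Prelude.Def_Solvable
import Cfsg.Agent.Lib.Cores.Basic
import Cfsg.Agent.Lib.ZStar.InvariantSylow

/-!
# Involutions whose conjugate products are `p`-elements
-/

set_option autoImplicit false
set_option linter.style.haveILetI false

namespace Cfsg.Agent.ZStar.OddProduct

universe u

variable {G : Type u} [Group G] [Finite G]

theorem isolated {p : ℕ} (hp : p.Prime) (hp2 : p ≠ 2) {d : G} (hd : orderOf d = 2)
    (hprod : ∀ a ∈ conjugatesOf d, ∀ b ∈ conjugatesOf d, ∃ k : ℕ, orderOf (a * b) = p ^ k) :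
    Cfsg.IsIsolatedInvolution d := by
  refine ⟨hd, fun g hg => ?_⟩
  set b := g * d * g⁻¹ with hb
  have hd2 : d * d = 1 := by rw [← pow_two, ← hd, pow_orderOf_eq_one]
  have hb2 : b * b = 1 := by
    rw [hb, show g * d * g⁻¹ * (g * d * g⁻¹) = g * (d * d) * g⁻¹ by group, hd2, mul_one,
      mul_inv_cancel]
  obtain ⟨k, hk⟩ := hprod d mem_conjugatesOf_self b (isConj_iff.2 ⟨g, rfl⟩)
  have h2 : (d * b) ^ 2 = 1 := by rw [hg.mul_pow, pow_two, pow_two, hd2, hb2, one_mul]
  have h1 : d * b = 1 := orderOf_eq_one_iff.1 (Nat.eq_one_of_dvd_coprimes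
    (Nat.coprime_two_right.2 ((hp.odd_of_ne_two hp2).pow)) (dvd_of_eq hk)
    (orderOf_dvd_of_pow_eq_one h2))
  calc b = d * d * b := by rw [hd2, one_mul]
    _ = d := by rw [mul_assoc, h1, mul_one]

theorem product_mem_pCore {p : ℕ} (hp : p.Prime) (hp2 : p ≠ 2) {d : G} (hd : orderOf d = 2)
    (hprod : ∀ a ∈ conjugatesOf d, ∀ b ∈ conjugatesOf d, ∃ k : ℕ, orderOf (a * b) = p ^ k) :
    ∀ a ∈ conjugatesOf d, ∀ b ∈ conjugatesOf d, a * b ∈ Cfsg.pCore p G := by
  haveI := Fact.mk hp
  have hiso := isolated hp hp2 hd hprod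
  set O := Cfsg.oddCore G with hO
  have hdinv : d⁻¹ = d := inv_eq_of_mul_eq_one_left (by rw [← pow_two, ← hd, pow_orderOf_eq_one])
  set C := (Subgroup.centralizer ({d} : Set G)).subgroupOf O with hC
  -- the index of the fixed points is a power of `p`
  have hfix : ∀ q : ℕ, q.Prime → q ≠ p → ¬ q ∣ C.index := by
    intro q hq hqp hdvd
    haveI := Fact.mk hq
    obtain ⟨Q, hQ⟩ := Coprime.exists_invariant_sylow q (A := Subgroup.zpowers d) (K := O)
      Subgroup.le_normalizer_of_normal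
      (InvariantSylow.card_zpowers_coprime hd InvChar.Core.odd_card_oddCore)
      (Or.inl (Coprime.isSolvable_of_isMulCommutative _))
    have hle : (Q : Subgroup O) ≤ C := by
      intro u hu
      rw [hC, Subgroup.mem_subgroupOf, Subgroup.mem_centralizer_singleton_iff]
      set w := (u : G) * d * (u : G)⁻¹ * d with hw
      obtain ⟨k, hk⟩ := hprod _ (isConj_iff.2 ⟨(u : G), rfl⟩) d mem_conjugatesOf_self
      have hwQ : w ∈ (Q : Subgroup O).map O.subtype := by
        have h1 : d * (u : G)⁻¹ * d⁻¹ ∈ (Q : Subgroup O).map O.subtype :=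
          (Subgroup.mem_normalizer_iff.1 (hQ (Subgroup.mem_zpowers d)) _).1
            (inv_mem ⟨u, hu, rfl⟩)
        rw [hdinv] at h1
        have h2 := mul_mem (⟨u, hu, rfl⟩ : (u : G) ∈ (Q : Subgroup O).map O.subtype) h1
        rwa [hw, show (u : G) * d * (u : G)⁻¹ * d = (u : G) * (d * (u : G)⁻¹ * d) by group]
      obtain ⟨l, hl⟩ := IsPGroup.iff_orderOf.1 (Q.2.map O.subtype) ⟨w, hwQ⟩
      rw [← Subgroup.orderOf_coe] at hl
      have hw1 : w = 1 := orderOf_eq_one_iff.1 (Nat.eq_one_of_dvd_coprimes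
        (Nat.Coprime.pow l k ((Nat.coprime_primes hq hp).2 hqp)) (dvd_of_eq hl) (dvd_of_eq hk))
      rw [hw, mul_eq_one_iff_eq_inv, hdinv, mul_inv_eq_iff_eq_mul] at hw1
      exact hw1
    exact Q.not_dvd_index (hdvd.trans (Subgroup.index_dvd_of_le hle))
  obtain ⟨P, hP⟩ := Coprime.exists_invariant_sylow p (A := Subgroup.zpowers d) (K := O)
    Subgroup.le_normalizer_of_normal
    (InvariantSylow.card_zpowers_coprime hd InvChar.Core.odd_card_oddCore)
    (Or.inl (Coprime.isSolvable_of_isMulCommutative _))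
  have hidx : ∃ n, C.index = p ^ n :=
    ⟨_, Nat.eq_prime_pow_of_unique_prime_dvd Subgroup.index_ne_zero_of_finite
      fun {q} hq hdvd => by_contra fun hne => hfix q hq hne hdvd⟩
  have hsurj : ∀ o : O, ∃ u ∈ (P : Subgroup O), u⁻¹ * o ∈ C := by
    have hrel : C.index ≤ C.relIndex P := by
      obtain ⟨a, ha⟩ := (P.2.to_le (inf_le_right : C ⊓ P ≤ P)).exists_card_eq
      obtain ⟨n, hn⟩ := hidx
      have h1 : Nat.card (C ⊓ P : Subgroup O) * C.index ∣ Nat.card O := by
        rw [← C.card_mul_index]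
        exact Nat.mul_dvd_mul_right (Subgroup.card_dvd_of_le inf_le_left) _
      have h2 : Nat.card (C ⊓ P : Subgroup O) * C.index ≤ Nat.card P := by
        refine Nat.le_of_dvd Nat.card_pos ?_
        rw [ha, hn, ← pow_add, P.card_eq_multiplicity] at *
        exact Nat.pow_dvd_pow p ((hp.pow_dvd_iff_le_factorization Nat.card_pos.ne').1 h1)
      rw [← Subgroup.relIndex_bot_left (P : Subgroup O),
        ← Subgroup.relIndex_mul_relIndex ⊥ (C ⊓ P) (P : Subgroup O) bot_le inf_le_right,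
        Subgroup.relIndex_bot_left, Subgroup.inf_relIndex_right] at h2
      exact Nat.le_of_mul_le_mul_left h2 Nat.card_pos
    let f : (P : Subgroup O) ⧸ C.subgroupOf P → O ⧸ C :=
      Quotient.map' Subtype.val fun a b h => by
        rw [QuotientGroup.leftRel_apply] at h ⊢
        exact h
    have hinj : Function.Injective f := by
      intro a b h
      induction a using Quotient.inductionOn'
      induction b using Quotient.inductionOn'
      simp only [f, Quotient.map'_mk''] at h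
      refine Quotient.sound' ?_
      rw [QuotientGroup.leftRel_apply]
      have h' := Quotient.exact' h
      rw [QuotientGroup.leftRel_apply] at h'
      exact h'
    have hbij : Function.Surjective f := by
      haveI := Fintype.ofFinite ((P : Subgroup O) ⧸ C.subgroupOf P)
      haveI := Fintype.ofFinite (O ⧸ C)
      refine ((Fintype.bijective_iff_injective_and_card f).2 ⟨hinj, le_antisymm
        (Fintype.card_le_of_injective f hinj) ?_⟩).2
      rw [← Nat.card_eq_fintype_card, ← Nat.card_eq_fintype_card]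
      exact hrel
    intro o
    obtain ⟨u, hu⟩ := hbij (QuotientGroup.mk o)
    induction u using Quotient.inductionOn' with
    | h u =>
      simp only [f, Quotient.map'_mk''] at hu
      exact ⟨u, u.2, QuotientGroup.eq.1 hu⟩
  set P' := (P : Subgroup O).map O.subtype with hP'
  have hconj : ∀ a ∈ conjugatesOf d, ∃ u ∈ P', a = u * d * u⁻¹ := by
    intro a ha
    obtain ⟨g, rfl⟩ := isConj_iff.1 ha
    obtain ⟨o, ho, c, hc, rfl⟩ : ∃ o ∈ O, ∃ c ∈ Subgroup.centralizer ({d} : Set G), o * c = g :=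
      Subgroup.mem_sup_of_normal_left.1
        (InvariantSylow.oddCore_sup_centralizer hiso ▸ Subgroup.mem_top g)
    obtain ⟨u, hu, huo⟩ := hsurj ⟨o, ho⟩
    refine ⟨u, ⟨u, hu, rfl⟩, ?_⟩
    have h1 := mul_mem (Subgroup.mem_subgroupOf.1 huo) hc
    rw [Subgroup.mem_centralizer_singleton_iff] at h1
    simp only [Subgroup.coe_mul, Subgroup.coe_inv] at h1
    calc o * c * d * (o * c)⁻¹ = (u : G) * (((u : G)⁻¹ * o * c) * d) * (o * c)⁻¹ := by group
      _ = (u : G) * d * (u : G)⁻¹ := by rw [h1]; group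
  set N := Subgroup.closure {x : G | ∃ a ∈ conjugatesOf d, ∃ b ∈ conjugatesOf d, a * b = x}
  have hNP : N ≤ P' := by
    rw [Subgroup.closure_le]
    rintro _ ⟨a, ha, b, hb, rfl⟩
    obtain ⟨u, hu, rfl⟩ := hconj a ha
    obtain ⟨v, hv, rfl⟩ := hconj b hb
    have h := (Subgroup.mem_normalizer_iff.1 (hP (Subgroup.mem_zpowers d)) _).1
      (mul_mem (inv_mem hu) hv)
    have h' := mul_mem (mul_mem hu h) (inv_mem hv)
    rw [hdinv] at h'
    rwa [show u * d * u⁻¹ * (v * d * v⁻¹) = u * (d * (u⁻¹ * v) * d) * v⁻¹ by group]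
  haveI : N.Normal := by
    rw [← Subgroup.normalizer_eq_top_iff, eq_top_iff]
    refine fun g _ => Subgroup.normalizer_le_normalizer_closure _ ?_
    rw [Subgroup.mem_set_normalizer_iff]
    have key : ∀ (h x : G), (∃ a ∈ conjugatesOf d, ∃ b ∈ conjugatesOf d, a * b = x) →
        ∃ a ∈ conjugatesOf d, ∃ b ∈ conjugatesOf d, a * b = h * x * h⁻¹ := by
      rintro h x ⟨a, ha, b, hb, rfl⟩
      exact ⟨h * a * h⁻¹, (show IsConj d a from ha).trans (isConj_iff.2 ⟨h, rfl⟩),
        h * b * h⁻¹, (show IsConj d b from hb).trans (isConj_iff.2 ⟨h, rfl⟩), by group⟩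
    exact fun x => ⟨key g x, fun hx => by simpa [mul_assoc] using key g⁻¹ _ hx⟩
  intro a ha b hb
  exact Cores.le_pCore ((P.2.map O.subtype).to_le hNP)
    (Subgroup.subset_closure ⟨a, ha, b, hb, rfl⟩)

end Cfsg.Agent.ZStar.OddProduct
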