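import Mathlib
import Cfsg.Prelude.Def_PLocal
import Cfsg.Agent.Lib.ZStar.Main
import Cfsg.Agent.Lib.PLocal.Cores
import Cfsg.Agent.Lib.Blocks.SectionNorm
import Cfsg.Agent.BlocksChars.SectionOrth
import Cfsg.Agent.Lib.CharTheory.Blocks.Degrees

/-!
# A non-simplicity criterion by weak closure

Let `W ≤ Z(T)` be weakly closed in the Sylow 2-subgroup `T` and `t` an involution of `T` outside
`W`. If for every involution `e` of the coset `W t` the subgroup `W` lies in `O_{2',2}(C(e))`,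
then the product of such an involution with a conjugate of an involution `w` of `W` lies, up to
conjugation, in `e O(C(e))` for some `e` in the coset. The principal 2-block characters then give
that no group with these data is simple.
-/

set_option autoImplicit false
set_option linter.style.haveILetI false
set_option linter.unusedSectionVars false

namespace Cfsg.Agent.ZStar.CosetWeakClosure

open Cfsg.Agent.Blocks Cfsg.Agent.Characters
open Cfsg.Agent.ZStar.Principal (value_mul_of_mem)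
open scoped ComplexConjugate

universe u

variable {G : Type u} [Group G] [Finite G]

local instance : Fact (Nat.Prime 2) := ⟨Nat.prime_two⟩

/-- The hypotheses on `T` and `W`. -/
structure Data (T : Sylow 2 G) (W : Subgroup G) : Prop where
  le : W ≤ (T : Subgroup G)
  comm : ∀ w ∈ W, ∀ s ∈ (T : Subgroup G), Commute w s
  wc : Cfsg.IsWeaklyClosed W (T : Subgroup G)

variable {T : Sylow 2 G} {W : Subgroup G}

/-- The involutions of the coset `W t`. -/
def IsX (W : Subgroup G) (t e : G) : Prop := ∃ v ∈ W, e = v * t ∧ orderOf e = 2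

namespace Data

variable (D : Data T W)
include D

theorem isPGroup : IsPGroup 2 ↥W := T.2.to_le D.le

theorem mem_normalizer {k : G} (h : ∀ w ∈ W, k * w * k⁻¹ ∈ (T : Subgroup G)) :
    k ∈ Subgroup.normalizer (W : Set G) := by
  have hle : W.map (MulAut.conj k).toMonoidHom ≤ (T : Subgroup G) := by
    rintro _ ⟨w, hw, rfl⟩
    exact h w hw
  have he := D.wc.2 k hle
  rw [Subgroup.mem_normalizer_iff]
  intro w
  constructor
  · intro hw
    rw [← he]
    exact ⟨w, hw, rfl⟩
  · intro hw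
    rw [← he] at hw
    obtain ⟨y, hy, hye⟩ := hw
    have hyw : y = w := (MulAut.conj k).injective hye
    rwa [← hyw]

/-- Inside a 2-subgroup of `G` only `W` is a conjugate of `W`. -/
theorem mem_normalizer_of_isPGroup {R : Subgroup G} (hR : IsPGroup 2 ↥R) (hWR : W ≤ R) {k : G}
    (h : ∀ w ∈ W, k * w * k⁻¹ ∈ R) : k ∈ Subgroup.normalizer (W : Set G) := by
  obtain ⟨Q, hQ⟩ := hR.exists_le_sylow
  obtain ⟨a, ha⟩ := MulAction.exists_smul_eq G Q T
  have hmem : ∀ r ∈ R, a * r * a⁻¹ ∈ (T : Subgroup G) := fun r hr => by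
    rw [← ha, ← SetLike.mem_coe, Sylow.coe_subgroup_smul]
    exact ⟨r, hQ hr, rfl⟩
  have h1 : a ∈ Subgroup.normalizer (W : Set G) :=
    D.mem_normalizer fun w hw => hmem w (hWR hw)
  have h2 : a * k ∈ Subgroup.normalizer (W : Set G) := D.mem_normalizer fun w hw => by
    have := hmem _ (h w hw)
    rw [show a * k * w * (a * k)⁻¹ = a * (k * w * k⁻¹) * a⁻¹ by group]
    exact this
  have h3 := Subgroup.mul_mem _ (Subgroup.inv_mem _ h1) h2
  rwa [inv_mul_cancel_left] at h3

/-- Conjugates of `W` lying in a subgroup `H` containing `W` are conjugate to it inside `H`. -/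
theorem exists_conj_in {H : Subgroup G} (hW : W ≤ H) {g : G}
    (hg : ∀ w ∈ W, g * w * g⁻¹ ∈ H) :
    ∃ h ∈ H, h⁻¹ * g ∈ Subgroup.normalizer (W : Set G) := by
  have hW' : IsPGroup 2 ↥(W.subgroupOf H) :=
    D.isPGroup.comap_of_injective H.subtype H.subtype_injective
  obtain ⟨P, hP⟩ := hW'.exists_le_sylow
  set V := W.map (MulAut.conj g).toMonoidHom
  have hVH : V ≤ H := by
    rintro _ ⟨w, hw, rfl⟩
    exact hg w hw
  have hV' : IsPGroup 2 ↥(V.subgroupOf H) :=
    (D.isPGroup.map (MulAut.conj g).toMonoidHom).comap_of_injective H.subtype H.subtype_injective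
  obtain ⟨Q, hQ⟩ := hV'.exists_le_sylow
  obtain ⟨h, hh⟩ := MulAction.exists_smul_eq ↥H Q P
  refine ⟨(h : G)⁻¹, inv_mem h.2, ?_⟩
  rw [inv_inv]
  refine D.mem_normalizer_of_isPGroup (R := (P : Subgroup ↥H).map H.subtype) (P.2.map _) ?_ ?_
  · intro w hw
    exact ⟨⟨w, hW hw⟩, hP hw, rfl⟩
  · intro w hw
    have hv : g * w * g⁻¹ ∈ V := ⟨w, hw, rfl⟩
    have hq : (⟨g * w * g⁻¹, hVH hv⟩ : ↥H) ∈ (Q : Subgroup ↥H) := hQ hv
    refine ⟨h * ⟨g * w * g⁻¹, hVH hv⟩ * h⁻¹, ?_, ?_⟩
    · rw [← hh, Sylow.coe_subgroup_smul]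
      exact ⟨_, hq, rfl⟩
    · simp [mul_assoc]

/-- A conjugate of an element of `W` centralizing `W` lies in `W`. -/
theorem conj_mem {w g : G} (hw : w ∈ W) (hc : ∀ v ∈ W, Commute (g * w * g⁻¹) v) :
    g * w * g⁻¹ ∈ W := by
  set H := Subgroup.centralizer ({g * w * g⁻¹} : Set G) with hH
  have hWH : W ≤ H := fun v hv => Subgroup.mem_centralizer_singleton_iff.2 (hc v hv).symm.eq
  have hgH : ∀ v ∈ W, g * v * g⁻¹ ∈ H := fun v hv =>
    Subgroup.mem_centralizer_singleton_iff.2
      ((D.comm v hv w (D.le hw)).map (MulAut.conj g).toMonoidHom).eq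
  obtain ⟨h, hh, hn⟩ := D.exists_conj_in hWH hgH
  have h1 := (Subgroup.mem_normalizer_iff.1 hn w).1 hw
  have hh' : h * (g * w * g⁻¹) = (g * w * g⁻¹) * h := Subgroup.mem_centralizer_singleton_iff.1 hh
  have h2 : h⁻¹ * g * w * (h⁻¹ * g)⁻¹ = g * w * g⁻¹ := by
    calc h⁻¹ * g * w * (h⁻¹ * g)⁻¹ = h⁻¹ * ((g * w * g⁻¹) * h) := by group
      _ = g * w * g⁻¹ := by rw [← hh', inv_mul_cancel_left]
  rwa [h2] at h1

/-- `N(W)` controls fusion in `C(W)`. -/
theorem exists_normalizer_conj {x g : G} (hx : ∀ v ∈ W, Commute x v)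
    (hc : ∀ v ∈ W, Commute (g * x * g⁻¹) v) :
    ∃ n ∈ Subgroup.normalizer (W : Set G), n * x * n⁻¹ = g * x * g⁻¹ := by
  set H := Subgroup.centralizer ({g * x * g⁻¹} : Set G) with hH
  have hWH : W ≤ H := fun v hv => Subgroup.mem_centralizer_singleton_iff.2 (hc v hv).symm.eq
  have hgH : ∀ v ∈ W, g * v * g⁻¹ ∈ H := fun v hv =>
    Subgroup.mem_centralizer_singleton_iff.2
      ((hx v hv).symm.map (MulAut.conj g).toMonoidHom).eq
  obtain ⟨h, hh, hn⟩ := D.exists_conj_in hWH hgH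
  refine ⟨h⁻¹ * g, hn, ?_⟩
  have hh' : h * (g * x * g⁻¹) = (g * x * g⁻¹) * h := Subgroup.mem_centralizer_singleton_iff.1 hh
  calc h⁻¹ * g * x * (h⁻¹ * g)⁻¹ = h⁻¹ * ((g * x * g⁻¹) * h) := by group
    _ = g * x * g⁻¹ := by rw [← hh', inv_mul_cancel_left]

theorem commute_of_isX {t e : G} (ht : t ∈ (T : Subgroup G)) (he : IsX W t e) :
    e ∈ (T : Subgroup G) ∧ ∀ v ∈ W, Commute e v := by
  obtain ⟨v, hv, rfl, -⟩ := he
  have heT := mul_mem (D.le hv) ht
  exact ⟨heT, fun v' hv' => (D.comm v' hv' _ heT).symm⟩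

end Data

theorem not_mem_of_isX {t e : G} (htW : t ∉ W) (he : IsX W t e) : e ∉ W := by
  obtain ⟨v, hv, rfl, -⟩ := he
  intro h
  exact htW ((Subgroup.mul_mem_cancel_left W hv).1 h)

/-- The product of an involution of the coset with a conjugate of an involution of `W`. -/
theorem exists_value {M : Ideal Cfsg.AlgInt} (hM : Cfsg.IsPModular 2 M) (D : Data T W) {t : G}
    (htT : t ∈ (T : Subgroup G)) (htW : t ∉ W)
    (hcos : ∀ w ∈ W, orderOf (w * t) = 2 →
      W.subgroupOf (Subgroup.centralizer ({w * t} : Set G)) ≤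
        Cfsg.pPrimePCore 2 ↥(Subgroup.centralizer ({w * t} : Set G)))
    {x w : G} (hx : IsX W t x) (hw : w ∈ W) (hwo : orderOf w = 2) (g : G) :
    ∃ e, IsX W t e ∧ ∀ χ : Cfsg.IrrCharacter G, χ ∈ Cfsg.principalBlock M G →
      (χ : G → ℂ) (x * (g * w * g⁻¹)) = (χ : G → ℂ) e := by
  obtain ⟨hxT, hxW⟩ := D.commute_of_isX htT hx
  have hxnW := not_mem_of_isX htW hx
  obtain ⟨v, hv, hxv, hxo⟩ := hx
  set w' := g * w * g⁻¹ with hw'
  have hw'o : orderOf w' = 2 := by rw [hw', Involutions.Basic.orderOf_conj, hwo]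
  have hnc : ¬ IsConj x w' := by
    intro h
    obtain ⟨a, ha⟩ := isConj_iff.1 h
    have hxg : x = (a⁻¹ * g) * w * (a⁻¹ * g)⁻¹ := by
      calc x = a⁻¹ * (a * x * a⁻¹) * a := by group
        _ = (a⁻¹ * g) * w * (a⁻¹ * g)⁻¹ := by rw [ha, hw']; group
    exact hxnW (hxg ▸ D.conj_mem hw (hxg ▸ hxW))
  have heven := Involutions.Basic.even_orderOf_mul_of_not_isConj hxo hw'o hnc
  set q := x * w' with hq
  obtain ⟨k, l, hl, hn⟩ :=
    Nat.exists_eq_pow_mul_and_not_dvd (orderOf_pos q).ne' 2 (by norm_num)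
  have hl' : Odd l := Nat.not_even_iff_odd.1 fun h => hl (even_iff_two_dvd.1 h)
  obtain ⟨s, hs⟩ := hl'
  set u := q ^ l with hu
  have huo : orderOf u = 2 ^ k := by
    rw [hu, orderOf_pow' _ (by omega : l ≠ 0), hn, Nat.gcd_eq_right (Dvd.intro_left _ rfl),
      Nat.mul_div_cancel _ (by omega : 0 < l)]
  set b := x * u with hb
  have hxx : x * x = 1 := Involutions.Basic.inv_sq_one hxo
  -- `b` is a conjugate of `w'`
  have hbconj : b = (q ^ s)⁻¹ * w' * q ^ s := by
    have h1 := Involutions.Basic.zpow_mul_left hxo hw'o (-(s : ℤ))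
    rw [← hq, neg_neg, zpow_neg, zpow_natCast] at h1
    have h2 : w' = x * q := by rw [hq, ← mul_assoc, hxx, one_mul]
    calc b = x * q ^ l := rfl
      _ = x * (q ^ s * q * q ^ s) := by
          rw [← pow_succ, ← pow_add]; congr 2; omega
      _ = ((q ^ s)⁻¹ * x) * q * q ^ s := by rw [h1]; group
      _ = (q ^ s)⁻¹ * w' * q ^ s := by rw [h2]; group
  have hbo : orderOf b = 2 := by
    rw [hbconj, ← hw'o]
    have := Involutions.Basic.orderOf_conj (q ^ s)⁻¹ w'
    rwa [inv_inv] at this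
  -- the dihedral 2-group generated by `x` and `b`
  have hxb : x * b = u := by rw [hb, ← mul_assoc, hxx, one_mul]
  have hP : IsPGroup 2 ↥(Subgroup.closure ({x, b} : Set G)) := by
    intro y
    refine ⟨k + 1, ?_⟩
    apply Subtype.ext
    push_cast
    obtain ⟨i, hi | hi⟩ := (Involutions.Basic.mem_closure_pair hxo hbo).mp y.2
    · rw [hi, hxb, pow_succ, pow_mul, ← zpow_natCast (u ^ i), ← zpow_mul, mul_comm i,
        zpow_mul, zpow_natCast, ← huo, pow_orderOf_eq_one, one_zpow, one_pow]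
    · rw [hi, pow_succ', pow_mul, pow_two, Involutions.Basic.sq_of_mul_zpow hxo hbo i, one_pow]
  obtain ⟨Q, hQ⟩ := hP.exists_le_sylow
  obtain ⟨c, hc⟩ := MulAction.exists_smul_eq G Q T
  have hmem : ∀ r ∈ Subgroup.closure ({x, b} : Set G), c * r * c⁻¹ ∈ (T : Subgroup G) :=
    fun r hr => by
      rw [← hc, ← SetLike.mem_coe, Sylow.coe_subgroup_smul]
      exact ⟨r, hQ hr, rfl⟩
  have hcx : c * x * c⁻¹ ∈ (T : Subgroup G) :=
    hmem x (Subgroup.subset_closure (Set.mem_insert _ _))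
  have hcb : c * b * c⁻¹ ∈ (T : Subgroup G) :=
    hmem b (Subgroup.subset_closure (Set.mem_insert_of_mem _ rfl))
  have hb0 : c * b * c⁻¹ ∈ W := by
    have he : c * b * c⁻¹ = (c * (q ^ s)⁻¹ * g) * w * (c * (q ^ s)⁻¹ * g)⁻¹ := by
      rw [hbconj, hw']; group
    rw [he]
    exact D.conj_mem hw fun v' hv' => (D.comm v' hv' _ (he ▸ hcb)).symm
  have hxbc : Commute x b := by
    have h1 := ((D.comm _ hb0 _ hcx).map (MulAut.conj c⁻¹).toMonoidHom).symm
    simpa [mul_assoc] using h1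
  have hk1 : k = 1 := by
    have h1 : orderOf u ∣ 2 := orderOf_dvd_of_pow_eq_one (by
      rw [← hxb, pow_two, hxbc.symm.mul_mul_mul_comm, hxx,
        Involutions.Basic.inv_sq_one hbo, one_mul])
    rw [huo] at h1
    have hk0 : k ≠ 0 := fun h0 => by
      rw [h0, pow_zero, one_mul] at hn
      exact hl (hn ▸ even_iff_two_dvd.1 heven)
    have := Nat.le_of_dvd (by norm_num) h1
    have : 2 ^ k ≤ 2 ^ 1 := by simpa using this
    have := (Nat.pow_le_pow_iff_right (by norm_num : 1 < 2)).1 this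
    omega
  rw [hk1, pow_one] at huo hn
  obtain ⟨m, hm, hmx⟩ := D.exists_normalizer_conj hxW
    (fun v' hv' => (D.comm v' hv' _ hcx).symm)
  -- `a` centralizes `x` and moves `b` into `W`
  set a := c⁻¹ * m with ha
  have hax : a⁻¹ * x * a = x := by
    calc a⁻¹ * x * a = m⁻¹ * (c * x * c⁻¹) * m := by rw [ha]; group
      _ = x := by rw [← hmx]; group
  set v' := a⁻¹ * b * a with hv'
  have hv'W : v' ∈ W := by
    have h1 := (Subgroup.mem_normalizer_iff.1 (Subgroup.inv_mem _ hm) _).1 hb0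
    convert h1 using 1
    rw [hv', ha]
    group
  set e := a⁻¹ * u * a with he
  have heo : orderOf e = 2 := by
    rw [he, ← huo]
    have := Involutions.Basic.orderOf_conj a⁻¹ u
    rwa [inv_inv] at this
  have hexv : e = x * v' := by
    calc e = a⁻¹ * (x * b) * a := by rw [hxb]
      _ = (a⁻¹ * x * a) * (a⁻¹ * b * a) := by group
      _ = x * v' := by rw [hax]
  have het : e = (v * v') * t := by
    rw [hexv, hxv, mul_assoc, mul_assoc, (D.comm v' hv'W t htT).eq]
  have heX : IsX W t e := ⟨v * v', mul_mem hv hv'W, het, heo⟩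
  refine ⟨e, heX, fun χ hχ => ?_⟩
  -- conjugate the product into the centralizer of `e`
  set q' := a⁻¹ * q * a with hq'
  have hq'e : q' ^ l = e := by
    have h := conj_pow (i := l) (a := a⁻¹) (b := q)
    rw [inv_inv] at h
    exact h
  have hq'2 : q' ^ (2 * l) = 1 := by
    rw [mul_comm, pow_mul, hq'e, pow_two, Involutions.Basic.inv_sq_one heo]
  set d := q' ^ (l + 1) with hd
  have hed : e * d = q' := by
    rw [hd, ← hq'e, ← pow_add, show l + (l + 1) = 2 * l + 1 by omega, pow_succ, hq'2, one_mul]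
  have hdl : d ^ l = 1 := by
    rw [hd, ← pow_mul, show (l + 1) * l = 2 * l * (s + 1) by rw [hs]; ring, pow_mul, hq'2, one_pow]
  have hxd : x * d * x⁻¹ = d⁻¹ := by
    have h1 : x * q' * x⁻¹ = q'⁻¹ := by
      calc x * q' * x⁻¹ = (a⁻¹ * x * a) * q' * (a⁻¹ * x * a)⁻¹ := by rw [hax]
        _ = a⁻¹ * (x * q * x⁻¹) * a := by rw [hq']; group
        _ = q'⁻¹ := by rw [hq, Involutions.Basic.conj_prod_left hxo hw'o, ← hq, hq']; group
    rw [hd, ← conj_pow, h1, inv_pow]
  have hcomm_ed : Commute e d := by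
    rw [hd, ← hq'e]
    exact (Commute.refl q').pow_pow _ _
  set C := Subgroup.centralizer ({e} : Set G) with hC
  have hdC : d ∈ C := Subgroup.mem_centralizer_singleton_iff.2 hcomm_ed.symm.eq
  have hv'C : v' ∈ C :=
    Subgroup.mem_centralizer_singleton_iff.2 ((D.commute_of_isX htT heX).2 v' hv'W).symm.eq
  have hNcore : (⟨v', hv'C⟩ : ↥C) ∈ Cfsg.pPrimePCore 2 ↥C := by
    have h1 := hcos (v * v') (mul_mem hv hv'W) (het ▸ heo)
    rw [← het] at h1
    exact h1 (Subgroup.mem_subgroupOf.2 hv'W)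
  set d₀ : ↥C := ⟨d, hdC⟩ with hd₀
  set π := QuotientGroup.mk' (Cfsg.pPrimeCore 2 ↥C)
  have hd2 : d₀ ^ 2 ∈ Cfsg.pPrimePCore 2 ↥C := by
    haveI : (Cfsg.pPrimePCore 2 ↥C).Normal := PLocal.Cores.pPrimePCore_normal'
    have h1 := mul_mem hNcore
      ((inferInstance : (Cfsg.pPrimePCore 2 ↥C).Normal).conj_mem _ (inv_mem hNcore) d₀)
    have hkey : v' * (d * v'⁻¹ * d⁻¹) = d⁻¹ ^ 2 := by
      have hve : v' = x * e := by rw [hexv, ← mul_assoc, hxx, one_mul]
      calc v' * (d * v'⁻¹ * d⁻¹) = (v' * d * v'⁻¹) * d⁻¹ := by group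
        _ = (x * (e * d * e⁻¹) * x⁻¹) * d⁻¹ := by rw [hve]; group
        _ = d⁻¹ ^ 2 := by rw [hcomm_ed.eq, mul_inv_cancel_right, hxd, pow_two]
    rw [← inv_mem_iff, ← inv_pow]
    convert h1 using 1
    apply Subtype.ext
    simpa [hd₀] using hkey.symm
  have hdcore : d₀ ∈ Cfsg.pPrimePCore 2 ↥C := by
    have h1 : d₀ = (d₀ ^ 2) ^ (s + 1) := by
      rw [← pow_mul, show 2 * (s + 1) = l + 1 by omega, pow_succ,
        show d₀ ^ l = 1 from Subtype.ext (by simpa [hd₀] using hdl), one_mul]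
    rw [h1]
    exact pow_mem hd2 _
  have hdO : d₀ ∈ Cfsg.pPrimeCore 2 ↥C := by
    rw [← QuotientGroup.eq_one_iff]
    have hmem' : π d₀ ∈ Cfsg.pCore 2 (↥C ⧸ Cfsg.pPrimeCore 2 ↥C) := hdcore
    obtain ⟨j, hj⟩ := PLocal.Cores.isPGroup_pCore (p := 2) ⟨π d₀, hmem'⟩
    have h1 : orderOf (π d₀) ∣ 2 ^ j :=
      orderOf_dvd_of_pow_eq_one (by simpa using congrArg Subtype.val hj)
    have h2 : orderOf (π d₀) ∣ l := orderOf_dvd_of_pow_eq_one (by
      rw [← map_pow, show d₀ ^ l = 1 from Subtype.ext (by simpa [hd₀] using hdl), map_one])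
    exact orderOf_eq_one_iff.1 (Nat.eq_one_of_dvd_coprimes
      ((Nat.prime_two.coprime_iff_not_dvd.2 hl).pow_left j) h1 h2)
  have hodd : ¬ 2 ∣ Nat.card (Cfsg.oddCore ↥C) := by
    rw [← even_iff_two_dvd, Nat.not_even_iff_odd]
    exact InvChar.Core.odd_card_oddCore
  have hval := value_mul_of_mem hM (x := e) ⟨1, by rw [heo, pow_one]⟩ hχ hodd
    (v := d₀) hdO
  rw [← hval, show e * ((d₀ : ↥C) : G) = q' from hed, hq']
  have h := irr_isClassFunction χ q a⁻¹
  rw [inv_inv] at h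
  exact h.symm

open scoped Classical in
/-- The squares of the values of the principal block at a `p`-element add up to at least the
order of each `p`-subgroup centralizing it. -/
theorem card_le_norm {M : Ideal Cfsg.AlgInt} (hM : Cfsg.IsPModular 2 M) {H : Type u} [Group H]
    [Finite H] [Fintype (Cfsg.IrrCharacter H)] (P : Subgroup H) (hP : IsPGroup 2 ↥P) :
    (Nat.card ↥P : ℝ) ≤ ∑ χ : Cfsg.IrrCharacter H,
      if χ ∈ Cfsg.principalBlock M H then ‖(χ : H → ℂ) 1‖ ^ 2 else 0 := by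
  haveI := Fintype.ofFinite H
  haveI := Fintype.ofFinite ↥P
  have hres : ∀ χ : Cfsg.IrrCharacter H, ∃ m : ℕ,
      ∑ y : ↥P, (χ : H → ℂ) (y : H) = (Nat.card ↥P : ℂ) * (m : ℂ) := by
    intro χ
    obtain ⟨m, hm⟩ := classInner_char_nat (isCharacter_restrict P (irr_isCharacter χ))
      (isCharacter_one (G := ↥P))
    refine ⟨m, ?_⟩
    rw [← hm, classInner_def, ← mul_assoc, mul_inv_cancel₀ natCard_ne_zero, one_mul]
    exact Finset.sum_congr rfl fun y _ => by simp
  choose m hm using hres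
  have hdeg : ∀ χ : Cfsg.IrrCharacter H, ∃ n : ℕ, (χ : H → ℂ) 1 = n := fun χ =>
    char_one_nat (irr_isCharacter χ)
  choose n hn using hdeg
  have hsum : ∑ y : ↥P, ∑ χ : Cfsg.IrrCharacter H,
      (if χ ∈ Cfsg.principalBlock M H then (χ : H → ℂ) 1 * (χ : H → ℂ) (y : H) else 0) =
      ∑ χ : Cfsg.IrrCharacter H,
        (if χ ∈ Cfsg.principalBlock M H then (χ : H → ℂ) 1 * (χ : H → ℂ) 1 else 0) := by
    rw [Finset.sum_eq_single (1 : ↥P) (fun y _ hy => ?_) (fun h => absurd (Finset.mem_univ _) h)]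
    · simp
    · refine CharTheory.Blocks.sum_degree_mul_eq_zero hM (isPBlock_principal M H) ?_
      obtain ⟨j, hj⟩ := IsPGroup.iff_orderOf.1 hP y
      rw [Subgroup.orderOf_coe, hj]
      refine dvd_pow_self 2 fun hj0 => hy (orderOf_eq_one_iff.1 ?_)
      rw [hj, hj0, pow_zero]
  rw [Finset.sum_comm] at hsum
  have hsum' : ((∑ χ : Cfsg.IrrCharacter H,
      if χ ∈ Cfsg.principalBlock M H then Nat.card ↥P * (n χ * m χ) else 0 : ℕ) : ℂ) =
      ((∑ χ : Cfsg.IrrCharacter H,
        if χ ∈ Cfsg.principalBlock M H then n χ * n χ else 0 : ℕ) : ℂ) := by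
    push_cast
    refine Eq.trans (Finset.sum_congr rfl fun χ _ => ?_) (hsum.trans (Finset.sum_congr rfl
      fun χ _ => ?_))
    · split_ifs with h
      · rw [← Finset.mul_sum, hm, hn]; ring
      · simp
    · split_ifs with h
      · rw [hn]
      · rfl
  have hsum'' := Nat.cast_injective (R := ℂ) hsum'
  have h1 : Nat.card ↥P ≤ ∑ χ : Cfsg.IrrCharacter H,
      (if χ ∈ Cfsg.principalBlock M H then n χ * n χ else 0) := by
    rw [← hsum'']
    refine le_trans ?_ (Finset.single_le_sum (f := fun χ : Cfsg.IrrCharacter H =>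
      if χ ∈ Cfsg.principalBlock M H then Nat.card ↥P * (n χ * m χ) else 0)
      (fun _ _ => Nat.zero_le _) (Finset.mem_univ (trivIrr H)))
    simp only [if_pos (trivIrr_mem_principal hM)]
    refine Nat.le_mul_of_pos_right _ ?_
    have hn1 := hn (trivIrr H)
    have hm1 := hm (trivIrr H)
    simp only [trivIrr_coe, Finset.sum_const, Finset.card_univ, nsmul_eq_mul, mul_one] at hn1 hm1
    have hn1' : n (trivIrr H) = 1 := by exact_mod_cast hn1.symm
    rw [← Nat.card_eq_fintype_card] at hm1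
    have hm1' : Nat.card ↥P = Nat.card ↥P * m (trivIrr H) := by exact_mod_cast hm1
    have hpos : 0 < Nat.card ↥P := Nat.card_pos
    rw [hn1', one_mul]
    refine Nat.pos_of_ne_zero fun h0 => ?_
    rw [h0, mul_zero] at hm1'
    omega
  refine le_trans (Nat.cast_le.2 h1) (le_of_eq ?_)
  push_cast
  refine Finset.sum_congr rfl fun χ _ => ?_
  split_ifs with h
  · rw [hn, Complex.norm_natCast, pow_two]
  · rfl

open scoped Classical in
/-- **The criterion.** -/
theorem not_isSimpleGroup (D : Data T W) (hW1 : W ≠ ⊥) {t : G} (ht : orderOf t = 2)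
    (htT : t ∈ (T : Subgroup G)) (htW : t ∉ W)
    (hcos : ∀ w ∈ W, orderOf (w * t) = 2 →
      W.subgroupOf (Subgroup.centralizer ({w * t} : Set G)) ≤
        Cfsg.pPrimePCore 2 ↥(Subgroup.centralizer ({w * t} : Set G))) :
    ¬ IsSimpleGroup G := by
  intro hsimple
  haveI := Fintype.ofFinite G
  haveI := Fintype.ofFinite (Cfsg.IrrCharacter G)
  obtain ⟨M, hM⟩ := BlockCharsA.DefectZeroVanish.exists_modular Nat.prime_two
  -- an involution of `W`
  obtain ⟨w, hw, hwo⟩ : ∃ w ∈ W, orderOf w = 2 := by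
    obtain ⟨j, hj⟩ := D.isPGroup.exists_card_eq
    have hj0 : j ≠ 0 := fun h => hW1 (Subgroup.card_eq_one.1 (by rw [hj, h, pow_zero]))
    obtain ⟨w, hw⟩ := exists_prime_orderOf_dvd_card' (G := ↥W) 2 (hj ▸ dvd_pow_self 2 hj0)
    exact ⟨w, w.2, by rw [Subgroup.orderOf_coe, hw]⟩
  set B := Finset.univ.filter fun χ : Cfsg.IrrCharacter G => χ ∈ Cfsg.principalBlock M G with hB
  have hoB : trivIrr G ∈ B := Finset.mem_filter.2 ⟨Finset.mem_univ _, trivIrr_mem_principal hM⟩
  -- real values at the coset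
  set val : Cfsg.IrrCharacter G → G → ℝ := fun χ g => ((χ : G → ℂ) g).re with hval
  have hreal : ∀ (χ : Cfsg.IrrCharacter G) (g : G), g * g = 1 → (χ : G → ℂ) g = (val χ g : ℂ) := by
    intro χ g hg
    obtain ⟨i, hi⟩ := KleinFour.exists_int_value (irr_isCharacter χ) hg
    simp [hval, hi]
  have hXsq : ∀ e, IsX W t e → e * e = 1 := fun e he => by
    obtain ⟨-, -, -, ho⟩ := he
    exact Involutions.Basic.inv_sq_one ho
  -- representatives of the classes meeting the coset
  set rep : G → G := fun x => Classical.epsilon fun r => IsX W t r ∧ IsConj x r with hrep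
  have hrep_spec : ∀ x, IsX W t x → IsX W t (rep x) ∧ IsConj x (rep x) := fun x hx =>
    Classical.epsilon_spec (p := fun r => IsX W t r ∧ IsConj x r) ⟨x, hx, IsConj.refl x⟩
  have hrep_eq : ∀ x y, IsConj x y → rep x = rep y := fun x y h => by
    simp only [hrep]
    congr 1
    funext r
    exact propext ⟨fun ⟨h1, h2⟩ => ⟨h1, h.symm.trans h2⟩, fun ⟨h1, h2⟩ => ⟨h1, h.trans h2⟩⟩
  set X := ((Finset.univ.filter fun v : G => v ∈ W).image (· * t)).filter
    fun e => orderOf e = 2 with hX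
  have hXiff : ∀ e, e ∈ X ↔ IsX W t e := fun e => by
    simp only [hX, Finset.mem_filter, Finset.mem_image, Finset.mem_univ, true_and]
    exact ⟨fun ⟨⟨v, hv, hve⟩, ho⟩ => ⟨v, hv, hve.symm, ho⟩,
      fun ⟨v, hv, hve, ho⟩ => ⟨⟨v, hv, hve.symm⟩, ho⟩⟩
  set R := X.image rep with hR
  have hRX : ∀ r ∈ R, IsX W t r := fun r hr => by
    obtain ⟨x, hx, rfl⟩ := Finset.mem_image.1 hr
    exact (hrep_spec x ((hXiff x).1 hx)).1
  have hRconj : ∀ r ∈ R, ∀ r' ∈ R, IsConj r r' → r = r' := fun r hr r' hr' h => by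
    obtain ⟨x, hx, rfl⟩ := Finset.mem_image.1 hr
    obtain ⟨y, hy, rfl⟩ := Finset.mem_image.1 hr'
    exact hrep_eq x y (((hrep_spec x ((hXiff x).1 hx)).2.trans h).trans
      (hrep_spec y ((hXiff y).1 hy)).2.symm)
  -- the norms
  set b : G → ℝ := fun e => ∑ χ ∈ B, val χ e ^ 2 with hb
  have hbge : ∀ e, IsX W t e → 2 * (Nat.card ↥W : ℝ) ≤ b e := by
    intro e he
    obtain ⟨heT, heW⟩ := D.commute_of_isX htT he
    set C := Subgroup.centralizer ({e} : Set G) with hC
    haveI := Fintype.ofFinite (Cfsg.IrrCharacter ↥C)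
    have hnorm := norm_section_eq hM (z := e)
      ⟨1, by obtain ⟨-, -, -, ho⟩ := he; rw [ho, pow_one]⟩ (y := (1 : ↥C)) (by simp)
    rw [Principal.finsum_mem_eq_sum_filter, Principal.finsum_mem_eq_sum_filter] at hnorm
    simp only [OneMemClass.coe_one, mul_one] at hnorm
    have hWC : W ≤ (T : Subgroup G) ⊓ C := le_inf D.le fun v hv =>
      Subgroup.mem_centralizer_singleton_iff.2 (heW v hv).symm.eq
    have heC : e ∈ (T : Subgroup G) ⊓ C := ⟨heT, Subgroup.mem_centralizer_singleton_iff.2 rfl⟩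
    have hlow := card_le_norm hM (((T : Subgroup G) ⊓ C).subgroupOf C)
      ((T.2.to_le inf_le_left).comap_of_injective C.subtype C.subtype_injective)
    have hcard : 2 * Nat.card ↥W ≤ Nat.card ↥((((T : Subgroup G) ⊓ C)).subgroupOf C) := by
      rw [Nat.card_congr (Subgroup.subgroupOfEquivOfLe (inf_le_right : (T : Subgroup G) ⊓ C ≤ C)).toEquiv]
      obtain ⟨i, hi⟩ := Subgroup.card_dvd_of_le hWC
      have hne : i ≠ 1 := fun h1 => by
        rw [h1, mul_one] at hi
        exact not_mem_of_isX htW he ((Subgroup.eq_of_le_of_card_ge hWC hi.le).symm ▸ heC)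
      have hi0 : i ≠ 0 := fun h0 => by
        rw [h0, mul_zero] at hi
        exact Nat.card_pos.ne' hi
      rw [hi, mul_comm]
      exact Nat.mul_le_mul_left _ (by omega)
    calc 2 * (Nat.card ↥W : ℝ) ≤ (Nat.card ↥((((T : Subgroup G) ⊓ C)).subgroupOf C) : ℝ) := by
          exact_mod_cast hcard
      _ ≤ _ := hlow
      _ = ∑ η ∈ Finset.univ.filter (fun η : Cfsg.IrrCharacter ↥C =>
            η ∈ Cfsg.principalBlock M ↥C), ‖(η : ↥C → ℂ) 1‖ ^ 2 := (Finset.sum_filter _ _).symm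
      _ = ∑ χ ∈ B, ‖(χ : G → ℂ) e‖ ^ 2 := hnorm.symm
      _ = b e := Finset.sum_congr rfl fun χ _ => by
          rw [hreal χ e (hXsq e he), Complex.norm_real, Real.norm_eq_abs, sq_abs]
  have hbpos : ∀ e, IsX W t e → 0 < b e := fun e he => by
    have h1 := hbge e he
    have h2 : (0 : ℝ) < Nat.card ↥W := by exact_mod_cast Nat.card_pos
    linarith
  have horth : ∀ e e', IsX W t e → IsX W t e' → ¬ IsConj e e' →
      ∑ χ ∈ B, val χ e * val χ e' = 0 := by
    intro e e' he he' hne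
    have h := sum_block_mul_conj_eq_zero hM (intEl_blockIdem hM (isPBlock_principal M G))
      (BlocksChars.SectionOrth.isPPart_self Nat.prime_two
        ⟨1, by obtain ⟨-, -, -, ho⟩ := he; rw [ho, pow_one]⟩)
      (BlocksChars.SectionOrth.isPPart_self Nat.prime_two
        ⟨1, by obtain ⟨-, -, -, ho⟩ := he'; rw [ho, pow_one]⟩) hne
    rw [Principal.finsum_mem_eq_sum_filter] at h
    rw [Finset.sum_congr rfl fun χ _ => by
      rw [hreal χ e (hXsq e he), hreal χ e' (hXsq e' he'), Complex.conj_ofReal,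
        ← Complex.ofReal_mul]] at h
    exact_mod_cast h
  set S : Cfsg.IrrCharacter G → ℝ := fun χ => ∑ r ∈ R, val χ r / b r with hS
  have hone : ∀ e, IsX W t e → ∑ χ ∈ B, val χ e * S χ = 1 := by
    intro e he
    obtain ⟨hr0, hconj⟩ := hrep_spec e he
    have hr0R : rep e ∈ R := Finset.mem_image_of_mem _ ((hXiff e).2 he)
    have hve : ∀ χ : Cfsg.IrrCharacter G, val χ e = val χ (rep e) := fun χ => by
      obtain ⟨c, hc⟩ := isConj_iff.1 hconj
      simp only [hval]
      rw [← hc, irr_isClassFunction χ e c]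
    simp only [hS, Finset.mul_sum, hve]
    rw [Finset.sum_comm, Finset.sum_eq_single (rep e) (fun r hr hne => ?_)
      (fun h => absurd hr0R h)]
    · rw [Finset.sum_congr rfl fun χ _ => show val χ (rep e) * (val χ (rep e) / b (rep e)) =
        val χ (rep e) ^ 2 / b (rep e) by ring, ← Finset.sum_div]
      exact div_self (hbpos _ hr0).ne'
    · rw [Finset.sum_congr rfl fun χ _ => show val χ (rep e) * (val χ r / b r) =
        val χ (rep e) * val χ r / b r by ring, ← Finset.sum_div,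
        horth _ _ hr0 (hRX r hr) fun h => hne (hRconj _ hr0R r hr h).symm, zero_div]
  set A : ℝ := ∑ r ∈ R, 1 / b r with hA
  set lam : Cfsg.IrrCharacter G → ℝ := fun χ => val χ w / val χ 1 with hlam
  have hdeg : ∀ χ : Cfsg.IrrCharacter G, 0 < val χ 1 := fun χ => by
    obtain ⟨n, hn, hn1⟩ := irr_one_pos χ.2
    simp only [hval, hn1, Complex.natCast_re]
    exact_mod_cast hn
  have hww : w * w = 1 := Involutions.Basic.inv_sq_one hwo
  have hwX : ∀ x, IsX W t x → ∑ χ ∈ B, lam χ * (val χ x * S χ) = 1 := by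
    intro x hx
    choose f hfX hfv using fun g => exists_value hM D htT htW hcos hx hw hwo g
    have hkey : ∀ χ ∈ B, (Nat.card G : ℝ) * (lam χ * val χ x) = ∑ g : G, val χ (f g) := by
      intro χ hχ
      have h := sum_mul_conjugates χ.2 x w
      rw [Finset.sum_congr rfl fun g _ => (hfv g χ (Finset.mem_filter.1 hχ).2).trans
          (hreal χ _ (hXsq _ (hfX g))),
        hreal χ x (hXsq x hx), hreal χ w hww, hreal χ 1 (one_mul 1)] at h
      have h' : ((∑ g : G, val χ (f g) : ℝ) : ℂ) =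
          (((Nat.card G : ℝ) * (lam χ * val χ x) : ℝ) : ℂ) := by
        push_cast
        rw [h, hlam]
        push_cast
        ring
      exact_mod_cast h'.symm
    have h1 : (Nat.card G : ℝ) * ∑ χ ∈ B, lam χ * (val χ x * S χ) = (Nat.card G : ℝ) := by
      rw [Finset.mul_sum, Finset.sum_congr rfl fun χ hχ => show
        (Nat.card G : ℝ) * (lam χ * (val χ x * S χ)) = ∑ g : G, val χ (f g) * S χ by
          rw [← Finset.sum_mul, ← hkey χ hχ]; ring,
        Finset.sum_comm, Finset.sum_congr rfl fun g _ => hone _ (hfX g), Finset.sum_const,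
        Finset.card_univ, nsmul_eq_mul, mul_one, Nat.card_eq_fintype_card]
    have hG : (Nat.card G : ℝ) ≠ 0 := by exact_mod_cast (Nat.card_pos (α := G)).ne'
    exact mul_left_cancel₀ hG (by rw [h1, mul_one])
  -- every nonprincipal `S` vanishes
  have hsq1 : ∑ χ ∈ B, S χ ^ 2 = A := by
    rw [Finset.sum_congr rfl fun χ _ => show S χ ^ 2 = ∑ r ∈ R, (val χ r * S χ) / b r by
      rw [pow_two]; conv_lhs => arg 1; rw [hS]
      rw [Finset.sum_mul]; exact Finset.sum_congr rfl fun r _ => by ring, Finset.sum_comm]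
    exact Finset.sum_congr rfl fun r hr => by rw [← Finset.sum_div, hone r (hRX r hr)]
  have hsq2 : ∑ χ ∈ B, lam χ * S χ ^ 2 = A := by
    rw [Finset.sum_congr rfl fun χ _ => show lam χ * S χ ^ 2 =
        ∑ r ∈ R, (lam χ * (val χ r * S χ)) / b r by
      rw [pow_two]; conv_lhs => arg 2; arg 1; rw [hS]
      rw [Finset.sum_mul, Finset.mul_sum]; exact Finset.sum_congr rfl fun r _ => by ring,
      Finset.sum_comm]
    exact Finset.sum_congr rfl fun r hr => by rw [← Finset.sum_div, hwX r (hRX r hr)]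
  have hle : ∀ χ : Cfsg.IrrCharacter G, lam χ ≤ 1 ∧ (lam χ = 1 → χ = trivIrr G) := by
    intro χ
    have hle' : val χ w ≤ val χ 1 := by
      have h := char_norm_le (irr_isCharacter χ) w
      rw [hreal χ w hww, hreal χ 1 (one_mul 1), Complex.norm_real, Complex.norm_real,
        Real.norm_eq_abs, Real.norm_eq_abs, abs_of_pos (hdeg χ)] at h
      exact le_trans (le_abs_self _) h
    refine ⟨(div_le_one (hdeg χ)).2 hle', fun h1 => ?_⟩
    have heq : (χ : G → ℂ) w = (χ : G → ℂ) 1 := by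
      rw [hreal χ w hww, hreal χ 1 (one_mul 1), (div_eq_one_iff_eq (hdeg χ).ne').1 h1]
    haveI := charKernel_normal (irr_isCharacter χ)
    rcases hsimple.eq_bot_or_eq_top_of_normal (charKernel (χ : G → ℂ) (irr_isCharacter χ))
      inferInstance with h | h
    · have hwk : w ∈ charKernel (χ : G → ℂ) (irr_isCharacter χ) := mem_charKernel.2 heq
      rw [h, Subgroup.mem_bot] at hwk
      exact absurd hwk (Involutions.Basic.ne_one hwo)
    · by_contra hne
      have hinner := classInner_irr χ (trivIrr G)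
      rw [if_neg hne, classInner_def, Finset.sum_congr rfl fun g _ => show
          (χ : G → ℂ) g * conj ((trivIrr G : G → ℂ) g) = (χ : G → ℂ) 1 by
        rw [(mem_charKernel (h := irr_isCharacter χ)).1 (show g ∈ charKernel (χ : G → ℂ) (irr_isCharacter χ) by rw [h]; exact Subgroup.mem_top g)]; simp, Finset.sum_const, Finset.card_univ,
        nsmul_eq_mul, ← Nat.card_eq_fintype_card, ← mul_assoc, inv_mul_cancel₀ natCard_ne_zero,
        one_mul] at hinner
      exact irr_one_ne_zero χ.2 hinner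
  have hzero : ∀ χ ∈ B, χ ≠ trivIrr G → S χ = 0 := by
    intro χ hχ hne
    have h0 : ∑ χ ∈ B, (1 - lam χ) * S χ ^ 2 = 0 := by
      rw [Finset.sum_congr rfl fun χ _ => show (1 - lam χ) * S χ ^ 2 =
        S χ ^ 2 - lam χ * S χ ^ 2 by ring, Finset.sum_sub_distrib, hsq1, hsq2, sub_self]
    have h1 := (Finset.sum_eq_zero_iff_of_nonneg fun χ _ =>
      mul_nonneg (sub_nonneg.2 (hle χ).1) (sq_nonneg _)).1 h0 χ hχ
    rcases mul_eq_zero.1 h1 with h | h
    · exact absurd ((hle χ).2 (by linarith)) hne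
    · exact pow_eq_zero_iff two_ne_zero |>.1 h
  have htX : IsX W t t := ⟨1, one_mem _, (one_mul t).symm, ht⟩
  have hA1 : A = 1 := by
    have h := hone t htX
    rw [Finset.sum_eq_single (trivIrr G) (fun χ hχ hne => by rw [hzero χ hχ hne, mul_zero])
      (fun h => absurd hoB h)] at h
    simpa [hS, hval, hA] using h
  have hcardR : (R.card : ℝ) ≤ Nat.card ↥W := by
    have h1 : R.card ≤ X.card := Finset.card_image_le
    have h2 : X.card ≤ (Finset.univ.filter fun v : G => v ∈ W).card :=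
      (Finset.card_filter_le _ _).trans Finset.card_image_le
    have h3 : (Finset.univ.filter fun v : G => v ∈ W).card = Nat.card ↥W := by
      rw [Nat.card_eq_fintype_card, Fintype.card_subtype]
    exact_mod_cast h1.trans (h2.trans h3.le)
  have hWpos : (0 : ℝ) < Nat.card ↥W := by exact_mod_cast Nat.card_pos
  have hA2 : A ≤ (R.card : ℝ) * (1 / (2 * Nat.card ↥W)) := by
    rw [hA, ← nsmul_eq_mul]
    exact Finset.sum_le_card_nsmul _ _ _ fun r hr =>
      one_div_le_one_div_of_le (by positivity) (hbge r (hRX r hr))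
  have h3 : (R.card : ℝ) * (1 / (2 * Nat.card ↥W)) ≤ 1 / 2 := by
    rw [mul_one_div, div_le_iff₀ (by positivity)]
    linarith
  linarith

end Cfsg.Agent.ZStar.CosetWeakClosure
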