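import Mathlib
import Cfsg.Prelude.Def_FusionSystem
import Cfsg.Agent.Lib.ZStar.CentralWeaklyClosed

/-!
# `Z*` and the centre of the fusion system
-/

set_option autoImplicit false
set_option linter.style.haveILetI false

namespace Cfsg.Agent.ZStar.FusionCenter

universe u

variable {G : Type u} [Group G] [Finite G]

/-- An element of a Sylow 2-subgroup, central there and without fusion, is central modulo the odd core. -/
theorem mk_mem_center (S : Sylow 2 G) {v : G} (hvS : v ∈ (S : Subgroup G))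
    (hvc : ∀ s ∈ (S : Subgroup G), Commute v s)
    (hW : ∀ y ∈ Subgroup.zpowers v, ∀ g : G, g * y * g⁻¹ ∈ (S : Subgroup G) → g * y * g⁻¹ = y) :
    QuotientGroup.mk' (Cfsg.oddCore G) v ∈ Subgroup.center (G ⧸ Cfsg.oddCore G) := by
  haveI : Fact (Nat.Prime 2) := ⟨Nat.prime_two⟩
  set O := Cfsg.oddCore G with hOdef
  set π := QuotientGroup.mk' O with hπ
  set T := S.mapSurjective (QuotientGroup.mk'_surjective O) with hT
  refine CentralWeaklyClosed.mem_center InvChar.Core.oddCore_quotient_oddCore_eq_bot T (π v)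
    ⟨v, hvS, rfl⟩ ?_ ?_
  · rintro _ ⟨s, hs, rfl⟩
    exact (hvc s hs).map π
  · intro q hq y hy
    obtain ⟨i, rfl⟩ := Subgroup.mem_zpowers_iff.1 hq
    obtain ⟨g, rfl⟩ := QuotientGroup.mk'_surjective O y
    rw [← map_zpow, ← map_inv, ← map_mul, ← map_mul] at hy ⊢
    obtain ⟨s, hs, hse⟩ := hy
    set x := g * v ^ i * g⁻¹ with hx
    obtain ⟨o, ho, hso⟩ : ∃ o ∈ O, s * o = x :=
      ⟨s⁻¹ * x, QuotientGroup.eq.1 hse, mul_inv_cancel_left s x⟩
    -- `O S` has `S` as a Sylow subgroup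
    obtain ⟨c, hcO, hcS⟩ : ∃ c ∈ O, c * x * c⁻¹ ∈ (S : Subgroup G) := by
      set L := (S : Subgroup G) ⊔ O
      have hxL : x ∈ L := hso ▸ mul_mem (Subgroup.mem_sup_left hs) (Subgroup.mem_sup_right ho)
      have hxp : IsPGroup 2 (Subgroup.zpowers (⟨x, hxL⟩ : L)) := by
        obtain ⟨k, hk⟩ := IsPGroup.iff_orderOf.1 S.2 ⟨v ^ i, zpow_mem hvS i⟩
        refine IsPGroup.of_card (n := k) ?_
        rw [Nat.card_zpowers, ← Subgroup.orderOf_coe]
        show orderOf (g * v ^ i * g⁻¹) = 2 ^ k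
        rw [Involutions.Basic.orderOf_conj, ← hk, ← Subgroup.orderOf_coe]
      obtain ⟨R, hR⟩ := hxp.exists_le_sylow
      obtain ⟨⟨l, hl⟩, hle⟩ := MulAction.exists_smul_eq L R (S.subtype le_sup_left)
      have hmem' : l * x * l⁻¹ ∈ (S : Subgroup G) := by
        have hmem : (⟨l, hl⟩ : L) * ⟨x, hxL⟩ * (⟨l, hl⟩ : L)⁻¹ ∈
            ((S.subtype le_sup_left : Sylow 2 L) : Subgroup L) := by
          rw [← hle, ← SetLike.mem_coe, Sylow.coe_subgroup_smul]
          exact ⟨_, hR (Subgroup.mem_zpowers _), rfl⟩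
        exact hmem
      obtain ⟨t, ht, o', ho', rfl⟩ := Subgroup.mem_sup_of_normal_right.1 hl
      refine ⟨o', ho', ?_⟩
      have := mul_mem (mul_mem (inv_mem ht) hmem') ht
      rwa [show o' * x * o'⁻¹ = t⁻¹ * (t * o' * x * (t * o')⁻¹) * t by group]
    have hcg : c * g * v ^ i * (c * g)⁻¹ ∈ (S : Subgroup G) := by
      rw [show c * g * v ^ i * (c * g)⁻¹ = c * x * c⁻¹ by rw [hx]; group]
      exact hcS
    have hmem := hW (v ^ i) (Subgroup.zpow_mem _ (Subgroup.mem_zpowers v) i) (c * g) hcg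
    refine Subgroup.mem_zpowers_iff.2 ⟨1, ?_⟩
    have hπc : π c = 1 := (QuotientGroup.eq_one_iff c).2 hcO
    rw [zpow_one, show π (v ^ i) = π (c * g * v ^ i * (c * g)⁻¹) by rw [hmem], hx]
    simp only [map_mul, map_inv, hπc, one_mul, mul_inv_rev, inv_one, mul_one]
    rfl
/-- The centre of `F_S(G)` as `Z*(G) ∩ S`. -/
theorem center_eq (S : Sylow 2 G) :
    (Cfsg.groupFusionSystem (S : Subgroup G)).center = (S : Subgroup G) ⊓
      (Subgroup.center (G ⧸ Cfsg.oddCore G)).comap (QuotientGroup.mk' (Cfsg.oddCore G)) := by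
  haveI : Fact (Nat.Prime 2) := ⟨Nat.prime_two⟩
  set O := Cfsg.oddCore G with hOdef
  set π := QuotientGroup.mk' O with hπ
  set Q := (S : Subgroup G) ⊓ (Subgroup.center (G ⧸ O)).comap π with hQ
  refine le_antisymm (sSup_le fun W hW => ?_) (le_sSup ?_)
  · obtain ⟨hWS, hext⟩ := hW
    intro v hv
    have hfix : ∀ y ∈ W, ∀ g : G, g * y * g⁻¹ ∈ (S : Subgroup G) → g * y * g⁻¹ = y := by
      intro y hy g hg
      let φ : Subgroup.zpowers y →* G :=
        (MulAut.conj g).toMonoidHom.comp (Subgroup.zpowers y).subtype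
      have hφ : φ ∈ (Cfsg.groupFusionSystem (S : Subgroup G)).Hom (Subgroup.zpowers y) := by
        refine ⟨Subgroup.zpowers_le.2 (hWS hy), fun x => ?_, g, fun x => rfl⟩
        obtain ⟨i, hi⟩ := Subgroup.mem_zpowers_iff.1 x.2
        show g * (x : G) * g⁻¹ ∈ (S : Subgroup G)
        rw [← hi, ← conj_zpow]
        exact zpow_mem hg i
      obtain ⟨ψ, -, h1, h2⟩ := hext _ φ hφ
      have h3 := h1 ⟨y, Subgroup.mem_zpowers y⟩
      have h4 := h2 ⟨y, hy⟩
      exact h3.symm.trans h4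
    refine ⟨hWS hv, mk_mem_center S (hWS hv) (fun s hs => ?_) fun y hy g hg =>
      hfix y (Subgroup.zpowers_le.2 hv hy) g hg⟩
    have h := hfix v hv s (mul_mem (mul_mem hs (hWS hv)) (inv_mem hs))
    exact ((mul_inv_eq_iff_eq_mul.1 h)).symm
  · refine ⟨inf_le_left, fun P φ hφ => ?_⟩
    obtain ⟨hPS, hφS, g, hg⟩ := hφ
    have hQO : ∀ x ∈ Q, ∀ h : G, ∃ o ∈ O, h * x * h⁻¹ = o * x := fun x hx h => by
      refine ⟨h * x * h⁻¹ * x⁻¹, ?_, by group⟩
      rw [← QuotientGroup.eq_one_iff]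
      show π (h * x * h⁻¹ * x⁻¹) = 1
      rw [map_mul, map_mul, map_mul, Subgroup.mem_center_iff.1 hx.2 (π h), map_inv, map_inv,
        mul_inv_cancel_right, mul_inv_cancel]
    have hOS : ∀ o ∈ O, o ∈ (S : Subgroup G) → o = 1 := fun o ho hoS => by
      obtain ⟨k, hk⟩ := IsPGroup.iff_orderOf.1 S.2 ⟨o, hoS⟩
      rw [← Subgroup.orderOf_coe] at hk
      exact orderOf_eq_one_iff.1 (Nat.eq_one_of_dvd_coprimes
        ((Nat.coprime_two_right.2 (InvChar.Core.odd_card_oddCore (G := G))).pow_right k)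
        (O.orderOf_dvd_natCard ho) (dvd_of_eq hk))
    have hcen : ∀ x ∈ Q, ∀ s ∈ (S : Subgroup G), s * x * s⁻¹ = x := fun x hx s hs => by
      obtain ⟨o, ho, he⟩ := hQO x hx s
      have : o = s * x * s⁻¹ * x⁻¹ := by rw [he, mul_inv_cancel_right]
      rw [he, hOS o ho (this ▸ mul_mem (mul_mem (mul_mem hs hx.1) (inv_mem hs)) (inv_mem hx.1)),
        one_mul]
    set C := Subgroup.centralizer (Set.range φ)
    set M := (O ⊔ Q) ⊓ C with hM
    have hQM : Q ≤ M := fun x hx => ⟨Subgroup.mem_sup_right hx, by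
      rintro _ ⟨p, rfl⟩
      exact mul_inv_eq_iff_eq_mul.1 (hcen x hx (φ p) (hφS p))⟩
    have hgQM : ∀ x ∈ Q, g * x * g⁻¹ ∈ M := fun x hx => by
      obtain ⟨o, ho, he⟩ := hQO x hx g
      refine ⟨he ▸ mul_mem (Subgroup.mem_sup_left ho) (Subgroup.mem_sup_right hx), ?_⟩
      rintro _ ⟨p, rfl⟩
      rw [hg p]
      have h1 := hcen x hx p (hPS p.2)
      calc g * (p : G) * g⁻¹ * (g * x * g⁻¹) = g * ((p : G) * x * (p : G)⁻¹) * (p : G) * g⁻¹ := by
            group
        _ = g * x * g⁻¹ * (g * (p : G) * g⁻¹) := by rw [h1]; group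
    -- `Q` is a Sylow subgroup of `M`
    have hQp : IsPGroup 2 (Q.subgroupOf M) :=
      (S.2.to_le inf_le_left).of_equiv (Subgroup.subgroupOfEquivOfLe hQM).symm
    have hidx : ¬ 2 ∣ (Q.subgroupOf M).index := by
      intro h2
      have hdec : ∀ m : M, ∃ o ∈ O, ∃ q ∈ Q, (m : G) = o * q := fun m => by
        obtain ⟨o, ho, q, hq, e⟩ := Subgroup.mem_sup_of_normal_left.1 m.2.1
        exact ⟨o, ho, q, hq, e.symm⟩
      have hdvd : (Q.subgroupOf M).index ∣ Nat.card O := by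
        have h3 : Q.relIndex (O ⊔ Q) ∣ Nat.card O := by
          rw [sup_comm]
          have h4 : Nat.card Q * Q.relIndex (Q ⊔ O) = Nat.card O * O.relIndex Q := by
            rw [← Subgroup.relIndex_bot_left Q, ← Subgroup.relIndex_bot_left O,
              Subgroup.relIndex_mul_relIndex ⊥ Q (Q ⊔ O) bot_le le_sup_left,
              ← Subgroup.relIndex_sup_right Q O,
              Subgroup.relIndex_mul_relIndex ⊥ O (Q ⊔ O) bot_le le_sup_right]
          apply Nat.dvd_of_mul_dvd_mul_left (k := Nat.card Q) Nat.card_pos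
          rw [h4, mul_comm (Nat.card Q)]
          exact Nat.mul_dvd_mul_left _ (Subgroup.relIndex_dvd_card O Q)
        refine dvd_trans ?_ h3
        show Q.relIndex M ∣ Q.relIndex (O ⊔ Q)
        rw [← Subgroup.relIndex_mul_relIndex Q M (O ⊔ Q) hQM inf_le_left]
        exact dvd_mul_right _ _
      exact Nat.not_even_iff_odd.2 (InvChar.Core.odd_card_oddCore (G := G))
        (even_iff_two_dvd.2 (h2.trans hdvd))
    set R := hQp.toSylow hidx with hR
    have hp : IsPGroup 2 ((Q.map (MulAut.conj g).toMonoidHom).subgroupOf M) :=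
      ((S.2.to_le inf_le_left).map (MulAut.conj g).toMonoidHom).of_equiv
        (Subgroup.subgroupOfEquivOfLe (by rintro _ ⟨x, hx, rfl⟩; exact hgQM x hx)).symm
    obtain ⟨R', hR'⟩ := hp.exists_le_sylow
    obtain ⟨m, hm⟩ := MulAction.exists_smul_eq M R' R
    have hconj : ∀ x ∈ Q, (m : G) * (g * x * g⁻¹) * (m : G)⁻¹ = x := by
      intro x hx
      have hmem : m * ⟨_, hgQM x hx⟩ * m⁻¹ ∈ (R : Subgroup M) := by
        rw [← hm, ← SetLike.mem_coe, Sylow.coe_subgroup_smul]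
        exact ⟨⟨_, hgQM x hx⟩, hR' ⟨x, hx, rfl⟩, rfl⟩
      have hy : (m : G) * (g * x * g⁻¹) * (m : G)⁻¹ ∈ Q := hmem
      obtain ⟨o, ho, he⟩ := hQO x hx ((m : G) * g)
      rw [show (m : G) * g * x * ((m : G) * g)⁻¹ = (m : G) * (g * x * g⁻¹) * (m : G)⁻¹ by group] at he
      have ho1 : o ∈ (S : Subgroup G) := by
        have : o = (m : G) * (g * x * g⁻¹) * (m : G)⁻¹ * x⁻¹ := by rw [he, mul_inv_cancel_right]
        exact this ▸ mul_mem hy.1 (inv_mem hx.1)
      rw [he, hOS o ho ho1, one_mul]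
    let ψ : (P ⊔ Q : Subgroup G) →* G :=
      (MulAut.conj ((m : G) * g)).toMonoidHom.comp (P ⊔ Q).subtype
    have hP' : ∀ x : P, (m : G) * g * (x : G) * ((m : G) * g)⁻¹ = φ x := fun x => by
      have h := m.2.2 (φ x) ⟨x, rfl⟩
      rw [show (m : G) * g * (x : G) * ((m : G) * g)⁻¹ = (m : G) * (g * (x : G) * g⁻¹) * (m : G)⁻¹
        by group, ← hg x, ← h, mul_inv_cancel_right]
    have hQ' : ∀ x ∈ Q, (m : G) * g * x * ((m : G) * g)⁻¹ = x := fun x hx => by
      rw [show (m : G) * g * x * ((m : G) * g)⁻¹ = (m : G) * (g * x * g⁻¹) * (m : G)⁻¹ by group,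
        hconj x hx]
    refine ⟨ψ, ⟨sup_le hPS inf_le_left, fun x => ?_, (m : G) * g, fun x => rfl⟩, hP',
      fun x => hQ' x x.2⟩
    suffices P ⊔ Q ≤ (S : Subgroup G).comap (MulAut.conj ((m : G) * g)).toMonoidHom from this x.2
    refine sup_le (fun y hy => ?_) fun y hy => ?_
    · show (m : G) * g * y * ((m : G) * g)⁻¹ ∈ (S : Subgroup G)
      rw [hP' ⟨y, hy⟩]
      exact hφS _
    · show (m : G) * g * y * ((m : G) * g)⁻¹ ∈ (S : Subgroup G)
      rw [hQ' y hy]
      exact hy.1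

end Cfsg.Agent.ZStar.FusionCenter
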