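import Mathlib
import Cfsg.Prelude.Def_TwoFusion
import Cfsg.Agent.Lib.ZStar.Consequences
import Cfsg.Agent.Lib.Involutions.Isolated

/-!
# Sylow 2-subgroups with a quaternion direct factor
-/

set_option autoImplicit false
set_option linter.style.haveILetI false

namespace Cfsg.Agent.ZStar.QuaternionFactor

open scoped IsMulCommutative

universe u

variable {P : Type u} [Group P] [Finite P]

/-- Every involution is central and some involution is fixed by all automorphisms. -/
theorem exists_fixed (hP : IsPGroup 2 P) (Q R : Subgroup P)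
    (hc : ∀ a ∈ Q, ∀ b ∈ R, a * b = b * a) (hd : Q ⊓ R = ⊥) (hgen : Q ⊔ R = ⊤)
    {n : ℕ} (hn : 1 ≤ n) (eQ : ↥Q ≃* QuaternionGroup (2 ^ n))
    (hR : ∀ r ∈ R, r * r = 1 → ∀ s ∈ R, r * s = s * r) :
    (∀ x : P, x * x = 1 → x ∈ Subgroup.center P) ∧
      ∃ w : P, w * w = 1 ∧ w ≠ 1 ∧ ∀ φ : MulAut P, φ w = w := by
  classical
  haveI : Fact (Nat.Prime 2) := ⟨Nat.prime_two⟩
  haveI : NeZero (2 ^ n) := ⟨by positivity⟩
  have hn2 : 2 ≤ 2 ^ n := by
    calc 2 = 2 ^ 1 := rfl
      _ ≤ 2 ^ n := Nat.pow_le_pow_right (by norm_num) hn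
  have hcomp : ∀ x : P, ∃ q ∈ Q, ∃ r ∈ R, x = q * r := by
    intro x
    haveI : R.Normal := Subgroup.normalizer_eq_top_iff.1 (by
      rw [eq_top_iff, ← hgen, sup_le_iff]
      exact ⟨fun a ha => Subgroup.centralizer_le_normalizer _
        (Subgroup.mem_centralizer_iff.2 fun b hb => (hc a ha b hb).symm), Subgroup.le_normalizer⟩)
    obtain ⟨q, hq, r, hr, e⟩ := Subgroup.mem_sup_of_normal_right.1 (hgen ▸ Subgroup.mem_top x)
    exact ⟨q, hq, r, hr, e.symm⟩
  haveI hQn : Q.Normal := ⟨fun a ha x => by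
    obtain ⟨q, hq, r, hr, rfl⟩ := hcomp x
    rw [show q * r * a * (q * r)⁻¹ = q * (r * a) * r⁻¹ * q⁻¹ by group, ← hc a ha r hr,
      show q * (a * r) * r⁻¹ * q⁻¹ = q * a * q⁻¹ by group]
    exact mul_mem (mul_mem hq ha) (inv_mem hq)⟩
  -- the involution of `Q`
  set z : P := ((eQ.symm (QuaternionGroup.a ((2 ^ n : ℕ) : ZMod (2 * 2 ^ n))) : Q) : P) with hz
  have hzQ : z ∈ Q := SetLike.coe_mem _
  have hz2 : z * z = 1 := by
    rw [hz, ← Subgroup.coe_mul, ← map_mul, QuaternionGroup.a_mul_a]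
    have : ((2 ^ n : ℕ) : ZMod (2 * 2 ^ n)) + ((2 ^ n : ℕ) : ZMod (2 * 2 ^ n)) = 0 := by
      rw [← Nat.cast_add, ← two_mul, ZMod.natCast_self]
    rw [this, QuaternionGroup.a_zero, map_one, Subgroup.coe_one]
  have hz1 : z ≠ 1 := by
    rw [hz, Ne, OneMemClass.coe_eq_one, MulEquiv.map_eq_one_iff, ← QuaternionGroup.a_zero]
    intro h
    injection h with h
    rw [ZMod.natCast_eq_zero_iff] at h
    have := Nat.le_of_dvd (by positivity) h
    omega
  have huniq : ∀ x ∈ Q, x * x = 1 → x = 1 ∨ x = z := by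
    intro x hx hx2
    by_cases h1 : x = 1
    · exact Or.inl h1
    have h := Consequences.quaternion_involution (x := eQ ⟨x, hx⟩) (by
      rw [← map_mul, show (⟨x, hx⟩ : Q) * ⟨x, hx⟩ = 1 from Subtype.ext hx2, map_one])
      (fun e => h1 (congrArg Subtype.val ((MulEquiv.map_eq_one_iff eQ).1 e)))
    exact Or.inr (by rw [hz, ← h, MulEquiv.symm_apply_apply])
  have hzc : z ∈ Subgroup.center P := by
    rw [Subgroup.mem_center_iff]
    intro g
    have h := huniq (g * z * g⁻¹) (hQn.conj_mem z hzQ g) (by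
      rw [show g * z * g⁻¹ * (g * z * g⁻¹) = g * (z * z) * g⁻¹ by group, hz2, mul_one,
        mul_inv_cancel])
    rcases h with h | h
    · exact absurd (conj_eq_one_iff.1 h) hz1
    · exact mul_inv_eq_iff_eq_mul.1 h
  have hsplit : ∀ x : P, x * x = 1 → ∃ q ∈ Q, ∃ r ∈ R, x = q * r ∧ q * q = 1 ∧ r * r = 1 := by
    intro x hx
    obtain ⟨q, hq, r, hr, rfl⟩ := hcomp x
    have h1 : (q * q) * (r * r) = 1 := by
      rw [← hx, mul_assoc q r, ← mul_assoc r q r, ← hc q hq r hr]; group
    have h2 : q * q ∈ Q ⊓ R := Subgroup.mem_inf.2 ⟨Q.mul_mem hq hq, by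
      rw [mul_eq_one_iff_eq_inv.1 h1]; exact R.inv_mem (R.mul_mem hr hr)⟩
    rw [hd, Subgroup.mem_bot] at h2
    refine ⟨q, hq, r, hr, rfl, h2, ?_⟩
    rwa [h2, one_mul] at h1
  have hcentral : ∀ x : P, x * x = 1 → x ∈ Subgroup.center P := by
    intro x hx
    obtain ⟨q, hq, r, hr, rfl, hq2, hr2⟩ := hsplit x hx
    refine mul_mem ?_ (Subgroup.mem_center_iff.2 fun g => ?_)
    · rcases huniq q hq hq2 with rfl | rfl
      · exact one_mem _
      · exact hzc
    · obtain ⟨a, ha, b, hb, rfl⟩ := hcomp g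
      rw [mul_assoc, ← hR r hr hr2 b hb, ← mul_assoc, hc a ha r hr, mul_assoc]
  -- images of `z` other than `z` lie in `R`
  have himg : ∀ φ : MulAut P, φ z ≠ z → φ z ∈ R := by
    intro φ hne
    by_contra hR'
    set Q' := Q.map φ.toMonoidHom with hQ'
    haveI : Q'.Normal := hQn.map _ φ.surjective
    have hinv : ∀ x ∈ Q', x * x = 1 → x = 1 ∨ x = φ z := by
      rintro _ ⟨y, hy, rfl⟩ h2
      rcases huniq y hy (φ.injective (by simpa using h2)) with rfl | rfl
      · exact Or.inl (map_one _)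
      · exact Or.inr rfl
    have hinvol : ∀ N : Subgroup P, N ≠ ⊥ → ∃ x ∈ N, x * x = 1 ∧ x ≠ 1 := by
      intro N hN
      have h2 : 2 ∣ Nat.card N := by
        obtain ⟨k, hk⟩ := (hP.to_subgroup N).exists_card_eq
        rw [hk]
        refine dvd_pow_self 2 fun h0 => hN ?_
        rw [h0, pow_zero, Subgroup.card_eq_one] at hk
        exact hk
      obtain ⟨x, hx⟩ := exists_prime_orderOf_dvd_card' 2 h2
      rw [← Subgroup.orderOf_coe] at hx
      refine ⟨x, x.2, by rw [← pow_two, ← hx, pow_orderOf_eq_one], fun h => ?_⟩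
      rw [h, orderOf_one] at hx
      omega
    have hQ'R : Q' ⊓ R = ⊥ := by
      by_contra hb
      obtain ⟨x, hx, hx2, hx1⟩ := hinvol _ hb
      exact hR' ((hinv x hx.1 hx2).resolve_left hx1 ▸ hx.2)
    have hdisj : Q ⊓ Q' = ⊥ := by
      by_contra hb
      obtain ⟨x, hx, hx2, hx1⟩ := hinvol _ hb
      exact hne (((hinv x hx.2 hx2).resolve_left hx1).symm.trans
        ((huniq x hx.1 hx2).resolve_left hx1))
    -- `Q'` and `R` generate, so `Q` is abelian
    have hgen' : ∀ a ∈ Q, ∃ q ∈ Q', ∃ r ∈ R, a = q * r := by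
      have hinj : Function.Injective fun x : Q' × R => (x.1 : P) * x.2 :=
        Subgroup.mul_injective_of_disjoint (disjoint_iff.2 hQ'R)
      have hinj0 : Function.Injective fun x : Q × R => (x.1 : P) * x.2 :=
        Subgroup.mul_injective_of_disjoint (disjoint_iff.2 hd)
      have hsurj0 : Function.Surjective fun x : Q × R => (x.1 : P) * x.2 := fun x => by
        obtain ⟨q, hq, r, hr, rfl⟩ := hcomp x
        exact ⟨(⟨q, hq⟩, ⟨r, hr⟩), rfl⟩
      have hcard : Nat.card (Q' × R) = Nat.card P := by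
        rw [← Nat.card_eq_of_bijective _ ⟨hinj0, hsurj0⟩, Nat.card_prod, Nat.card_prod, hQ',
          Subgroup.card_map_of_injective φ.injective]
      intro a _
      obtain ⟨⟨q, r⟩, hqr⟩ := ((Nat.bijective_iff_injective_and_card _).2 ⟨hinj, hcard⟩).2 a
      exact ⟨q, q.2, r, r.2, hqr.symm⟩
    have hab : ∀ a ∈ Q, ∀ b ∈ Q, a * b = b * a := by
      intro a ha b hb
      obtain ⟨q, hq, r, hr, rfl⟩ := hgen' a ha
      have h1 : q * b * q⁻¹ * b⁻¹ ∈ Q ⊓ Q' := by
        refine Subgroup.mem_inf.2 ⟨Q.mul_mem (hQn.conj_mem b hb q) (Q.inv_mem hb), ?_⟩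
        rw [show q * b * q⁻¹ * b⁻¹ = q * (b * q⁻¹ * b⁻¹) by group]
        exact mul_mem hq (Subgroup.Normal.conj_mem inferInstance _ (inv_mem hq) b)
      rw [hdisj, Subgroup.mem_bot, mul_inv_eq_one, mul_inv_eq_iff_eq_mul] at h1
      rw [mul_assoc, ← hc b hb r hr, ← mul_assoc, h1, mul_assoc]
    have hcz : (Subgroup.center (QuaternionGroup (2 ^ n))) ≠ ⊤ := by
      intro h
      have h1 : QuaternionGroup.a (1 : ZMod (2 * 2 ^ n)) ∈
          Subgroup.center (QuaternionGroup (2 ^ n)) := h ▸ Subgroup.mem_top _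
      have h2 := Subgroup.mem_center_iff.1 h1 (QuaternionGroup.xa 0)
      simp only [QuaternionGroup.xa_mul_a, QuaternionGroup.a_mul_xa] at h2
      injection h2 with h2
      rw [zero_add, zero_sub] at h2
      have h3 : ((2 : ℕ) : ZMod (2 * 2 ^ n)) = 0 := by
        push_cast
        linear_combination h2
      rw [ZMod.natCast_eq_zero_iff] at h3
      have := Nat.le_of_dvd (by norm_num) h3
      omega
    refine hcz (eq_top_iff.2 fun x _ => Subgroup.mem_center_iff.2 fun y => ?_)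
    refine eQ.symm.injective ?_
    rw [map_mul, map_mul]
    exact Subtype.ext (hab _ (eQ.symm y).2 _ (eQ.symm x).2)
  refine ⟨hcentral, ?_⟩
  -- the product of the images of `z`
  let zc : Subgroup.center P := ⟨z, hzc⟩
  let act : MulAut P → Subgroup.center P → Subgroup.center P := fun φ x =>
    ⟨φ x, Subgroup.mem_center_iff.2 fun g => by
      have := congrArg φ (Subgroup.mem_center_iff.1 x.2 (φ.symm g))
      simpa using this⟩
  haveI : Finite (MulAut P) := Finite.of_injective (fun φ : MulAut P => (φ : P → P))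
    fun _ _ h => MulEquiv.ext (congrFun h)
  haveI := Fintype.ofFinite (MulAut P)
  let T : Finset (Subgroup.center P) := Finset.univ.image fun φ : MulAut P => act φ zc
  have hzT : zc ∈ T := Finset.mem_image.2 ⟨1, Finset.mem_univ _, Subtype.ext rfl⟩
  let w : Subgroup.center P := ∏ x ∈ T, x
  have hsq : ∀ x ∈ T, x * x = 1 := by
    intro x hx
    obtain ⟨φ, -, rfl⟩ := Finset.mem_image.1 hx
    exact Subtype.ext (show φ z * φ z = 1 by rw [← map_mul, hz2, map_one])
  refine ⟨(w : P), congrArg Subtype.val (show w * w = 1 by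
    rw [← Finset.prod_mul_distrib]; exact Finset.prod_eq_one hsq), ?_, fun φ => ?_⟩
  · intro h
    have h1 : w = zc * ∏ x ∈ T.erase zc, x := (Finset.mul_prod_erase T (fun x => x) hzT).symm
    have h2 : ∏ x ∈ T.erase zc, x ∈ R.comap (Subgroup.center P).subtype := by
      refine Subgroup.prod_mem _ fun x hx => ?_
      obtain ⟨hne, hx⟩ := Finset.mem_erase.1 hx
      obtain ⟨φ, -, rfl⟩ := Finset.mem_image.1 hx
      exact himg φ fun e => hne (Subtype.ext e)
    have h3 : z ∈ Q ⊓ R := by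
      refine ⟨hzQ, ?_⟩
      have h4 := congrArg Subtype.val h1
      rw [h, Subgroup.coe_mul, eq_comm, mul_eq_one_iff_eq_inv] at h4
      show ((zc : Subgroup.center P) : P) ∈ R
      rw [h4]
      exact R.inv_mem h2
    rw [hd, Subgroup.mem_bot] at h3
    exact hz1 h3
  · let f : Subgroup.center P →* Subgroup.center P :=
      MonoidHom.mk' (act φ) fun a b => Subtype.ext (map_mul φ (a : P) (b : P))
    have hinjf : Function.Injective f := fun a b h =>
      Subtype.ext (φ.injective (congrArg Subtype.val h))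
    have himgT : T.image f = T := by
      refine Finset.eq_of_subset_of_card_le (fun x hx => ?_)
        (by rw [Finset.card_image_of_injective _ hinjf])
      obtain ⟨y, hy, rfl⟩ := Finset.mem_image.1 hx
      obtain ⟨ψ, -, rfl⟩ := Finset.mem_image.1 hy
      exact Finset.mem_image.2 ⟨φ * ψ, Finset.mem_univ _, Subtype.ext rfl⟩
    have : f w = w := by
      show f (∏ x ∈ T, x) = ∏ x ∈ T, x
      rw [map_prod]
      conv_rhs => rw [← himgT, Finset.prod_image fun a _ b _ h => hinjf h]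
    exact congrArg Subtype.val this

theorem not_isSimpleGroup {G : Type u} [Group G] [Finite G] (S : Sylow 2 G) (Q R : Subgroup G)
    (hQR : Cfsg.IsInternalDirectProduct Q R (S : Subgroup G))
    {n : ℕ} (hn : 1 ≤ n) (eQ : ↥Q ≃* QuaternionGroup (2 ^ n))
    (hR : ∀ r ∈ R, orderOf r = 2 → ∀ s ∈ R, r * s = s * r) : ¬ IsSimpleGroup G := by
  intro hsimp
  haveI : Fact (Nat.Prime 2) := ⟨Nat.prime_two⟩
  obtain ⟨hQS, hRS, hc, hd, hgen⟩ := hQR
  set S' := (S : Subgroup G) with hS'
  obtain ⟨hcentral, w, hw2, hw1, hfix⟩ := exists_fixed (P := S') S.2 (Q.subgroupOf S')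
    (R.subgroupOf S')
    (fun a ha b hb => Subtype.ext (hc a ha b hb))
    (by rw [Subgroup.subgroupOf, Subgroup.subgroupOf, ← Subgroup.comap_inf, hd,
      MonoidHom.comap_bot, Subgroup.ker_subtype])
    (by rw [← Subgroup.subgroupOf_sup hQS hRS, hgen, Subgroup.subgroupOf_self])
    hn ((Subgroup.subgroupOfEquivOfLe hQS).trans eQ)
    (fun r hr hr2 s hs => by
      rcases eq_or_ne r 1 with rfl | h1
      · rw [one_mul, mul_one]
      · exact Subtype.ext (hR r hr (by
          rw [Subgroup.orderOf_coe]; exact orderOf_eq_prime (by rw [pow_two, hr2]) h1) s hs))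
  have hw : orderOf (w : G) = 2 := by
    rw [Subgroup.orderOf_coe]
    exact orderOf_eq_prime (by rw [pow_two, hw2]) hw1
  have hiso : Cfsg.IsIsolatedInvolution (w : G) := by
    refine (Involutions.Isolated.iff_unique_in_sylow S hw w.2).2 fun g hg => ?_
    have hx : (⟨g * w * g⁻¹, hg⟩ : S') * ⟨g * w * g⁻¹, hg⟩ = 1 := Subtype.ext (by
      show g * (w : G) * g⁻¹ * (g * (w : G) * g⁻¹) = 1
      rw [show g * (w : G) * g⁻¹ * (g * (w : G) * g⁻¹) = g * ((w : G) * w) * g⁻¹ by group,
        show (w : G) * w = 1 from congrArg Subtype.val hw2, mul_one, mul_inv_cancel])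
    have hmem : ∀ x : S', x * x = 1 → (x : G) ∈ Subgroup.centralizer (S' : Set G) := fun x hx =>
      Subgroup.mem_centralizer_iff.2 fun s hs =>
        congrArg Subtype.val (Subgroup.mem_center_iff.1 (hcentral x hx) ⟨s, hs⟩)
    obtain ⟨m, hm, he⟩ := Sylow.conj_eq_normalizer_conj_of_mem_centralizer S (w : G) g⁻¹
      (hmem w hw2) (by rw [inv_inv]; exact hmem _ hx)
    rw [inv_inv] at he
    let φ : MulAut S' := (Subgroup.normalizerMonoidHom S') ⟨m⁻¹, inv_mem hm⟩
    have hφ := congrArg Subtype.val (hfix φ)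
    change m⁻¹ * (w : G) * m⁻¹⁻¹ = w at hφ
    rw [inv_inv] at hφ
    rw [he, hφ]
  have hO : Cfsg.oddCore G = ⊥ := by
    refine ((inferInstance : (Cfsg.oddCore G).Normal).eq_bot_or_eq_top).resolve_right fun h => ?_
    have := InvChar.Core.odd_card_oddCore (G := G)
    rw [h, Subgroup.card_top] at this
    exact Nat.not_even_iff_odd.2 this (even_iff_two_dvd.2 (hw ▸ orderOf_dvd_natCard _))
  have hcen := Main.mem_center_of_isolated hO hiso
  have htop : Subgroup.center G = ⊤ :=
    ((inferInstance : (Subgroup.center G).Normal).eq_bot_or_eq_top).resolve_left fun h => by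
      rw [h, Subgroup.mem_bot] at hcen
      rw [hcen, orderOf_one] at hw
      omega
  -- the quaternion group would be abelian
  haveI : NeZero (2 ^ n) := ⟨by positivity⟩
  have hn2 : 2 ≤ 2 ^ n := by
    calc 2 = 2 ^ 1 := rfl
      _ ≤ 2 ^ n := Nat.pow_le_pow_right (by norm_num) hn
  have h := congrArg (fun x : Q => eQ x) (Subtype.ext
    (Subgroup.mem_center_iff.1 (htop ▸ Subgroup.mem_top
      ((eQ.symm (QuaternionGroup.a 1) : Q) : G)) ((eQ.symm (QuaternionGroup.xa 0) : Q) : G)) :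
    eQ.symm (QuaternionGroup.xa 0) * eQ.symm (QuaternionGroup.a 1) =
      eQ.symm (QuaternionGroup.a 1) * eQ.symm (QuaternionGroup.xa 0))
  simp only [map_mul, MulEquiv.apply_symm_apply, QuaternionGroup.xa_mul_a,
    QuaternionGroup.a_mul_xa] at h
  injection h with h
  rw [zero_add, zero_sub] at h
  have h3 : ((2 : ℕ) : ZMod (2 * 2 ^ n)) = 0 := by push_cast; linear_combination h
  rw [ZMod.natCast_eq_zero_iff] at h3
  have := Nat.le_of_dvd (by norm_num) h3
  omega

end Cfsg.Agent.ZStar.QuaternionFactor
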