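import Cfsg.Agent.Lib.ZStar.FusionCenter
import Cfsg.Agent.Lib.Cores.Nilpotent
import Cfsg.Agent.Lib.Coprime.Action

/-!
A complement `Q` of a normal subgroup `N`, a 2-group with an element `t ∈ Z(Q) ∩ [Q, Q]` having the
same fixed points on `N` as `Q`: `[N, Q]` has odd order.
-/

set_option autoImplicit false
set_option linter.style.haveILetI false

namespace Cfsg.Agent.ZStar.SplitCommutator

open Subgroup
open scoped commutatorElement

universe u

variable {G : Type u} [Group G] [Finite G] {N Q : Subgroup G} {t : G}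

/-- A map killing commutators. -/
theorem eq_one_of_mem_commutator {t : G} (htQ : t ∈ ⁅Q, Q⁆) (f : G → G) (f1 : f 1 = 1)
    (hmul : ∀ a ∈ Q, ∀ b ∈ Q, f (a * b) = f a * f b)
    (hcomm : ∀ a ∈ Q, ∀ b ∈ Q, f a * f b = f b * f a) : f t = 1 := by
  let φ : ↥Q →* G :=
    { toFun := fun x => f x, map_one' := f1, map_mul' := fun a b => hmul a a.2 b b.2 }
  have hker : ⁅Q, Q⁆ ≤ φ.ker.map Q.subtype := by
    rw [commutator_le]
    intro a ha b hb
    refine ⟨⁅(⟨a, ha⟩ : Q), ⟨b, hb⟩⁆, ?_, rfl⟩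
    rw [SetLike.mem_coe, MonoidHom.mem_ker, map_commutatorElement, commutatorElement_eq_one_iff_mul_comm]
    exact hcomm a ha b hb
  obtain ⟨x, hx, rfl⟩ := hker htQ
  exact hx

/-- The `Q`-invariant 2-subgroups of `N` are centralized by `Q`. -/
theorem le_centralizer [N.Normal] (hQ : IsPGroup 2 ↥Q) (htQ : t ∈ ⁅Q, Q⁆)
    (hC : N ⊓ centralizer (Q : Set G) = N ⊓ centralizer ({t} : Set G))
    {S : Subgroup G} (hS : IsPGroup 2 ↥S) (hQS : Q ≤ S) :
    N ⊓ S ≤ centralizer (Q : Set G) := by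
  haveI : Fact (Nat.Prime 2) := ⟨Nat.prime_two⟩
  set T := N ⊓ S with hT
  set C := T ⊓ centralizer (Q : Set G) with hCdef
  by_contra hne
  have hCT : C < T := lt_of_le_of_ne inf_le_left fun h => hne (h ▸ inf_le_right)
  haveI : Group.IsNilpotent ↥T := (hS.to_le inf_le_right).isNilpotent
  set X := T ⊓ normalizer (C : Set G) with hX
  have hCX : C < X := by
    have h1 : C.subgroupOf T < normalizer ((C.subgroupOf T : Subgroup T) : Set T) :=
      Group.normalizerCondition_of_isNilpotent _ (lt_top_iff_ne_top.2 fun h =>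
        hCT.ne (le_antisymm inf_le_left (subgroupOf_eq_top.1 h)))
    refine lt_of_le_of_ne (le_inf inf_le_left le_normalizer) fun h => h1.ne ?_
    refine le_antisymm le_normalizer fun x hx => ?_
    rw [← subgroupOf_normalizer_eq (inf_le_left : C ≤ T)] at hx
    rw [mem_subgroupOf, h]
    exact ⟨x.2, hx⟩
  set W := S ⊓ normalizer (C : Set G) with hW
  have hXW : X ≤ W := inf_le_inf_right _ inf_le_right
  have hQC : ∀ q ∈ Q, ∀ c ∈ C, q * c * q⁻¹ = c := fun q hq c hc => by
    rw [mem_centralizer_iff.1 hc.2 q hq, mul_inv_cancel_right]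
  have hQW : Q ≤ W := le_inf hQS fun q hq => by
    refine mem_normalizer_iff.2 fun c => ⟨fun hc => by rwa [hQC q hq c hc], fun hc => ?_⟩
    have := hQC q⁻¹ (inv_mem hq) _ hc
    rw [← this] at hc
    simpa [mul_assoc] using hc
  have hCW : C ≤ W := hCX.le.trans hXW
  set D := C.subgroupOf W
  haveI : D.Normal := (normal_subgroupOf_iff_le_normalizer hCW).2 inf_le_right
  haveI : (X.subgroupOf W).Normal := by
    refine ⟨fun x hx w => ?_⟩
    rw [mem_subgroupOf] at hx ⊢
    refine ⟨⟨?_, ?_⟩, ?_⟩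
    · simpa using (inferInstance : N.Normal).conj_mem _ hx.1.1 (w : G)
    · simpa using (S.mul_mem (S.mul_mem w.2.1 hx.1.2) (S.inv_mem w.2.1))
    · simpa using (normalizer (C : Set G)).mul_mem
        ((normalizer (C : Set G)).mul_mem w.2.2 hx.2) ((normalizer (C : Set G)).inv_mem w.2.2)
  set M := (X.subgroupOf W).map (QuotientGroup.mk' D) with hM
  haveI : M.Normal := Normal.map inferInstance _ (QuotientGroup.mk'_surjective D)
  haveI : Group.IsNilpotent (W ⧸ D) := ((hS.to_le inf_le_left).to_quotient D).isNilpotent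
  have hM1 : M ≠ ⊥ := by
    rw [hM, Ne, Subgroup.map_eq_bot_iff, QuotientGroup.ker_mk']
    exact fun hle => hCX.not_ge fun x hx => hle (x := ⟨x, hXW hx⟩) hx
  obtain ⟨m, hm, hm1⟩ := (Subgroup.bot_or_exists_ne_one _).resolve_left (Cores.inf_center_ne_bot hM1)
  obtain ⟨⟨x, hx, rfl⟩, hmz⟩ := hm
  have hxX : (x : G) ∈ X := hx
  have hxC : (x : G) ∉ C := fun h => hm1 ((QuotientGroup.eq_one_iff x).2 h)
  set y : G := (x : G) with hy
  let f : G → G := fun q => q * y * q⁻¹ * y⁻¹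
  have hfC : ∀ q ∈ Q, f q ∈ C := fun q hq => by
    have h := mem_center_iff.1 hmz (QuotientGroup.mk' D ⟨q, hQW hq⟩)
    have h2 : (⟨q, hQW hq⟩ : W) * x * (⟨q, hQW hq⟩ : W)⁻¹ * x⁻¹ ∈ D := by
      rw [← QuotientGroup.eq_one_iff]
      show QuotientGroup.mk' D _ = 1
      rw [map_mul, map_mul, map_mul, h, map_inv, map_inv, mul_inv_cancel_right, mul_inv_cancel]
    exact h2
  have hfcomm : ∀ q ∈ Q, ∀ c ∈ C, f q * c = c * f q := by
    intro q hq c hc
    set c' := y⁻¹ * c * y with hc'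
    have hc'C : c' ∈ C := by
      have := (mem_normalizer_iff''.1 hxX.2 c).1 hc
      exact this
    have h1 := hQC q hq c' hc'C
    have h2 : q * y * q⁻¹ * (q * c' * q⁻¹) * (q * y * q⁻¹)⁻¹ = q * (y * c' * y⁻¹) * q⁻¹ := by group
    have h3 : y * c' * y⁻¹ = c := by rw [hc']; group
    rw [h1, h3, hQC q hq c hc] at h2
    calc f q * c = q * y * q⁻¹ * c' * (q * y * q⁻¹)⁻¹ * f q := by rw [hc']; simp only [f]; group
      _ = c * f q := by rw [h2]
  have hft : f t = 1 := by
    refine eq_one_of_mem_commutator htQ f (by simp [f]) (fun a ha b hb => ?_)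
      (fun a ha b hb => hfcomm a ha _ (hfC b hb))
    calc f (a * b) = (a * f b * a⁻¹) * f a := by simp only [f]; group
      _ = f b * f a := by rw [hQC a ha _ (hfC b hb)]
      _ = f a * f b := (hfcomm a ha _ (hfC b hb)).symm
  have hcomm : t * y = y * t := by
    have := eq_mul_of_mul_inv_eq (hft : t * y * t⁻¹ * y⁻¹ = 1)
    rw [one_mul] at this
    exact eq_mul_of_mul_inv_eq this
  have hyN : y ∈ N ⊓ centralizer ({t} : Set G) :=
    ⟨hxX.1.1, mem_centralizer_singleton_iff.2 hcomm.symm⟩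
  rw [← hC] at hyN
  exact hxC ⟨hxX.1, hyN.2⟩

theorem main [N.Normal] (hG : Q ⊔ N = ⊤) (hQ : IsPGroup 2 ↥Q) (hdisj : Q ⊓ N = ⊥)
    (htZ : t ∈ Q ⊓ centralizer (Q : Set G)) (htQ : t ∈ ⁅Q, Q⁆)
    (hC : N ⊓ centralizer (Q : Set G) = N ⊓ centralizer ({t} : Set G)) :
    Odd (Nat.card ↥⁅N, Q⁆) := by
  haveI : Fact (Nat.Prime 2) := ⟨Nat.prime_two⟩
  obtain ⟨S, hQS⟩ := hQ.exists_le_sylow
  have hT := le_centralizer hQ htQ hC S.2 hQS
  have htq : ∀ q ∈ Q, q * t = t * q := fun q hq => mem_centralizer_iff.1 htZ.2 q hq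
  have htS : t ∈ (S : Subgroup G) := hQS htZ.1
  have hdecomp : ∀ g : G, ∃ n ∈ N, ∃ q ∈ Q, g = n * q := fun g => by
    have : g ∈ N ⊔ Q := by rw [sup_comm, hG]; exact mem_top g
    obtain ⟨n, hn, q, hq, rfl⟩ := mem_sup_of_normal_left.1 this
    exact ⟨n, hn, q, hq, rfl⟩
  have hcenS : ∀ s ∈ (S : Subgroup G), Commute t s := fun s hs => by
    obtain ⟨n, hn, q, hq, rfl⟩ := hdecomp s
    have hnS : n ∈ (S : Subgroup G) := by
      have := mul_mem hs (inv_mem (hQS hq))
      rwa [mul_inv_cancel_right] at this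
    exact (mem_centralizer_iff.1 (hT ⟨hn, hnS⟩) t htZ.1).trans rfl |> fun h =>
      (show Commute t n from h).mul_right (htq q hq).symm
  -- `t` is its only conjugate in `S`
  have hiso : ∀ n ∈ N, n * t * n⁻¹ ∈ (S : Subgroup G) → n * t * n⁻¹ = t := by
    intro n hn hnS
    have hsN : t⁻¹ * (n * t * n⁻¹) ∈ N := by
      have := mul_mem ((inferInstance : N.Normal).conj_mem _ hn t⁻¹) (inv_mem hn)
      simpa [mul_assoc] using this
    have hsS : t⁻¹ * (n * t * n⁻¹) ∈ (S : Subgroup G) := mul_mem (inv_mem htS) hnS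
    have hsQ := mem_centralizer_iff.1 (hT ⟨hsN, hsS⟩)
    have ht' : ∀ q ∈ Q, q * (n * t * n⁻¹) = (n * t * n⁻¹) * q := fun q hq => by
      have h := (show Commute q t from htq q hq).mul_right (hsQ q hq)
      rwa [mul_inv_cancel_left] at h
    let m : G → G := fun q => n⁻¹ * q * n * q⁻¹
    have hmC : ∀ q ∈ Q, m q ∈ N ⊓ centralizer (Q : Set G) := fun q hq => by
      rw [hC]
      refine ⟨?_, mem_centralizer_singleton_iff.2 ?_⟩
      · have := mul_mem (inv_mem hn) ((inferInstance : N.Normal).conj_mem _ hn q)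
        simpa [m, mul_assoc] using this
      · have h1 : Commute (n⁻¹ * q * n) t := by
          have := (show Commute q (n * t * n⁻¹) from ht' q hq).map (MulAut.conj n⁻¹).toMonoidHom
          simpa [mul_assoc] using this
        exact (h1.mul_left (show Commute q t from htq q hq).inv_left).eq
    have hmul : ∀ a ∈ Q, ∀ b ∈ Q, m (a * b) = m a * m b := fun a ha b hb => by
      calc m (a * b) = m a * (a * m b * a⁻¹) := by simp only [m]; group
        _ = m a * m b := by
          rw [mem_centralizer_iff.1 (hmC b hb).2 a ha, mul_inv_cancel_right]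
    have hmq : ∀ a ∈ Q, m a * t = t * m a := fun a ha =>
      ((mem_centralizer_iff.1 (hmC a ha).2) t htZ.1).symm
    have hmt : ∀ a ∈ Q, Commute (m a) (m t) := fun a ha => by
      show m a * m t = m t * m a
      rw [← hmul a ha t htZ.1, htq a ha, hmul t htZ.1 a ha]
    have hnm : ∀ a ∈ Q, n * m a * n⁻¹ ∈ centralizer (Q : Set G) := fun a ha => by
      have h1 : Commute (m a) (n⁻¹ * t * n) := by
        have := (hmt a ha).mul_right (show Commute (m a) t from hmq a ha)
        rwa [show m t * t = n⁻¹ * t * n by simp only [m]; group] at this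
      have h2 : Commute (n * m a * n⁻¹) t := by
        have := h1.map (MulAut.conj n).toMonoidHom
        simpa [mul_assoc] using this
      have h3 : n * m a * n⁻¹ ∈ N ⊓ centralizer ({t} : Set G) :=
        ⟨(inferInstance : N.Normal).conj_mem _ (hmC a ha).1 n, mem_centralizer_singleton_iff.2 h2.eq⟩
      rw [← hC] at h3
      exact h3.2
    have hcomm : ∀ a ∈ Q, ∀ b ∈ Q, m a * m b = m b * m a := fun a ha b hb => by
      have h1 : Commute (n * m a * n⁻¹) b :=
        ((mem_centralizer_iff.1 (hnm a ha)) b hb).symm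
      have h2 : Commute (m a) (n⁻¹ * b * n) := by
        have := h1.map (MulAut.conj n⁻¹).toMonoidHom
        simpa [mul_assoc] using this
      have h3 := h2.mul_right (show Commute (m a) b from
        ((mem_centralizer_iff.1 (hmC a ha).2) b hb).symm).inv_right
      exact h3.eq
    have h := eq_one_of_mem_commutator htQ m (by simp [m]) hmul hcomm
    have h' : n⁻¹ * t * n = t := by
      have := eq_mul_of_mul_inv_eq (h : n⁻¹ * t * n * t⁻¹ = 1)
      rwa [one_mul] at this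
    calc n * t * n⁻¹ = n * (n⁻¹ * t * n) * n⁻¹ := by rw [h']
      _ = t := by group
  have hiso' : ∀ g : G, g * t * g⁻¹ ∈ (S : Subgroup G) → g * t * g⁻¹ = t := by
    intro g hg
    obtain ⟨n, hn, q, hq, rfl⟩ := hdecomp g
    have e : n * q * t * (n * q)⁻¹ = n * t * n⁻¹ := by
      rw [mul_assoc n q t, htq q hq]; group
    rw [e] at hg ⊢
    exact hiso n hn hg
  have hW : ∀ y ∈ zpowers t, ∀ g : G, g * y * g⁻¹ ∈ (S : Subgroup G) → g * y * g⁻¹ = y := by
    intro y hy g hg
    obtain ⟨n, hn, q, hq, rfl⟩ := hdecomp g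
    obtain ⟨i, rfl⟩ := mem_zpowers_iff.1 hy
    have hqi : q * t ^ i * q⁻¹ = t ^ i := by
      rw [((show Commute q t from htq q hq).zpow_right i).eq, mul_inv_cancel_right]
    have e : n * q * t ^ i * (n * q)⁻¹ = n * t ^ i * n⁻¹ := by
      calc _ = n * (q * t ^ i * q⁻¹) * n⁻¹ := by group
        _ = _ := by rw [hqi]
    rw [e] at hg ⊢
    set C := centralizer ({t ^ i} : Set G)
    have hSC : (S : Subgroup G) ≤ C := fun s hs =>
      mem_centralizer_singleton_iff.2 ((hcenS s hs).zpow_left i).eq.symm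
    have hx : n⁻¹ * t * n ∈ C := by
      have h1 : Commute t (n * t ^ i * n⁻¹) := hcenS _ hg
      have h2 := h1.map (MulAut.conj n⁻¹).toMonoidHom
      exact mem_centralizer_singleton_iff.2 (by simpa [mul_assoc] using h2.eq)
    have hxp : IsPGroup 2 (zpowers (⟨n⁻¹ * t * n, hx⟩ : C)) := by
      obtain ⟨k, hk⟩ := IsPGroup.iff_orderOf.1 S.2 ⟨t, htS⟩
      refine IsPGroup.of_card (n := k) ?_
      rw [Nat.card_zpowers, ← Subgroup.orderOf_coe]
      show orderOf (n⁻¹ * t * n) = 2 ^ k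
      rw [← hk, ← Subgroup.orderOf_coe]
      simpa using Involutions.Basic.orderOf_conj (n⁻¹) t
    obtain ⟨R, hR⟩ := hxp.exists_le_sylow
    obtain ⟨⟨c, hc⟩, hle⟩ := MulAction.exists_smul_eq C R (S.subtype hSC)
    have hmem : (⟨c, hc⟩ : C) * ⟨n⁻¹ * t * n, hx⟩ * (⟨c, hc⟩ : C)⁻¹ ∈
        ((S.subtype hSC : Sylow 2 C) : Subgroup C) := by
      rw [← hle, ← SetLike.mem_coe, Sylow.coe_subgroup_smul]
      exact ⟨_, hR (mem_zpowers _), rfl⟩
    have hmem' : (c * n⁻¹) * t * (c * n⁻¹)⁻¹ ∈ (S : Subgroup G) := by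
      have h : c * (n⁻¹ * t * n) * c⁻¹ ∈ (S : Subgroup G) := hmem
      simpa [mul_assoc] using h
    have hfix := hiso' _ hmem'
    have hfixi : (c * n⁻¹) * t ^ i * (c * n⁻¹)⁻¹ = t ^ i := by
      rw [← conj_zpow, hfix]
    have hci : c * t ^ i * c⁻¹ = t ^ i := by
      rw [mem_centralizer_singleton_iff.1 hc, mul_inv_cancel_right]
    calc n * t ^ i * n⁻¹ = n * (c⁻¹ * (c * t ^ i * c⁻¹) * c) * n⁻¹ := by group
      _ = n * c⁻¹ * t ^ i * (n * c⁻¹)⁻¹ := by rw [hci]; group
      _ = n * c⁻¹ * ((c * n⁻¹) * t ^ i * (c * n⁻¹)⁻¹) * (n * c⁻¹)⁻¹ := by rw [hfixi]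
      _ = t ^ i := by group
  have hcentral := FusionCenter.mk_mem_center S htS hcenS hW
  set O := Cfsg.oddCore G with hO
  haveI : O.Normal := inferInstanceAs (Cfsg.oddCore G).Normal
  set O₁ := O ⊓ N
  have hodd : Odd (Nat.card O₁) :=
    InvChar.Core.odd_card_oddCore.of_dvd_nat (card_dvd_of_le inf_le_left)
  refine hodd.of_dvd_nat (card_dvd_of_le ?_)
  have hcom : ∀ n ∈ N, ∀ a : G, a ∈ zpowers t → n⁻¹ * (a * n * a⁻¹) ∈ O₁ := by
    intro n hn a ha
    refine ⟨?_, N.mul_mem (N.inv_mem hn) ((inferInstance : N.Normal).conj_mem _ hn a)⟩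
    show _ ∈ O
    have hcz : QuotientGroup.mk' O a ∈ Subgroup.center (G ⧸ O) := by
      obtain ⟨i, rfl⟩ := mem_zpowers_iff.1 ha
      rw [map_zpow]; exact zpow_mem hcentral i
    rw [← QuotientGroup.eq_one_iff]
    show QuotientGroup.mk' O _ = 1
    rw [map_mul, map_mul, map_mul, map_inv, map_inv, ← mem_center_iff.1 hcz (QuotientGroup.mk' O n),
      mul_inv_cancel_right, inv_mul_cancel]
  have hcop : (Nat.card (zpowers t)).Coprime (Nat.card O₁) := by
    obtain ⟨k, hk⟩ := IsPGroup.iff_orderOf.1 S.2 ⟨t, htS⟩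
    rw [Nat.card_zpowers, show orderOf t = 2 ^ k by rw [← hk, ← Subgroup.orderOf_coe]]
    exact (Nat.coprime_two_left.2 hodd).pow_left k
  have hsolv : Group.IsSolvable (zpowers t) := inferInstance
  rw [commutator_le]
  intro n hn q hq
  obtain ⟨o, ho, hc⟩ := Coprime.exists_fixed_in_coset (A := zpowers t) (N := O₁)
    le_normalizer_of_normal hcop (Or.inl hsolv) (hcom n hn)
  have hcC : n * o ∈ N ⊓ centralizer ({t} : Set G) :=
    ⟨mul_mem hn ho.2, mem_centralizer_singleton_iff.2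
      ((mem_centralizer_iff.1 hc) t (mem_zpowers t)).symm⟩
  rw [← hC] at hcC
  have hq' := mem_centralizer_iff.1 hcC.2 q hq
  have e : ⁅n, q⁆ = n * o * (o⁻¹ * (q * o * q⁻¹)) * (n * o)⁻¹ := by
    rw [commutatorElement_def]
    have e2 : n = n * o * o⁻¹ := by group
    calc n * q * n⁻¹ * q⁻¹ = n * o * (o⁻¹ * q * o) * (n * o)⁻¹ * q⁻¹ := by group
      _ = n * o * (o⁻¹ * q * o) * q⁻¹ * (n * o)⁻¹ := by
        have h5 : Commute q (n * o) := hq'
        rw [mul_assoc (n * o * (o⁻¹ * q * o)), (h5.inv_left.inv_right).eq.symm, ← mul_assoc]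
      _ = _ := by group
  rw [e]
  exact (inferInstance : O₁.Normal).conj_mem _
    (mul_mem (inv_mem ho) ((inferInstance : O₁.Normal).conj_mem _ ho q)) _

end Cfsg.Agent.ZStar.SplitCommutator
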